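import Cfsg.Agent.H76.LocalTwins
import Cfsg.Agent.H44.FischerDx
import Cfsg.Agent.Cores.PCore

set_option autoImplicit false

/-!
Twins in every `D_x` leave no commuting pairs in `D_x`, and then the group is `S₅`.
-/

namespace Cfsg.Agent.H76.LocalTwins

open LocallyS3 (nb cj cj_cj cj_injective commute_cj_iff perm_five_center perm_five_orbits)

theorem comb_V4 : ∀ i j k l : Fin 5, i ≠ j → i ≠ k → i ≠ l → j ≠ k → j ≠ l → k ≠ l → ∀ x : Fin 5,
    Equiv.swap i k (Equiv.swap j l (Equiv.swap i j (Equiv.swap k l x))) =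
      Equiv.swap i l (Equiv.swap j k x) := by
  intro i j k l h1 h2 h3 h4 h5 h6 x
  simp only [Equiv.swap_apply_def]
  grind

theorem comb_rest : ∀ p r : Fin 5, p ≠ r → ∃ i j k : Fin 5, i ≠ j ∧ j ≠ k ∧ i ≠ k ∧
    (i ≠ p ∧ i ≠ r) ∧ (j ≠ p ∧ j ≠ r) ∧ (k ≠ p ∧ k ≠ r) := by
  decide +kernel

theorem comb_four : ∀ m : Fin 5, ∃ i j k l : Fin 5, i ≠ j ∧ i ≠ k ∧ i ≠ l ∧ j ≠ k ∧ j ≠ l ∧
    k ≠ l ∧ i ≠ m ∧ j ≠ m ∧ k ≠ m ∧ l ≠ m := by
  decide +kernel

theorem comb_two : ∀ i j k : Fin 5, i ≠ j → j ≠ k → i ≠ k → ∃ l m : Fin 5, l ≠ m ∧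
    (l ≠ i ∧ l ≠ j ∧ l ≠ k) ∧ (m ≠ i ∧ m ≠ j ∧ m ≠ k) ∧
      ∀ q : Fin 5, q = i ∨ q = j ∨ q = k ∨ q = l ∨ q = m := by
  decide +kernel

theorem comb_meet : ∀ l m : Fin 5, l ≠ m → ∀ p r : Fin 5, p ≠ r →
    ¬ (Equiv.swap p r = Equiv.swap l m) →
    (∀ x : Fin 5, Equiv.swap p r (Equiv.swap l m x) = Equiv.swap l m (Equiv.swap p r x)) →
      p ≠ l ∧ p ≠ m ∧ r ≠ l ∧ r ≠ m := by
  decide +kernel

set_option synthInstance.maxSize 2000 in
set_option synthInstance.maxHeartbeats 200000 in
theorem comb_third : ∀ l m : Fin 5, l ≠ m → ∀ p r s : Fin 5, p ≠ r → r ≠ s → p ≠ s →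
    ¬ (p ≠ l ∧ p ≠ m ∧ r ≠ l ∧ r ≠ m) → ¬ (r ≠ l ∧ r ≠ m ∧ s ≠ l ∧ s ≠ m) →
    ¬ (p ≠ l ∧ p ≠ m ∧ s ≠ l ∧ s ≠ m) → ∃ n : Fin 5, n ≠ l ∧ n ≠ m ∧
      (l = p ∨ l = r ∨ l = s) ∧ (m = p ∨ m = r ∨ m = s) ∧ (n = p ∨ n = r ∨ n = s) := by
  decide +kernel

set_option synthInstance.maxSize 2000 in
set_option synthInstance.maxHeartbeats 200000 in
theorem comb_final : ∀ l m n : Fin 5, l ≠ m → n ≠ l → n ≠ m → ∀ p r s : Fin 5, p ≠ r → r ≠ s →
    p ≠ s → ¬ (p ≠ l ∧ p ≠ m ∧ r ≠ l ∧ r ≠ m) → ¬ (r ≠ l ∧ r ≠ m ∧ s ≠ l ∧ s ≠ m) →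
    ¬ (p ≠ l ∧ p ≠ m ∧ s ≠ l ∧ s ≠ m) →
    ¬ ((p = l ∨ p = m ∨ p = n) ∧ (r = l ∨ r = m ∨ r = n)) →
    ¬ ((r = l ∨ r = m ∨ r = n) ∧ (s = l ∨ s = m ∨ s = n)) →
    ¬ ((p = l ∨ p = m ∨ p = n) ∧ (s = l ∨ s = m ∨ s = n)) → False := by
  decide +kernel

variable {G : Type*} [Group G] {D : Set G} (H : IsRigid D)

include H

open Equiv in
/-- With twins everywhere there are no commuting pairs among the members commuting with `x`. -/
theorem M_eq_empty (hT : ∀ y ∈ D, ∀ p ∈ nb D y, ∃ q, q ≠ p ∧ Tw D y p q) {x a : G} (hx : x ∈ D)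
    (ha : a ∈ nb D x) : M D x a = ∅ := by
  rw [Set.eq_empty_iff_forall_notMem]
  intro c hc
  have hcD : c ∈ D := hc.1.1
  obtain ⟨f, hfa, hf⟩ := hT c hcD a ⟨ha.1, hc.2.2.1.symm, hc.2.2.2.symm⟩
  have hxc : x ∈ M D c a := ⟨nb_symm hx hc.1, nb_symm hx ha⟩
  have hxf : x ∈ M D c f := by rw [← hf.2.2]; exact hxc
  obtain ⟨e, he, hef, hec⟩ := exists_sep H hf hfa.symm
  have hex : Commute e x := sep_commute H hcD hf hfa.symm hxc he hef hec
  have hfnb : f ∈ nb D x := ⟨hf.2.1.1, hxf.2.2.1.symm, hxf.2.2.2.symm⟩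
  have henx : e ∈ nb D x := ⟨he.1, fun q => hec (q ▸ hc.1.2.2), hex.symm⟩
  have hfaN : ¬ Commute f a := Tw.not_commute hf.symm hfa
  obtain ⟨φ, h0, h1, h2, h3⟩ := exists_hom H hcD he.1 hf.2.1.1 ha.1 (fun q => hec q.symm) hef
    hfaN hf.2.1.2.2 hc.2.2.2.symm he.2.2.symm
  have hφx : ∀ g : Perm (Fin 5), Commute (φ g) x := by
    intro g
    have hle : (⊤ : Subgroup (Perm (Fin 5))) ≤ (Subgroup.centralizer ({x} : Set G)).comap φ := by
      rw [← H66.closure_adjSwap 4, Subgroup.closure_le]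
      rintro _ ⟨i, hi, rfl⟩
      rw [SetLike.mem_coe, Subgroup.mem_comap, Subgroup.mem_centralizer_singleton_iff]
      have hi' : i < 4 := hi
      rw [H66.adjSwap_of_lt hi']
      interval_cases i
      · show φ (swap 0 1) * x = x * φ (swap 0 1)
        rw [h0]; exact hc.1.2.2.symm.eq
      · show φ (swap 1 2) * x = x * φ (swap 1 2)
        rw [h1]; exact hex.eq
      · show φ (swap 2 3) * x = x * φ (swap 2 3)
        rw [h2]; exact hfnb.2.2.symm.eq
      · show φ (swap 3 4) * x = x * φ (swap 3 4)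
        rw [h3]; exact ha.2.2.symm.eq
    exact Subgroup.mem_centralizer_singleton_iff.1 (hle trivial)
  -- a twin of `e`
  obtain ⟨e', hne, hee⟩ := hT x hx e henx
  have hee' : ¬ Commute e e' := Tw.not_commute hee hne.symm
  set q := e * e' with hq
  have hq3 : q ^ 3 = 1 := cube H he.1 hee.2.1.1 hee'
  have hqx : Commute q x := hex.mul_left hee.2.1.2.2.symm
  have hqy : ∀ y ∈ nb D x, y ≠ e → Commute e y → Commute q y := fun y hy hye hey =>
    hey.mul_left (Tw.commute hee hy hye hey).2.2.2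
  have hqa : Commute q a := hqy a ha he.2.1.symm he.2.2.symm
  have hce : ¬ Commute c e := fun q => hec q.symm
  have hnoc : ¬ Tw D x e c := fun h => hef
    (Tw.commute h.symm hfnb hf.2.1.2.1 hf.2.1.2.2).2.2.2
  have hce' : ¬ Commute c e' := fun h => by
    by_cases hq' : c = e'
    · exact hnoc (hq' ▸ hee)
    · exact hce (Tw.commute hee.symm hc.1 hq' h.symm).2.2.2.symm
  -- rank three
  have hqq : Commute q (c * q * c) := by
    refine rank_three (sq H hcD) (sq H he.1) (sq H hee.2.1.1) (cube H hcD he.1 hce)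
      (cube H hcD hee.2.1.1 hce') ?_
    have hp : cj c e ∈ nb D x := by
      have h := cj_nb H c henx
      rwa [cj_eq_self hc.1.2.2.symm] at h
    have hb := braid H hcD he.1 hce
    have hpn : ¬ Commute (cj c e) e' := by
      intro hh
      by_cases hpe : cj c e = e'
      · apply hnoc
        have h1 := Tw.conj' H hee (g := e) hex
        rwa [cj_eq_self (Commute.refl e), ← hpe, hb, cj_cj, sq H he.1,
          show cj (1 : G) c = c by simp [cj]] at h1
      · have hm := (Tw.commute hee.symm hp hpe hh.symm).2.2.2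
        rw [hb, ← cj_eq_self (Commute.refl e), cj_eq_self (Commute.refl e)] at hm
        have h2 : Commute (cj e e) (cj e c) := by rwa [cj_eq_self (Commute.refl e)]
        exact hce (commute_cj_iff.1 h2).symm
    have h := cube H hp.1 hee.2.1.1 hpn
    rwa [cj, inv' H hcD, show c * e * c * e' = c * e * (c * e') by group] at h
  -- conjugation by `q * (c * q * c)` fixes `f`
  set n := q * (c * q * c) with hn
  have hnx : Commute n x := hqx.mul_left ((hc.1.2.2.symm.mul_left hqx).mul_left hc.1.2.2.symm)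
  have hnc : Commute n c := by
    show n * c = c * n
    conv_lhs => rw [hn, hqq.eq]
    rw [hn, show c * q * c * q * c = c * (q * (c * q * c)) by group]
  have hca : Commute c a := hc.2.2.2.symm
  have hna : Commute n a := hqa.mul_left ((hca.mul_left hqa).mul_left hca)
  have hfe' : ¬ Commute f e' := fun h => by
    by_cases hfe : f = e'
    · apply hfaN
      have h' := Tw.commute (hfe ▸ hee) ha he.2.1.symm he.2.2.symm
      exact h'.2.2.2
    · exact hef (Tw.commute hee.symm hfnb hfe h.symm).2.2.2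
  have hTq : Tw D x f (cj q f) := by
    have h1 : Tw D x (cj e f) (cj e' f) := by
      rw [braid H he.1 hf.2.1.1 hef, braid H hee.2.1.1 hf.2.1.1 (fun h => hfe' h.symm)]
      exact Tw.conj' H hee hfnb.2.2.symm
    have h2 := Tw.conj' H h1 (g := e) hex
    rwa [cj_cj, sq H he.1, show cj (1 : G) f = f by simp [cj], cj_cj] at h2
  have hcf : Commute c f := hf.2.1.2.2
  have hTn : Tw D x f (cj n f) := by
    have h2 := Tw.conj' H hTq (g := c) hc.1.2.2.symm
    rw [cj_eq_self hcf, cj_cj] at h2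
    have e1 : cj (c * q * c) f = cj (c * q) f := by rw [← cj_cj (c * q) c, cj_eq_self hcf]
    rw [← e1] at h2
    have h3 := Tw.conj' H h2 (g := q) hqx
    rw [cj_cj] at h3
    exact hTq.trans h3
  have hTc : Tw D c f (cj n f) := by
    have h2 := Tw.conj' H hf hnc
    rw [cj_eq_self hna] at h2
    exact hf.symm.trans h2
  have hnf : Commute n f := by
    refine commute_of_cj_eq ?_
    by_contra hne'
    obtain ⟨g, hg, hgf, hgx⟩ := exists_sep H hTn (fun h => hne' h.symm)
    have hcM : c ∈ M D x f := ⟨hc.1, hcD, hf.2.1.2.1.symm, hcf.symm⟩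
    have hgc := sep_commute H hx hTn (fun h => hne' h.symm) hcM hg hgf hgx
    have hgc' : g ≠ c := fun h => hgf (h ▸ hTc.2.1.2.2)
    exact hgf (Tw.commute hTc ⟨hg.1, hgc', hgc.symm⟩ hg.2.1 hg.2.2).2.2.2.symm
  -- rotate
  set γ : Perm (Fin 5) := swap 0 4 * swap 0 1 with hγ
  have hd : Commute q (φ (swap 0 4)) := by
    obtain ⟨g, hg⟩ : ∃ g : Perm (Fin 5), g * swap 1 2 * g⁻¹ = swap 0 4 :=
      ⟨_, perm_five_facts.symm⟩
    have hgd : φ (swap 0 4) = cj (φ g) e := by rw [← hg, map_mul, map_mul, map_inv, h1]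
    have hnb : φ (swap 0 4) ∈ nb D x := by
      rw [hgd]
      have h := cj_nb H (φ g) henx
      rwa [cj_eq_self (hφx g)] at h
    have hed : Commute e (φ (swap 0 4)) := by
      rw [← h1]
      exact (show Commute (swap (1 : Fin 5) 2) (swap 0 4) by unfold Commute SemiconjBy; decide).map φ
    refine hqy _ hnb (fun hde => hef ?_) hed
    have h := congrArg (cj (φ (swap 2 3))) hde
    rw [← h1] at h
    simp only [cj, ← map_mul, ← map_inv] at h
    rw [show swap (2 : Fin 5) 3 * swap 0 4 * (swap 2 3)⁻¹ = swap 0 4 by decide, hde, ← h1,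
      map_mul, map_mul, map_inv, h2, h1] at h
    exact ((mul_inv_eq_iff_eq_mul.1 h.symm : f * e = e * f)).symm
  have hγA : cj (φ γ) (c * q * c) = q := by
    have e2 : φ γ * c = φ (swap 0 4) := by
      rw [← h0, ← map_mul]; congr 1
      rw [hγ, mul_assoc, Equiv.swap_mul_self, mul_one]
    rw [show c * q * c = cj c q by rw [cj, inv' H hcD], cj_cj, e2]
    exact cj_eq_self hd.symm
  have hγ3 : φ γ * (φ γ * φ γ) = 1 := by
    rw [← map_mul, ← map_mul, show γ * (γ * γ) = 1 by rw [hγ]; decide, map_one]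
  set B := c * q * c with hB
  set C := cj (φ γ) q with hC
  have hγC : cj (φ γ) C = B := by
    have h := congrArg (cj (φ γ * φ γ)) hγA
    rw [cj_cj, mul_assoc, hγ3, show cj (1 : G) B = B by simp [cj]] at h
    rw [hC, cj_cj]; exact h.symm
  have hγf : cj (φ γ) f = f := by
    refine cj_eq_self ?_
    rw [← h2]
    exact (show Commute γ (swap (2 : Fin 5) 3) by rw [hγ]; unfold Commute SemiconjBy; decide).map φ
  have hmul : ∀ u v : G, cj (φ γ) (u * v) = cj (φ γ) u * cj (φ γ) v := fun u v => by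
    simp only [cj]; group
  have k0 : Commute (q * B) f := hnf
  have k1 : Commute (C * q) f := by
    have h := (commute_cj_iff (g := φ γ)).2 k0
    rwa [hmul, hγA, hγf] at h
  have k2 : Commute (B * C) f := by
    have h := (commute_cj_iff (g := φ γ)).2 k1
    rwa [hmul, hγC, hγf] at h
  have cCA : Commute C q := by
    have h := (commute_cj_iff (g := φ γ)).2 hqq
    rwa [hγA] at h
  have cBC : Commute B C := by
    have h := (commute_cj_iff (g := φ γ)).2 cCA
    rwa [hγC] at h
  have hqq2 : q * q = q * B * (C * q) * (B * C)⁻¹ := by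
    rw [cCA.eq, show q * B * (q * C) * (B * C)⁻¹ = q * (B * q) * B⁻¹ by group, ← hqq.eq]
    group
  have k3 : Commute (q * q) f := by
    rw [hqq2]; exact (k0.mul_left k1).mul_left k2.inv_left
  have hqf : Commute q f := by
    have h := k3.mul_left k3
    rwa [show q * q * (q * q) = q ^ 3 * q by simp [pow_succ, mul_assoc], hq3, one_mul] at h
  exact hef (H29.tt_commute_pair H.tt he.1 hee.2.1.1 hf.2.1.1 hne.symm hqf.symm).1.symm

open Equiv in
/-- Without commuting pairs in `D_x`, but with at least two members commuting with `x`, the group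
generated is `S₅`. -/
theorem five [Finite G] (hgen : Subgroup.closure D = ⊤)
    (hM : ∀ y ∈ D, ∀ p ∈ nb D y, M D y p = ∅) {x a b : G} (hx : x ∈ D) (ha : a ∈ nb D x)
    (hb : b ∈ nb D x) (hab : a ≠ b) : Nonempty (G ≃* Perm (Fin 5)) := by
  have tri : ∀ {y p r : G}, y ∈ D → p ∈ nb D y → r ∈ nb D y → p ≠ r → ¬ Commute p r := by
    intro y p r hy hp hr hpr hc
    have : r ∈ M D y p := ⟨hr, hr.1, hpr.symm, hc⟩
    rw [hM y hy p hp] at this
    exact this
  have hnab : ¬ Commute a b := tri hx ha hb hab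
  have hTw : Tw D x b a := ⟨hb, ha, by rw [hM x hx a ha, hM x hx b hb]⟩
  obtain ⟨e, heb, hea, hex⟩ := exists_sep H hTw hab.symm
  obtain ⟨φ, h0, h1, h2, h3⟩ := exists_hom H hx heb.1 ha.1 hb.1 (fun q => hex q.symm) hea hnab
    ha.2.2 hb.2.2 heb.2.2.symm
  have hswapconj : ∀ i j : Fin 5, i ≠ j →
      ∃ g : Perm (Fin 5), g * swap 0 1 * g⁻¹ = swap i j := by
    intro i j hij
    obtain ⟨c, hc⟩ := isConj_iff.1 (Equiv.Perm.isConj_swap (show (0 : Fin 5) ≠ 1 by decide) hij)
    exact ⟨c, hc⟩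
  have hinjswap : ∀ i j : Fin 5, i ≠ j → φ (swap i j) = φ (swap 0 1) → swap i j = swap 0 1 := by
    intro i j hij h
    rcases perm_five_orbits i j hij with h0' | ⟨g, hg, hg'⟩
    · exact h0'
    exfalso
    have h' : φ (g * swap i j * g⁻¹) = x := by
      rw [map_mul, map_mul, h, ← map_mul, ← map_mul, hg, h0]
    rcases hg' with hg' | hg'
    · rw [hg', h1] at h'; exact hex (h' ▸ Commute.refl x)
    · rw [hg', h2] at h'; exact ha.2.1 h'
  have hinjswap' : ∀ i j k l : Fin 5, i ≠ j → k ≠ l → φ (swap i j) = φ (swap k l) →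
      swap i j = swap k l := by
    intro i j k l hij hkl h
    obtain ⟨g, hg⟩ := hswapconj k l hkl
    rw [← hg] at h ⊢
    have h1' : φ (g⁻¹ * swap i j * g) = φ (swap 0 1) := by
      simp only [map_mul, map_inv] at h ⊢; rw [h]; group
    have hconj : g⁻¹ * swap i j * g = swap (g⁻¹ i) (g⁻¹ j) := by
      rw [Equiv.mul_swap_eq_swap_mul, mul_assoc, inv_mul_cancel, mul_one]
    rw [hconj] at h1'
    have h2' := hinjswap _ _ (fun hh => hij (g⁻¹.injective hh)) h1'
    rw [← h2', ← hconj]; group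
  have hinj : Function.Injective φ := by
    refine (injective_iff_map_eq_one φ).2 fun k hk => ?_
    have hc : ∀ i j : Fin 5, i ≠ j → k * swap i j = swap i j * k := by
      intro i j hij
      have hs : k * swap i j * k⁻¹ = swap (k i) (k j) := by
        rw [Equiv.mul_swap_eq_swap_mul, mul_assoc, mul_inv_cancel, mul_one]
      have h := hinjswap' _ _ i j (fun h => hij (k.injective h)) hij
        (by rw [← hs]; simp [hk])
      rw [← hs] at h
      exact mul_inv_eq_iff_eq_mul.1 h
    exact perm_five_center k (hc 0 1 (by decide)) (hc 1 2 (by decide)) (hc 2 3 (by decide))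
      (hc 3 4 (by decide))
  have hswapD : ∀ i j : Fin 5, i ≠ j → φ (swap i j) ∈ D := by
    intro i j hij
    obtain ⟨g, hg⟩ := hswapconj i j hij
    rw [← hg, map_mul, map_mul, map_inv, h0]
    exact mem_cj H _ hx
  set T : Set G := {y | ∃ i j : Fin 5, i ≠ j ∧ φ (swap i j) = y} with hT
  have hdis : ∀ i j k l : Fin 5, i ≠ j → k ≠ l → i ≠ k → i ≠ l → j ≠ k → j ≠ l →
      φ (swap i j) ∈ nb D (φ (swap k l)) := by
    intro i j k l hij hkl hik hil hjk hjl
    refine ⟨hswapD _ _ hij, fun h => ?_, ?_⟩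
    · have h' := congrArg (fun p : Perm (Fin 5) => p i) (hinjswap' _ _ _ _ hij hkl h)
      simp only [Equiv.swap_apply_left, Equiv.swap_apply_of_ne_of_ne hik hil] at h'
      exact hij h'.symm
    · exact ((Equiv.Perm.disjoint_swap_swap (by simp [hij, hkl, hik.symm, hil.symm, hjk.symm,
        hjl.symm, hik, hil, hjk, hjl])).commute).map φ
  have hmat : ∀ y ∈ D, ∀ i j k l : Fin 5, i ≠ j → i ≠ k → i ≠ l → j ≠ k → j ≠ l → k ≠ l →
      ∃ p ∈ [i, j, k, l], ∃ r ∈ [i, j, k, l], p ≠ r ∧ Commute y (φ (swap p r)) := by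
    intro y hy i j k l hij hik hil hjk hjl hkl
    by_contra hcon
    push Not at hcon
    have n1 := hcon i (by simp) j (by simp) hij
    have n2 := hcon k (by simp) l (by simp) hkl
    have n3 := hcon i (by simp) k (by simp) hik
    have n4 := hcon j (by simp) l (by simp) hjl
    have n5 := hcon i (by simp) l (by simp) hil
    have n6 := hcon j (by simp) k (by simp) hjk
    have sig : ∀ z ∈ D, ∀ p r s t : Fin 5, p ≠ r → s ≠ t → p ≠ s → p ≠ t → r ≠ s → r ≠ t →
        ¬ Commute z (φ (swap p r)) → ¬ Commute z (φ (swap s t)) →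
        cj (φ (swap p r) * φ (swap s t)) z ∈ nb D z := by
      intro z hz p r s t hpr hst hps hpt hrs hrt hn1 hn2
      set u := φ (swap p r) with hu
      set v := φ (swap s t) with hv
      have huv : v ∈ nb D u := hdis s t p r hst hpr hps.symm hrs.symm hpt.symm hrt.symm
      have huD : u ∈ D := hswapD _ _ hpr
      refine ⟨mem_cj H _ hz, fun h => ?_, ?_⟩
      · exact hn1 (H29.tt_commute_pair H.tt huD huv.1 hz huv.2.1.symm
          (commute_of_cj_eq h).symm).1
      · have h1 : Commute (cj z u) (cj z v) := commute_cj_iff.2 huv.2.2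
        rw [braid H hz huD hn1, braid H hz huv.1 hn2] at h1
        have h2 := (commute_cj_iff (g := u)).2 h1
        rw [cj_cj u u, cj_cj u v, sq H huD] at h2
        simpa [cj] using h2
    have hz1 := sig y hy i j k l hij hkl hik hil hjk hjl n1 n2
    set σ := φ (swap i j) * φ (swap k l) with hσ
    have hσc : ∀ p r : Fin 5, Commute (cj σ y) (φ (swap p r)) ↔
        Commute y (φ (swap ((swap i j * swap k l) p) ((swap i j * swap k l) r))) := by
      intro p r
      set π := swap i j * swap k l with hπ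
      have e1 : φ (swap p r) = cj σ (φ (swap (π p) (π r))) := by
        rw [hσ, ← map_mul, ← hπ]
        have e2 : π * swap (π p) (π r) * π⁻¹ = swap p r := by
          have hππ : ∀ q, π (π q) = q := by
            intro q
            have hd : Commute (swap i j) (swap k l) := (Equiv.Perm.disjoint_swap_swap
              (by simp [hij, hkl, hik, hil, hjk, hjl])).commute
            rw [← Equiv.Perm.mul_apply, hπ,
              show swap i j * swap k l * (swap i j * swap k l) = 1 by
                rw [show swap i j * swap k l * (swap i j * swap k l)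
                    = swap i j * (swap k l * swap i j) * swap k l by group, ← hd.eq,
                  show swap i j * (swap i j * swap k l) * swap k l
                    = (swap i j * swap i j) * (swap k l * swap k l) by group,
                  Equiv.swap_mul_self, Equiv.swap_mul_self, one_mul], Equiv.Perm.one_apply]
          rw [Equiv.mul_swap_eq_swap_mul, mul_assoc, mul_inv_cancel, mul_one, hππ, hππ]
        rw [← e2]
        simp [cj]
      rw [e1]; exact commute_cj_iff
    have m3 : ¬ Commute (cj σ y) (φ (swap i k)) := by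
      rw [hσc]
      simp only [Equiv.Perm.mul_apply, Equiv.swap_apply_of_ne_of_ne hik hil,
        Equiv.swap_apply_left, Equiv.swap_apply_of_ne_of_ne hil.symm hjl.symm]
      exact n4
    have m4 : ¬ Commute (cj σ y) (φ (swap j l)) := by
      rw [hσc]
      simp only [Equiv.Perm.mul_apply, Equiv.swap_apply_of_ne_of_ne hjk hjl,
        Equiv.swap_apply_right, Equiv.swap_apply_of_ne_of_ne hik.symm hjk.symm]
      exact n3
    have hz2 := sig _ hz1.1 i k j l hik hjl hij hil hjk.symm hkl m3 m4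
    have hz3 := sig y hy i l j k hil hjk hij hik hjl.symm hkl.symm n5 n6
    have e3 : φ (swap i k) * φ (swap j l) * σ = φ (swap i l) * φ (swap j k) := by
      rw [hσ, ← map_mul, ← map_mul, ← map_mul, ← map_mul]
      congr 1
      ext x
      simp only [Equiv.Perm.mul_apply]
      exact congrArg Fin.val (comb_V4 i j k l hij hik hil hjk hjl hkl x)
    rw [cj_cj, e3] at hz2
    exact tri hy hz1 hz3 hz2.2.1.symm hz2.2.2
  -- every member commutes with the three sides of a triangle
  have pat : ∀ y ∈ D, ∃ i j k : Fin 5, i ≠ j ∧ j ≠ k ∧ i ≠ k ∧ Commute y (φ (swap i j)) ∧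
      Commute y (φ (swap j k)) ∧ Commute y (φ (swap i k)) := by
    intro y hy
    by_cases hyT : y ∈ T
    · obtain ⟨p, r, hpr, rfl⟩ := hyT
      obtain ⟨i, j, k, hij, hjk, hik, hi, hj, hk⟩ := comb_rest p r hpr
      exact ⟨i, j, k, hij, hjk, hik, (hdis _ _ _ _ hij hpr hi.1 hi.2 hj.1 hj.2).2.2,
        (hdis _ _ _ _ hjk hpr hj.1 hj.2 hk.1 hk.2).2.2,
        (hdis _ _ _ _ hik hpr hi.1 hi.2 hk.1 hk.2).2.2⟩
    have meet : ∀ p r s t : Fin 5, p ≠ r → s ≠ t → Commute y (φ (swap p r)) →
        Commute y (φ (swap s t)) → p = s ∨ p = t ∨ r = s ∨ r = t := by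
      intro p r s t hpr hst hp hs
      by_contra hcon
      simp only [not_or] at hcon
      obtain ⟨q1, q2, q3, q4⟩ := hcon
      exact tri (hswapD _ _ hpr) (hdis s t p r hst hpr (Ne.symm q1) (Ne.symm q3) (Ne.symm q2)
        (Ne.symm q4)) ⟨hy, fun h => hyT ⟨p, r, hpr, h.symm⟩, hp.symm⟩
        (fun h => hyT ⟨s, t, hst, h⟩) hs.symm
    have avoid : ∀ m : Fin 5, ∃ p r, p ≠ r ∧ p ≠ m ∧ r ≠ m ∧ Commute y (φ (swap p r)) := by
      intro m
      obtain ⟨i, j, k, l, hij, hik, hil, hjk, hjl, hkl, hm⟩ := comb_four m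
      obtain ⟨p, hp, r, hr, hpr, hc⟩ := hmat y hy i j k l hij hik hil hjk hjl hkl
      have hm' : ∀ q ∈ [i, j, k, l], q ≠ m := by simp [hm]
      exact ⟨p, r, hpr, hm' p hp, hm' r hr, hc⟩
    obtain ⟨i, j, hij, -, -, h1'⟩ := avoid 0
    obtain ⟨p, r, hpr, hpi, hri, h2'⟩ := avoid i
    obtain ⟨s, t, hst, hsj, htj, h3'⟩ := avoid j
    obtain ⟨k, hjk, hc2⟩ : ∃ k, (j ≠ k ∧ i ≠ k) ∧ Commute y (φ (swap j k)) := by
      rcases meet i j p r hij hpr h1' h2' with h | h | h | h
      · exact absurd h.symm hpi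
      · exact absurd h.symm hri
      · subst h; exact ⟨r, ⟨hpr, hri.symm⟩, h2'⟩
      · subst h; exact ⟨p, ⟨hpr.symm, hpi.symm⟩, by rwa [Equiv.swap_comm]⟩
    obtain ⟨k', hik', hc3⟩ : ∃ k', (i ≠ k' ∧ j ≠ k') ∧ Commute y (φ (swap i k')) := by
      rcases meet i j s t hij hst h1' h3' with h | h | h | h
      · subst h; exact ⟨t, ⟨hst, htj.symm⟩, h3'⟩
      · subst h; exact ⟨s, ⟨hst.symm, hsj.symm⟩, by rwa [Equiv.swap_comm]⟩
      · exact absurd h.symm hsj
      · exact absurd h.symm htj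
    have hkk : k = k' := by
      rcases meet j k i k' hjk.1 hik'.1 hc2 hc3 with h | h | h | h
      · exact absurd h.symm hij
      · exact absurd h hik'.2
      · exact absurd h.symm hjk.2
      · exact h
    subst hkk
    exact ⟨i, j, k, hij, hjk.1, hik'.1, h1', hc2, hc3⟩
  -- there is nothing outside `T`
  have hall : ∀ z ∈ D, z ∈ T := by
    intro z hz
    by_contra hzT
    obtain ⟨i, j, k, hij, hjk, hik, z1, z2, z3⟩ := pat z hz
    obtain ⟨l, m, hlm, hl, hm, cover⟩ := comb_two i j k hij hjk hik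
    set u := φ (swap l m) with hu
    have huD : u ∈ D := hswapD _ _ hlm
    have zeq : ∀ p r : Fin 5, p ≠ r → (Commute z (φ (swap p r)) ↔
        (p ≠ l ∧ p ≠ m ∧ r ≠ l ∧ r ≠ m)) := by
      intro p r hpr
      constructor
      · intro hc
        have meet : ∀ s t : Fin 5, s ≠ t → Commute z (φ (swap s t)) →
            p = s ∨ p = t ∨ r = s ∨ r = t := by
          intro s t hst hs
          by_contra hcon
          simp only [not_or] at hcon
          obtain ⟨q1, q2, q3, q4⟩ := hcon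
          exact tri (hswapD _ _ hpr) (hdis s t p r hst hpr (Ne.symm q1) (Ne.symm q3) (Ne.symm q2)
            (Ne.symm q4)) ⟨hz, fun h => hzT ⟨p, r, hpr, h.symm⟩, hc.symm⟩
            (fun h => hzT ⟨s, t, hst, h⟩) hs.symm
        have a1 := meet i j hij z1
        have a2 := meet j k hjk z2
        have a3 := meet i k hik z3
        clear meet hc
        grind
      · rintro ⟨g1, g2, g3, g4⟩
        rcases cover p with rfl | rfl | rfl | rfl | rfl <;>
          rcases cover r with rfl | rfl | rfl | rfl | rfl <;>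
          first
          | exact absurd rfl hpr
          | exact absurd rfl g1
          | exact absurd rfl g2
          | exact absurd rfl g3
          | exact absurd rfl g4
          | assumption
          | (rw [Equiv.swap_comm]; assumption)
    have hsub : nb D u ⊆ nb D z := by
      intro w hw
      by_cases hwz : w = z
      · subst hwz
        exact absurd hw.2.2.symm (fun h => ((zeq l m hlm).1 h).1 rfl)
      refine ⟨hw.1, hwz, ?_⟩
      by_cases hwT : w ∈ T
      · obtain ⟨p, r, hpr, rfl⟩ := hwT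
        refine (zeq p r hpr).2 (comb_meet l m hlm p r hpr (fun h => hw.2.1 (by rw [hu, h])) ?_)
        have e1 : φ (swap p r) * u = u * φ (swap p r) := hw.2.2.symm
        rw [hu, ← map_mul, ← map_mul] at e1
        intro q
        exact congrArg (fun π : Perm (Fin 5) => π q) (hinj e1)
      · by_contra hzw
        obtain ⟨p, r, s, hpr, hrs, hps, w1, w2, w3⟩ := pat w hw.1
        have hwu : ∀ q t : Fin 5, q ≠ t → Commute w (φ (swap q t)) →
            ¬ (q ≠ l ∧ q ≠ m ∧ t ≠ l ∧ t ≠ m) := by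
          rintro q t hqt hc ⟨q1, q2, q3, q4⟩
          exact tri huD (hdis q t l m hqt hlm q1 q2 q3 q4) hw
            (fun h => hwT ⟨q, t, hqt, h⟩) hc.symm
        obtain ⟨n, hnl, hnm, el, em, en⟩ := comb_third l m hlm p r s hpr hrs hps
          (hwu _ _ hpr w1) (hwu _ _ hrs w2) (hwu _ _ hps w3)
        have hwin : ∀ q t : Fin 5, q ≠ t → (q = l ∨ q = m ∨ q = n) → (t = l ∨ t = m ∨ t = n) →
            Commute w (φ (swap q t)) := by
          intro q t hqt hq ht
          have hq' : q = p ∨ q = r ∨ q = s := by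
            rcases hq with rfl | rfl | rfl <;> assumption
          have ht' : t = p ∨ t = r ∨ t = s := by
            rcases ht with rfl | rfl | rfl <;> assumption
          rcases hq' with rfl | rfl | rfl <;> rcases ht' with rfl | rfl | rfl <;>
            first
            | exact absurd rfl hqt
            | assumption
            | (rw [Equiv.swap_comm]; assumption)
        obtain ⟨p', r', s', hpr', hrs', hps', y1, y2, y3⟩ := pat (cj z w) (mem_cj H z hw.1)
        have hyn : ∀ q t : Fin 5, q ≠ t → Commute (cj z w) (φ (swap q t)) →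
            ¬ (q ≠ l ∧ q ≠ m ∧ t ≠ l ∧ t ≠ m) ∧
              ¬ ((q = l ∨ q = m ∨ q = n) ∧ (t = l ∨ t = m ∨ t = n)) := by
          intro q t hqt hyc
          refine ⟨fun hav => hwu q t hqt ?_ hav, fun hin => hwu q t hqt (hwin q t hqt hin.1 hin.2) ?_⟩
          · rw [← cj_eq_self ((zeq q t hqt).2 hav)] at hyc
            exact commute_cj_iff.1 hyc
          · rw [braid H hz hw.1 hzw, ← cj_eq_self (hwin q t hqt hin.1 hin.2)] at hyc
            exact (zeq q t hqt).1 (commute_cj_iff.1 hyc)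
        exact comb_final l m n hlm hnl hnm p' r' s' hpr' hrs' hps' (hyn _ _ hpr' y1).1
          (hyn _ _ hrs' y2).1 (hyn _ _ hps' y3).1 (hyn _ _ hpr' y1).2 (hyn _ _ hrs' y2).2
          (hyn _ _ hps' y3).2
    exact hzT ⟨l, m, hlm, H.inj u huD z hz hsub⟩
  have hrange : φ.range = ⊤ := by
    rw [← top_le_iff, ← hgen, Subgroup.closure_le]
    intro z hz
    obtain ⟨i, j, -, rfl⟩ := hall z hz
    exact ⟨_, rfl⟩
  exact ⟨((MonoidHom.ofInjective hinj).trans ((MulEquiv.subgroupCongr hrange).trans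
    Subgroup.topEquiv)).symm⟩

end Cfsg.Agent.H76.LocalTwins
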