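import Mathlib

/-!
Jordan's theorem for cycles of prime order, and the two exceptional degrees 7 and 13 needed for
pairs of prime order elements.
-/

set_option autoImplicit false

open Equiv Equiv.Perm MulAction
open scoped Pointwise

namespace Cfsg.Agent.H76

section

variable {α : Type*} [Fintype α] [DecidableEq α]

theorem pow_apply_eq_self_imp {x : Perm α} {p : ℕ} (hp : p.Prime) (hx : orderOf x = p) {z : α}
    {k : ℕ} (hk : ¬ p ∣ k) (h : (x ^ k) z = z) : x z = z := by
  obtain ⟨l, hl⟩ := exists_pow_eq_self_of_coprime (x := x) (n := k)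
    (hx ▸ (hp.coprime_iff_not_dvd.mpr hk).symm)
  have : ∀ l : ℕ, ((x ^ k) ^ l) z = z := by
    intro l
    induction l with
    | zero => simp
    | succ l ih => rw [pow_succ, Perm.mul_apply, h, ih]
  calc x z = ((x ^ k) ^ l) z := by rw [hl]
    _ = z := this l

/-- The orbit of a moved point under an element of order `p` has `p` points. -/
theorem pow_apply_injOn {x : Perm α} {p : ℕ} (hp : p.Prime) (hx : orderOf x = p) {z : α}
    (hz : x z ≠ z) : Set.InjOn (fun i : ℕ => (x ^ i) z) (Finset.range p : Set ℕ) := by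
  suffices key : ∀ i j : ℕ, i < j → j < p → (x ^ i) z ≠ (x ^ j) z by
    intro i hi j hj h
    simp only [Finset.coe_range, Set.mem_Iio] at hi hj
    rcases lt_trichotomy i j with hij | hij | hij
    · exact absurd h (key i j hij hj)
    · exact hij
    · exact absurd h.symm (key j i hij hi)
  intro i j hij hj h
  refine hz (pow_apply_eq_self_imp hp hx (k := j - i) ?_ ?_)
  · exact fun hd => absurd (Nat.le_of_dvd (by omega) hd) (by omega)
  · apply (x ^ i).injective
    rw [← Perm.mul_apply, ← pow_add, Nat.add_sub_cancel' hij.le]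
    exact h.symm

theorem exists_pow_apply_mem {x : Perm α} {p : ℕ} (hp : p.Prime) (hx : orderOf x = p) {z : α}
    (hz : x z ≠ z) (S : Finset α) (hS : Fintype.card α < p + S.card) :
    ∃ i : ℕ, (x ^ i) z ∈ S := by
  by_contra hcon
  push Not at hcon
  have h1 : ((Finset.range p).image fun i => (x ^ i) z).card = p := by
    rw [Finset.card_image_of_injOn (pow_apply_injOn hp hx hz), Finset.card_range]
  have h2 : Disjoint ((Finset.range p).image fun i => (x ^ i) z) S := by
    rw [Finset.disjoint_left]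
    intro w hw
    obtain ⟨i, -, rfl⟩ := Finset.mem_image.mp hw
    exact hcon i
  have h3 := Finset.card_le_univ (((Finset.range p).image fun i => (x ^ i) z) ∪ S)
  rw [Finset.card_union_of_disjoint h2, h1] at h3
  omega

/-- An element commuting with a cycle of order `p` has `p`-th power trivial on it. -/
theorem pow_fix_of_commute_cycle {g c : Perm α} (hg : g.IsCycle) (hc : Commute c g) {z : α}
    (hz : z ∈ g.support) : (c ^ orderOf g) z = z := by
  have hcz : c z ∈ g.support := (mem_support_iff_of_commute hc z).mpr hz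
  obtain ⟨i, hi⟩ := hg.sameCycle (mem_support.mp hz) (mem_support.mp hcz)
  have : ∀ k : ℕ, (c ^ k) z = (g ^ (i * k)) z := by
    intro k
    induction k with
    | zero => simp
    | succ k ih =>
      rw [pow_succ', Perm.mul_apply, ih, ← Perm.mul_apply, (hc.zpow_right _).eq, Perm.mul_apply,
        ← hi, ← Perm.mul_apply, ← zpow_add]
      congr 2
      push_cast
      ring
  rw [this, zpow_mul', zpow_natCast, pow_orderOf_eq_one, one_zpow, Perm.one_apply]

/-- An element commuting with a product of two `p`-cycles has `2p`-th power trivial on them. -/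
theorem pow_fix_of_commute_double {g c : Perm α} {p : ℕ} (hp : p.Prime) (hg : orderOf g = p)
    (hcard : g.support.card = 2 * p) (hc : Commute c g) {z : α} (hz : z ∈ g.support) :
    (c ^ (2 * p)) z = z := by
  let O : α → Finset α := fun w => (Finset.range p).image fun i => (g ^ i) w
  have hOcard : ∀ w ∈ g.support, (O w).card = p := fun w hw => by
    rw [Finset.card_image_of_injOn (pow_apply_injOn hp hg (mem_support.mp hw)), Finset.card_range]
  have hmemO : ∀ (w : α) (j : ℤ), (g ^ j) w ∈ O w := by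
    intro w j
    have hp' : (0 : ℤ) < p := by exact_mod_cast hp.pos
    refine Finset.mem_image.mpr ⟨(j % p).toNat, Finset.mem_range.mpr ?_, ?_⟩
    · have := Int.emod_lt_of_pos j hp'
      have := Int.emod_nonneg j hp'.ne'
      omega
    · rw [← zpow_natCast, Int.toNat_of_nonneg (Int.emod_nonneg j hp'.ne'), ← hg, zpow_mod_orderOf]
  have hOsub : ∀ w ∈ g.support, O w ⊆ g.support := by
    intro w hw u hu
    obtain ⟨i, -, rfl⟩ := Finset.mem_image.mp hu
    exact pow_apply_mem_support.mpr hw
  have hcz : c z ∈ g.support := (mem_support_iff_of_commute hc z).mpr hz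
  have hccz : c (c z) ∈ g.support := (mem_support_iff_of_commute hc _).mpr hcz
  have hcomm : ∀ (j : ℤ) (w : α), c ((g ^ j) w) = (g ^ j) (c w) := fun j w => by
    rw [← Perm.mul_apply, (hc.zpow_right j).eq, Perm.mul_apply]
  obtain ⟨j, hj⟩ : ∃ j : ℤ, c (c z) = (g ^ j) z := by
    by_cases h1 : ∃ i : ℤ, c z = (g ^ i) z
    · obtain ⟨i, hi⟩ := h1
      exact ⟨i + i, by rw [zpow_add, Perm.mul_apply, hi, hcomm, hi]⟩
    push Not at h1
    have hdisj : Disjoint (O z) (O (c z)) := by
      rw [Finset.disjoint_left]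
      intro u hu hu'
      obtain ⟨i, -, rfl⟩ := Finset.mem_image.mp hu
      obtain ⟨l, -, hl⟩ := Finset.mem_image.mp hu'
      apply h1 (-(l : ℤ) + i)
      rw [zpow_add, Perm.mul_apply, zpow_natCast, ← hl, zpow_neg, zpow_natCast, Perm.inv_def,
        Equiv.symm_apply_apply]
    have hunion : O z ∪ O (c z) = g.support := by
      refine Finset.eq_of_subset_of_card_le (Finset.union_subset (hOsub z hz) (hOsub _ hcz)) ?_
      rw [Finset.card_union_of_disjoint hdisj, hOcard z hz, hOcard _ hcz, hcard]
      omega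
    rw [← hunion] at hccz
    rcases Finset.mem_union.mp hccz with h | h
    · obtain ⟨i, -, hi⟩ := Finset.mem_image.mp h
      exact ⟨i, by rw [zpow_natCast]; exact hi.symm⟩
    · exfalso
      obtain ⟨i, -, hi⟩ := Finset.mem_image.mp h
      refine h1 i (c.injective ?_)
      rw [hcomm, zpow_natCast]
      exact hi.symm
  have hc2 : ∀ k : ℕ, (c ^ (2 * k)) z = (g ^ (j * k)) z := by
    intro k
    induction k with
    | zero => simp
    | succ k ih =>
      rw [show 2 * (k + 1) = 2 * k + 1 + 1 by ring, pow_succ, pow_succ, Perm.mul_apply,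
        Perm.mul_apply, hj, ← Perm.mul_apply, ((hc.pow_left (2 * k)).zpow_right j).eq,
        Perm.mul_apply, ih, ← Perm.mul_apply, ← zpow_add]
      congr 2
      push_cast
      ring
  rw [hc2, ← hg, zpow_mul', zpow_natCast, pow_orderOf_eq_one, one_zpow, Perm.one_apply]

end

/-- Two elements of order `p` of a group whose order is not divisible by `p²` generate conjugate
subgroups. -/
theorem exists_conj_eq_pow {G : Type*} [Group G] [Finite G] {K : Subgroup G} {p : ℕ}
    [hp : Fact p.Prime] (h2 : ¬ p ^ 2 ∣ Nat.card K) {a b : G} (ha : a ∈ K) (hb : b ∈ K)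
    (hoa : orderOf a = p) (hob : orderOf b = p) : ∃ u ∈ K, ∃ i : ℕ, u * a * u⁻¹ = b ^ i := by
  have hfac : (Nat.card K).factorization p = 1 := by
    have h1 : p ∣ Nat.card K := by
      rw [← hoa, ← Subgroup.orderOf_mk a ha]; exact orderOf_dvd_natCard _
    have h3 := hp.out.factorization_pos_of_dvd Nat.card_pos.ne' h1
    have h4 : (Nat.card K).factorization p < 2 := by
      by_contra hcon
      exact h2 ((hp.out.pow_dvd_iff_le_factorization Nat.card_pos.ne').mpr (by omega))
    omega
  have hc : ∀ (c : G) (hcK : c ∈ K), orderOf c = p →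
      Nat.card (Subgroup.zpowers (⟨c, hcK⟩ : K)) = p ^ (Nat.card K).factorization p := by
    intro c hcK hoc
    rw [Nat.card_zpowers, Subgroup.orderOf_mk, hoc, hfac, pow_one]
  obtain ⟨u, hu⟩ := MulAction.exists_smul_eq K (Sylow.ofCard _ (hc a ha hoa))
    (Sylow.ofCard _ (hc b hb hob))
  have hS : MulAut.conj u • Subgroup.zpowers (⟨a, ha⟩ : K) = Subgroup.zpowers (⟨b, hb⟩ : K) :=
    congrArg Sylow.toSubgroup hu
  have h1 : u * ⟨a, ha⟩ * u⁻¹ ∈ Subgroup.zpowers (⟨b, hb⟩ : K) := by
    rw [← hS]
    exact Subgroup.smul_mem_pointwise_smul _ _ _ (Subgroup.mem_zpowers (⟨a, ha⟩ : K))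
  obtain ⟨i, hi⟩ := (Submonoid.mem_powers_iff _ _).mp (mem_powers_iff_mem_zpowers.mpr h1)
  exact ⟨u, u.2, i, (congrArg Subtype.val hi).symm⟩

section

variable {α : Type*} [Fintype α] [DecidableEq α] {H : Subgroup (Perm α)}

/-- The key normaliser argument: a 3-cycle from an element of prime order. -/
theorem exists_threeCycle_of_prime {t : Perm α} (htH : t ∈ H) {p m k : ℕ} [hp : Fact p.Prime]
    (ht : orderOf t = p) (hm : ¬ 3 ∣ m)
    (hfix : ∀ c : Perm α, Commute c t → ∀ z ∈ t.support, (c ^ m) z = z)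
    (hk : t.supportᶜ.card = k) (hk3 : 3 ≤ k) (htrans : IsMultiplyPretransitive H α k)
    (hK : ¬ p ^ 2 ∣ Nat.card ↥(H ⊓ fixingSubgroup (Perm α) ((t.support : Set α)ᶜ))) :
    ∃ g ∈ H, g.IsThreeCycle := by
  set K := H ⊓ fixingSubgroup (Perm α) ((t.support : Set α)ᶜ) with hKdef
  have hmemK : ∀ u : Perm α, u ∈ K ↔ u ∈ H ∧ ∀ z ∉ t.support, u z = z := by
    intro u
    simp [hKdef, mem_fixingSubgroup_iff]
  have htK : t ∈ K := (hmemK t).mpr ⟨htH, fun z hz => notMem_support.mp hz⟩
  let A : Perm α → Perm α → Prop := fun n σ =>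
    (∀ z ∈ t.support, σ z = z) ∧ ∀ z ∉ t.support, n z = σ z
  have hpres : ∀ σ : Perm α, (∀ z ∈ t.support, σ z = z) → ∀ z ∉ t.support, σ z ∉ t.support := by
    intro σ hσ z hz h
    exact hz (σ.injective (hσ _ h) ▸ h)
  have Amul : ∀ n σ n' σ', A n σ → A n' σ' → A (n * n') (σ * σ') := by
    intro n σ n' σ' h h'
    refine ⟨fun z hz => by rw [Perm.mul_apply, h'.1 z hz, h.1 z hz], fun z hz => ?_⟩
    rw [Perm.mul_apply, Perm.mul_apply, h'.2 z hz, h.2 _ (hpres σ' h'.1 z hz)]
  have Ainv : ∀ n σ, A n σ → A n⁻¹ σ⁻¹ := by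
    intro n σ h
    have h' : ∀ z ∈ t.support, σ⁻¹ z = z := fun z hz => by
      rw [Perm.inv_def, Equiv.symm_apply_eq, h.1 z hz]
    refine ⟨h', fun z hz => ?_⟩
    rw [Perm.inv_def n, Equiv.symm_apply_eq, h.2 _ (hpres σ⁻¹ h' z hz), Perm.inv_def,
      Equiv.apply_symm_apply]
  have Apow : ∀ n σ, A n σ → ∀ i : ℕ, A (n ^ i) (σ ^ i) := by
    intro n σ h i
    induction i with
    | zero => exact ⟨fun z _ => rfl, fun z _ => rfl⟩
    | succ i ih => rw [pow_succ, pow_succ]; exact Amul _ _ _ _ ih h
  -- normalising elements inducing a given permutation off the support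
  have hnorm : ∀ σ : Perm α, (∀ z ∈ t.support, σ z = z) →
      ∃ n ∈ H, A n σ ∧ ∃ i : ℕ, n * t * n⁻¹ = t ^ i := by
    intro σ hσ
    let e : Fin k ↪ α :=
      ((Finset.equivFinOfCardEq hk).symm.toEmbedding).trans (Function.Embedding.subtype _)
    obtain ⟨h, hh⟩ := exists_smul_eq H e (e.trans σ.toEmbedding)
    have hA : A (h : Perm α) σ := by
      refine ⟨hσ, fun z hz => ?_⟩
      have := Function.Embedding.ext_iff.mp hh
        (Finset.equivFinOfCardEq hk ⟨z, Finset.mem_compl.mpr hz⟩)
      simpa [e, Function.Embedding.smul_apply, Subgroup.smul_def] using this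
    have hg' : (h : Perm α) * t * (h : Perm α)⁻¹ ∈ K := by
      refine (hmemK _).mpr ⟨H.mul_mem (H.mul_mem h.2 htH) (H.inv_mem h.2), fun z hz => ?_⟩
      have h1 := Ainv _ _ hA
      rw [Perm.mul_apply, Perm.mul_apply, h1.2 z hz,
        notMem_support.mp (hpres _ h1.1 z hz), ← h1.2 z hz, Perm.inv_def, Equiv.apply_symm_apply]
    have hord : orderOf ((h : Perm α) * t * (h : Perm α)⁻¹) = p := by
      rw [← ht]
      simpa using orderOf_injective (MulAut.conj (h : Perm α)).toMonoidHom (MulEquiv.injective _) t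
    obtain ⟨u, hu, i, hi⟩ := exists_conj_eq_pow hK hg' htK hord ht
    obtain ⟨huH, hufix⟩ := (hmemK u).mp hu
    refine ⟨u * h, H.mul_mem huH h.2, ?_, i, by rw [← hi]; group⟩
    refine ⟨hσ, fun z hz => ?_⟩
    rw [Perm.mul_apply, hA.2 z hz, hufix _ (hpres σ hσ z hz)]
  obtain ⟨a, b, c', ha, hb, hc, hab, hac, hbc⟩ := Finset.two_lt_card_iff.mp (hk ▸ hk3 : 2 < t.supportᶜ.card)
  rw [Finset.mem_compl] at ha hb hc
  have hswap : ∀ u v : α, u ∉ t.support → v ∉ t.support → ∀ z ∈ t.support, swap u v z = z :=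
    fun u v hu hv z hz => swap_apply_of_ne_of_ne (fun h => hu (h ▸ hz)) (fun h => hv (h ▸ hz))
  obtain ⟨n1, hn1H, hA1, i, hi⟩ := hnorm (swap a b) (hswap a b ha hb)
  obtain ⟨n2, hn2H, hA2, j, hj⟩ := hnorm (swap a c') (hswap a c' ha hc)
  set c := (n2 * n1)⁻¹ * (n1 * n2) with hcdef
  have hcH : c ∈ H := H.mul_mem (H.inv_mem (H.mul_mem hn2H hn1H)) (H.mul_mem hn1H hn2H)
  have hcomm : Commute c t := by
    have e1 : (n1 * n2) * t * (n1 * n2)⁻¹ = t ^ (i * j) := by
      calc (n1 * n2) * t * (n1 * n2)⁻¹ = n1 * (n2 * t * n2⁻¹) * n1⁻¹ := by group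
        _ = t ^ (i * j) := by rw [hj, ← conj_pow, hi, ← pow_mul]
    have e2 : (n2 * n1) * t * (n2 * n1)⁻¹ = t ^ (i * j) := by
      calc (n2 * n1) * t * (n2 * n1)⁻¹ = n2 * (n1 * t * n1⁻¹) * n2⁻¹ := by group
        _ = t ^ (i * j) := by rw [hi, ← conj_pow, hj, ← pow_mul, mul_comm]
    show c * t = t * c
    calc c * t = (n2 * n1)⁻¹ * ((n1 * n2) * t * (n1 * n2)⁻¹) * (n1 * n2) := by rw [hcdef]; group
      _ = (n2 * n1)⁻¹ * ((n2 * n1) * t * (n2 * n1)⁻¹) * (n1 * n2) := by rw [e1, e2]
      _ = t * c := by rw [hcdef]; group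
  set T := swap a b * swap a c' with hTdef
  have hAc : A c (T * T) := by
    have h := Amul _ _ _ _ (Ainv _ _ (Amul _ _ _ _ hA2 hA1)) (Amul _ _ _ _ hA1 hA2)
    have e : (swap a c' * swap a b)⁻¹ * (swap a b * swap a c') = T * T := by
      rw [hTdef, mul_inv_rev, swap_inv, swap_inv]
    rwa [e] at h
  have heq : c ^ m = (T * T) ^ m := by
    ext z
    by_cases hz : z ∈ t.support
    · rw [hfix c hcomm z hz, (Apow _ _ hAc m).1 z hz]
    · exact (Apow _ _ hAc m).2 z hz
  refine ⟨c ^ m, H.pow_mem hcH m, ?_⟩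
  have hT : T.IsThreeCycle := isThreeCycle_swap_mul_swap_same hab hac hbc
  rw [heq, ← pow_two, ← pow_mul, ← pow_mod_orderOf, hT.orderOf]
  have h6 : 2 * m % 3 = 1 ∨ 2 * m % 3 = 2 := by omega
  rcases h6 with h6 | h6 <;> rw [h6]
  · rwa [pow_one]
  · rw [pow_two]; exact hT.isThreeCycle_sq

theorem isPreprimitive_ofFixing_of_cycle {g : Perm α} (hgc : g.IsCycle)
    (hp : g.support.card.Prime) (hg : g ∈ H) :
    IsPreprimitive (fixingSubgroup H ((g.support : Set α)ᶜ))
      (SubMulAction.ofFixingSubgroup H ((g.support : Set α)ᶜ)) := by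
  have := isPretransitive_of_isCycle_mem hgc hg
  apply IsPreprimitive.of_prime_card
  convert! hp
  rw [← Set.ncard_coe_finset, ← Nat.card_coe_set_eq]
  refine Nat.card_congr (Equiv.subtypeEquivRight fun z => ?_)
  simp [SubMulAction.mem_ofFixingSubgroup_iff]

/-- A primitive group with a cycle of prime length fixing `k` points is `(k+1)`-transitive. -/
theorem isMultiplyPretransitive_of_cycle (hG : IsPreprimitive H α) {g : Perm α} (hgc : g.IsCycle)
    (hp : g.support.card.Prime) (hg : g ∈ H) (h1 : g.support.card < Fintype.card α) :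
    IsMultiplyPretransitive H α (Fintype.card α - g.support.card + 1) := by
  obtain ⟨n, hn⟩ : ∃ n, Fintype.card α - g.support.card = n + 1 :=
    ⟨Fintype.card α - g.support.card - 1, by omega⟩
  have hsc : Set.ncard ((g.support : Set α)ᶜ) = n + 1 := by
    rw [← Finset.coe_compl, Set.ncard_coe_finset, Finset.card_compl, hn]
  have h2 := hG.isMultiplyPreprimitive hsc
    (by rw [Nat.card_eq_fintype_card]; have := hp.two_le; omega)
    (isPreprimitive_ofFixing_of_cycle hgc hp hg)
  rw [hn]
  exact h2.isMultiplyPretransitive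

theorem card_fixing_compl (S : Finset α) :
    Nat.card (fixingSubgroup (Perm α) ((S : Set α)ᶜ)) = S.card.factorial := by
  have hm := (Equiv.Perm.isMultiplyPretransitive α ((S : Set α)ᶜ).ncard).index_of_fixingSubgroup_mul
    (s := (S : Set α)ᶜ) rfl
  have hi := Subgroup.index_mul_card (fixingSubgroup (Perm α) ((S : Set α)ᶜ))
  rw [Nat.card_perm] at hi
  have hsub : Nat.card α - ((S : Set α)ᶜ).ncard = S.card := by
    have := Set.ncard_add_ncard_compl (S : Set α)
    rw [Set.ncard_coe_finset] at this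
    omega
  rw [hsub, ← hi] at hm
  exact (Nat.eq_of_mul_eq_mul_left (Nat.pos_of_ne_zero Subgroup.index_ne_zero_of_finite) hm).symm

theorem not_sq_dvd_factorial {p : ℕ} (hp : p.Prime) : ¬ p ^ 2 ∣ p.factorial := by
  intro h
  rw [← Nat.mul_factorial_pred hp.ne_zero, pow_two] at h
  have := Nat.dvd_of_mul_dvd_mul_left hp.pos h
  rw [hp.dvd_factorial] at this
  have := hp.pos
  omega

/-- **Jordan**: a primitive group with a cycle of prime length fixing at least three points
contains the alternating group. -/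
theorem alternatingGroup_le_of_cycle (hG : IsPreprimitive H α) {g : Perm α} (hgc : g.IsCycle)
    (hp : g.support.card.Prime) (hg : g ∈ H) (h3 : g.support.card + 3 ≤ Fintype.card α) :
    alternatingGroup α ≤ H := by
  by_cases hp3 : g.support.card = 3
  · exact alternatingGroup_le_of_isPreprimitive_of_isThreeCycle_mem hG
      (card_support_eq_three_iff.mp hp3) hg
  have := Fact.mk hp
  have h4 := isMultiplyPretransitive_of_cycle hG hgc hp hg (by omega)
  have hk : g.supportᶜ.card = Fintype.card α - g.support.card := Finset.card_compl _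
  have htr : IsMultiplyPretransitive H α (Fintype.card α - g.support.card) :=
    isMultiplyPretransitive_of_le (n := Fintype.card α - g.support.card + 1) (Nat.le_succ _)
      (by rw [Nat.card_eq_fintype_card]; have := hp.two_le; omega)
  obtain ⟨c, hc, hc3⟩ := exists_threeCycle_of_prime hg (m := g.support.card)
    (p := g.support.card) hgc.orderOf
    (fun h => hp3 ((Nat.prime_dvd_prime_iff_eq Nat.prime_three hp).mp h).symm)
    (fun c hc z hz => by rw [← hgc.orderOf]; exact pow_fix_of_commute_cycle hgc hc hz)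
    hk (by omega) htr
    (fun h => not_sq_dvd_factorial hp (by
      rw [← card_fixing_compl g.support]
      exact h.trans (Subgroup.card_dvd_of_le inf_le_right)))
  exact alternatingGroup_le_of_isPreprimitive_of_isThreeCycle_mem hG hc3 hc

/-- An index two subgroup obstructs generation by elements of odd order. -/
theorem not_generated_by_odd {G : Type*} [Group G] [Finite G] (S : Set G)
    (hS : Subgroup.closure S = ⊤) (hodd : ∀ s ∈ S, Odd (orderOf s)) (h2 : Nat.card G % 4 = 2) :
    False := by
  have hfac : (Nat.card G).factorization 2 = 1 := by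
    have h1 : 2 ∣ Nat.card G := by omega
    have h3 := Nat.prime_two.factorization_pos_of_dvd Nat.card_pos.ne' h1
    have h4 : (Nat.card G).factorization 2 < 2 := by
      by_contra hcon
      have := (Nat.prime_two.pow_dvd_iff_le_factorization Nat.card_pos.ne').mpr
        (show 2 ≤ (Nat.card G).factorization 2 by omega)
      omega
    omega
  obtain ⟨P⟩ : Nonempty (Sylow 2 G) := inferInstance
  have hP : Nat.card (P : Subgroup G) = 2 := by rw [Sylow.card_eq_multiplicity, hfac, pow_one]
  have hN : Subgroup.normalizer ((P : Subgroup G) : Set G) ≤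
      Subgroup.centralizer ((P : Subgroup G) : Set G) := by
    intro n hn
    rw [Subgroup.mem_centralizer_iff]
    intro u hu
    by_cases hu1 : u = 1
    · simp [hu1]
    obtain ⟨z, hz⟩ := (Nat.card_eq_two_iff' (1 : (P : Subgroup G))).mp hP
    have e1 : n * u * n⁻¹ ∈ (P : Subgroup G) := (Subgroup.mem_normalizer_iff.mp hn u).mp hu
    have h5 : (⟨n * u * n⁻¹, e1⟩ : (P : Subgroup G)) = ⟨u, hu⟩ :=
      (hz.2 _ (fun h => hu1 (by simpa [conj_eq_one_iff] using congrArg Subtype.val h))).trans
        (hz.2 _ (fun h => hu1 (congrArg Subtype.val h))).symm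
    have h6 : n * u * n⁻¹ = u := congrArg Subtype.val h5
    calc u * n = (n * u * n⁻¹) * n := by rw [h6]
      _ = n * u := by group
  have hc := MonoidHom.ker_transferSylow_isComplement' P hN
  have htop : (MonoidHom.transferSylow P hN).ker = ⊤ := by
    rw [eq_top_iff, ← hS, Subgroup.closure_le]
    intro s hs
    rw [SetLike.mem_coe, MonoidHom.mem_ker, ← orderOf_eq_one_iff]
    exact Nat.eq_one_of_dvd_coprimes (Nat.coprime_two_right.mpr (hodd s hs))
      (orderOf_map_dvd _ s) ((orderOf_dvd_natCard _).trans (dvd_of_eq hP))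
  rw [htop, Subgroup.isComplement'_top_left] at hc
  rw [hc, Subgroup.card_bot] at hP
  omega

/-- Degree 7: 5-cycle and 7-cycle. -/
theorem eq_alternating_seven {x y : Perm α} (hα : Fintype.card α = 7) (hx : x.IsCycle)
    (hx5 : x.support.card = 5) (hyo : orderOf y = 7) (hxe : x ∈ alternatingGroup α)
    (hye : y ∈ alternatingGroup α) (hG : IsPreprimitive (Subgroup.closure {x, y}) α) :
    alternatingGroup α ≤ Subgroup.closure {x, y} := by
  set H := Subgroup.closure ({x, y} : Set (Perm α)) with hH
  have hxH : x ∈ H := Subgroup.subset_closure (by simp)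
  have hyH : y ∈ H := Subgroup.subset_closure (by simp)
  have hHA : H ≤ alternatingGroup α := by
    rw [hH, Subgroup.closure_le]
    rintro z (rfl | rfl) <;> assumption
  have h3 := isMultiplyPretransitive_of_cycle hG hx (by rw [hx5]; norm_num) hxH (by omega)
  rw [hx5, hα] at h3
  obtain ⟨s, -, hs⟩ := Set.exists_subset_card_eq (s := (Set.univ : Set α)) (n := 3)
    (by rw [Set.ncard_univ, Nat.card_eq_fintype_card]; omega)
  have hidx := IsMultiplyPretransitive.index_of_fixingSubgroup_mul (k := 3) h3 hs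
  rw [Nat.card_eq_fintype_card, hα] at hidx
  have h210 : 210 ∣ Nat.card H := by
    have : (fixingSubgroup H s).index = 210 := by
      simp [Nat.factorial] at hidx
      omega
    rw [← this]
    exact Subgroup.index_dvd_card _
  have hne : Nat.card H ≠ 210 := by
    intro hc
    refine not_generated_by_odd ({⟨x, hxH⟩, ⟨y, hyH⟩} : Set H) ?_ ?_ (by omega)
    · rw [eq_top_iff]
      rintro ⟨z, hz⟩ -
      induction hz using Subgroup.closure_induction with
      | mem w hw =>
        apply Subgroup.subset_closure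
        rcases hw with rfl | rfl <;> simp
      | one => exact one_mem _
      | mul a b ha hb h1 h2 => exact mul_mem h1 h2
      | inv a ha h1 => exact inv_mem h1
    · rintro z (rfl | rfl)
      · rw [Subgroup.orderOf_mk, hx.orderOf, hx5]; decide
      · rw [Subgroup.orderOf_mk, hyo]; decide
  by_contra hnle
  have hnt : Nontrivial α := Fintype.one_lt_card_iff_nontrivial.mp (by omega)
  have hA : Nat.card (alternatingGroup α) = 2520 := by
    rw [nat_card_alternatingGroup, Nat.card_eq_fintype_card, hα]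
    decide
  set H' := H.subgroupOf (alternatingGroup α) with hH'
  have hcard : Nat.card H' = Nat.card H := Nat.card_congr (Subgroup.subgroupOfEquivOfLe hHA).toEquiv
  have hmul := H'.index_mul_card
  rw [hcard, hA] at hmul
  have hne1 : H'.index ≠ 1 := by
    rw [Ne, Subgroup.index_eq_one, hH', Subgroup.subgroupOf_eq_top]
    exact hnle
  have hsimple : IsSimpleGroup (alternatingGroup α) := alternatingGroup.isSimpleGroup (by
    rw [Nat.card_eq_fintype_card]; omega)
  have hinj : Function.Injective (MulAction.toPermHom (alternatingGroup α) (alternatingGroup α ⧸ H')) := by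
    rw [← MonoidHom.ker_eq_bot_iff, ← Subgroup.normalCore_eq_ker]
    refine (Subgroup.Normal.eq_bot_or_eq_top inferInstance).resolve_right fun h => hne1 ?_
    rw [Subgroup.index_eq_one, eq_top_iff, ← h]
    exact H'.normalCore_le
  have hle := Nat.card_le_card_of_injective _ hinj
  rw [hA, Nat.card_perm] at hle
  have h420 : 420 ≤ Nat.card H := by
    obtain ⟨k, hk⟩ := h210
    have hkpos : 0 < Nat.card H := Nat.card_pos
    rw [hk] at hne hkpos ⊢
    have : k ≠ 1 := fun h => hne (by rw [h])
    omega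
  have hi6 : H'.index ≤ 6 := by
    by_contra hcon
    have h1 : 7 * 420 ≤ H'.index * Nat.card H := Nat.mul_le_mul (by omega) h420
    omega
  have : H'.index.factorial ≤ Nat.factorial 6 := Nat.factorial_le hi6
  change 2520 ≤ H'.index.factorial at hle
  simp [Nat.factorial] at this
  omega

end

end Cfsg.Agent.H76
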