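import Mathlib
import Cfsg.Prelude.Def_Transfer

/-!
Half of all elements of a finite group have conjugacy class size divisible by `p`, unless the
group has a normal `p`-complement.
-/

set_option autoImplicit false

open scoped Pointwise

namespace Cfsg.Agent.H76

variable {G : Type*} [Group G] [Finite G]

/-- An element whose class size is prime to `p` centralises some Sylow `p`-subgroup. -/
theorem exists_sylow_le_centralizer {p : ℕ} [Fact p.Prime] {x : G}
    (hx : ¬ p ∣ (Subgroup.centralizer ({x} : Set G)).index) :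
    ∃ Q : Sylow p G, (Q : Subgroup G) ≤ Subgroup.centralizer ({x} : Set G) := by
  obtain ⟨S⟩ : Nonempty (Sylow p (Subgroup.centralizer ({x} : Set G))) := inferInstance
  obtain ⟨Q, hQ⟩ := (S.2.map (Subgroup.centralizer ({x} : Set G)).subtype).exists_le_sylow
  refine ⟨Q, ?_⟩
  have h1 : ((S : Subgroup _).map (Subgroup.centralizer ({x} : Set G)).subtype) = (Q : Subgroup G) := by
    apply Subgroup.eq_of_le_of_card_ge hQ
    rw [Subgroup.card_map_of_injective (Subgroup.subtype_injective _)]
    rw [Sylow.card_eq_multiplicity, Sylow.card_eq_multiplicity]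
    apply Nat.pow_le_pow_right (Fact.out (p := p.Prime)).pos
    have hm := Subgroup.card_mul_index (Subgroup.centralizer ({x} : Set G))
    rw [← hm, Nat.factorization_mul Nat.card_pos.ne' Subgroup.index_ne_zero_of_finite]
    simp [Nat.factorization_eq_zero_of_not_dvd hx]
  rw [← h1]
  exact Subgroup.map_subtype_le _

/-- If there is no normal `p`-complement, at most half of the elements have class size prime to `p`. -/
theorem two_mul_card_index_not_dvd_le {p : ℕ} [Fact p.Prime]
    (hG : ¬ Cfsg.HasNormalPComplement p G) :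
    2 * Nat.card {x : G | ¬ p ∣ (Subgroup.centralizer ({x} : Set G)).index} ≤ Nat.card G := by
  classical
  obtain ⟨P⟩ : Nonempty (Sylow p G) := inferInstance
  set N := Subgroup.normalizer ((P : Subgroup G) : Set G) with hN
  set C := Subgroup.centralizer ((P : Subgroup G) : Set G) with hC
  have hCN : C ≤ N := Subgroup.centralizer_le_normalizer _
  have hne : ¬ N ≤ C := by
    intro h
    exact hG ⟨P, (MonoidHom.transferSylow P h).ker, inferInstance,
      MonoidHom.ker_transferSylow_isComplement' P h⟩
  have hrel : 2 * Nat.card C ≤ Nat.card N := by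
    have hlt : Nat.card C < Nat.card N := by
      by_contra hcon
      exact hne (Subgroup.eq_of_le_of_card_ge hCN (by omega)).ge
    obtain ⟨k, hk⟩ := Subgroup.card_dvd_of_le hCN
    have h2k : 2 ≤ k := by
      by_contra hcon
      interval_cases k <;> simp [hk] at hlt
    rw [hk]
    calc 2 * Nat.card C = Nat.card C * 2 := by ring
      _ ≤ Nat.card C * k := Nat.mul_le_mul_left _ h2k
  -- the surjection
  let F : (G ⧸ N) × C → G := fun qc => qc.1.out * (qc.2 : G) * qc.1.out⁻¹
  have hsub : {x : G | ¬ p ∣ (Subgroup.centralizer ({x} : Set G)).index} ⊆ Set.range F := by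
    intro x hx
    obtain ⟨Q, hQ⟩ := exists_sylow_le_centralizer hx
    obtain ⟨g, hg⟩ := MulAction.exists_smul_eq G P Q
    obtain ⟨n, hn⟩ : ∃ n : N, (QuotientGroup.mk g : G ⧸ N).out = g * n :=
      QuotientGroup.mk_out_eq_mul N g
    set o := (QuotientGroup.mk g : G ⧸ N).out with ho
    have hox : o⁻¹ * x * o ∈ C := by
      rw [hC, Subgroup.mem_centralizer_iff]
      intro u hu
      have hu' : n.1 * u * n.1⁻¹ ∈ (P : Subgroup G) :=
        (Subgroup.mem_normalizer_iff.mp n.2 u).mp hu
      have h1 : g * (n.1 * u * n.1⁻¹) * g⁻¹ ∈ (Q : Subgroup G) := by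
        rw [← hg]
        exact ⟨_, hu', rfl⟩
      have h2 := Subgroup.mem_centralizer_iff.mp (hQ h1) x rfl
      have h3 : o * u * o⁻¹ = g * (n.1 * u * n.1⁻¹) * g⁻¹ := by rw [hn]; group
      rw [← h3] at h2
      calc u * (o⁻¹ * x * o) = o⁻¹ * ((o * u * o⁻¹) * x) * o := by group
        _ = o⁻¹ * (x * (o * u * o⁻¹)) * o := by rw [← h2]
        _ = (o⁻¹ * x * o) * u := by group
    exact ⟨⟨QuotientGroup.mk g, ⟨_, hox⟩⟩, by simp only [F, ← ho]; group⟩
  calc 2 * Nat.card {x : G | ¬ p ∣ (Subgroup.centralizer ({x} : Set G)).index}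
      ≤ 2 * Nat.card (Set.range F) := Nat.mul_le_mul_left 2 (Nat.card_mono (Set.toFinite _) hsub)
    _ ≤ 2 * Nat.card ((G ⧸ N) × C) := Nat.mul_le_mul_left 2 (Finite.card_range_le F)
    _ = N.index * (2 * Nat.card C) := by rw [Nat.card_prod, Subgroup.index]; ring
    _ ≤ N.index * Nat.card N := Nat.mul_le_mul_left _ hrel
    _ = Nat.card G := by rw [mul_comm]; exact Subgroup.card_mul_index N

/-- At least half of the elements have class size divisible by `p` if there is no normal
`p`-complement. -/
theorem card_le_two_mul_card_index_dvd {p : ℕ} [Fact p.Prime]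
    (hG : ¬ Cfsg.HasNormalPComplement p G) :
    Nat.card G ≤ 2 * Nat.card {x : G | p ∣ (Subgroup.centralizer ({x} : Set G)).index} := by
  have h := two_mul_card_index_not_dvd_le hG
  have hsum := Set.ncard_add_ncard_compl
    ({x : G | p ∣ (Subgroup.centralizer ({x} : Set G)).index})
  have hcompl : ({x : G | p ∣ (Subgroup.centralizer ({x} : Set G)).index})ᶜ =
      {x : G | ¬ p ∣ (Subgroup.centralizer ({x} : Set G)).index} := rfl
  rw [hcompl, ← Nat.card_coe_set_eq, ← Nat.card_coe_set_eq] at hsum
  omega

omit [Finite G] in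
theorem not_dvd_index_centralizer_one {p : ℕ} (hp : p.Prime) :
    ¬ p ∣ (Subgroup.centralizer ({1} : Set G)).index := by
  have : Subgroup.centralizer ({1} : Set G) = ⊤ := by
    ext g; simp [Subgroup.mem_centralizer_iff]
  rw [this, Subgroup.index_top]
  exact fun h => hp.one_lt.ne' (Nat.dvd_one.mp h)

end Cfsg.Agent.H76
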