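import Mathlib
import Cfsg.Agent.H41.Basic

/-!
Coprime action on a group all of whose Sylow subgroups are cyclic.
-/

set_option autoImplicit false

namespace Cfsg.Agent.H76

section

variable {G : Type*} [Group G] [Finite G] {A : Type*} [Group A] [Finite A]
  [MulDistribMulAction A G]

/-- The subgroup generated by the `g⁻¹ * a • g`. -/
def actionCommutator (G A : Type*) [Group G] [Group A] [MulDistribMulAction A G] : Subgroup G :=
  Subgroup.closure {y : G | ∃ (a : A) (g : G), y = g⁻¹ * a • g}

omit [Finite G] [Finite A] in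
theorem actionCommutator_normal : (actionCommutator G A).Normal := by
  refine ⟨fun n hn g => ?_⟩
  induction hn using Subgroup.closure_induction with
  | mem x hx =>
    obtain ⟨a, h, rfl⟩ := hx
    have h1 : g * (h⁻¹ * a • h) * g⁻¹ =
        ((h * g⁻¹)⁻¹ * a • (h * g⁻¹)) * ((g⁻¹)⁻¹ * a • g⁻¹)⁻¹ := by
      rw [smul_mul']; group
    rw [h1]
    exact mul_mem (Subgroup.subset_closure ⟨a, _, rfl⟩)
      (inv_mem (Subgroup.subset_closure ⟨a, _, rfl⟩))
  | one => simp
  | mul x y _ _ hx hy =>
    have : g * (x * y) * g⁻¹ = (g * x * g⁻¹) * (g * y * g⁻¹) := by group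
    rw [this]; exact mul_mem hx hy
  | inv x _ hx =>
    have : g * x⁻¹ * g⁻¹ = (g * x * g⁻¹)⁻¹ := by group
    rw [this]; exact inv_mem hx

omit [Finite A] in
/-- In a group with cyclic Sylow subgroups, `[G, A]` centralises the derived subgroup. -/
theorem actionCommutator_le_centralizer [IsZGroup G] :
    actionCommutator G A ≤ Subgroup.centralizer (commutator G : Set G) := by
  have hDcyc : IsCyclic (commutator G) := IsZGroup.isCyclic_commutator G
  rw [actionCommutator, Subgroup.closure_le]
  rintro _ ⟨a, g, rfl⟩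
  rw [SetLike.mem_coe, Subgroup.mem_centralizer_iff]
  intro d hd
  obtain ⟨m, hm⟩ := MonoidHom.map_cyclic
    ((MulAut.conjNormal (H := commutator G) g).toMonoidHom)
  have hm' : ∀ e ∈ commutator G, g * e * g⁻¹ = e ^ m := fun e he => by
    simpa [MulAut.conjNormal_apply] using congrArg Subtype.val (hm ⟨e, he⟩)
  -- `a • g` acts in the same way
  have he : a⁻¹ • d ∈ commutator G := by
    have h1 : (commutator G).map (MulDistribMulAction.toMonoidHom G a⁻¹) ≤ commutator G := by
      rw [commutator_def, Subgroup.map_commutator]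
      exact Subgroup.commutator_mono le_top le_top
    exact h1 ⟨d, hd, rfl⟩
  have h2 : (a • g) * d * (a • g)⁻¹ = d ^ m := by
    have h3 := congrArg (fun t => a • t) (hm' _ he)
    simpa [smul_mul', smul_inv', smul_zpow'] using h3
  have h4 : g * d * g⁻¹ = (a • g) * d * (a • g)⁻¹ := by rw [hm' d hd, h2]
  calc d * (g⁻¹ * a • g) = g⁻¹ * (g * d * g⁻¹) * a • g := by group
    _ = g⁻¹ * a • g * d := by rw [h4]; group

omit [Finite A] in
theorem centralizer_commutator_isCyclic [IsZGroup G] :
    IsCyclic (Subgroup.centralizer (commutator G : Set G)) := by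
  set C := Subgroup.centralizer (commutator G : Set G) with hC
  have hcomm : ∀ x y : C, x * y = y * x := by
    refine (MonoidHom.isMulCommutative_of_isCyclic_of_ker_le_center
      ((Abelianization.of).comp C.subtype) ?_).is_comm.comm
    intro x hx
    have hx' : (x : G) ∈ commutator G := by
      rwa [MonoidHom.mem_ker, MonoidHom.comp_apply, ← MonoidHom.mem_ker,
        Abelianization.ker_of] at hx
    exact Subgroup.mem_center_iff.mpr fun y =>
      Subtype.ext (Subgroup.mem_centralizer_iff.mp y.2 x hx').symm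
  let _ : CommGroup C := CommGroup.mk hcomm
  have : Group.IsNilpotent C := CommGroup.isNilpotent
  infer_instance

/-- Structure of a coprime action on a group with cyclic Sylow subgroups. -/
theorem zgroup_coprime_action [IsZGroup G] (hcop : (Nat.card A).Coprime (Nat.card G)) :
    IsCyclic (actionCommutator G A) ∧
    (∀ x ∈ actionCommutator G A, (∀ a : A, a • x = x) → x = 1) ∧
    (∀ g : G, ∃ w ∈ actionCommutator G A, ∀ a : A, a • (g * w) = g * w) ∧
    (Nat.card (FixedPoints.subgroup A G)).Coprime (Nat.card (actionCommutator G A)) := by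
  classical
  have := Fintype.ofFinite A
  set C := Subgroup.centralizer (commutator G : Set G) with hC
  set I := actionCommutator G A with hI
  have hIC : I ≤ C := actionCommutator_le_centralizer
  have hCcyc : IsCyclic C := centralizer_commutator_isCyclic
  have hIcyc : IsCyclic I :=
    isCyclic_of_injective (Subgroup.inclusion hIC) (Subgroup.inclusion_injective hIC)
  let _ : CommGroup I := IsCyclic.commGroup
  let u : A → G → I := fun a g => ⟨g⁻¹ * a • g, Subgroup.subset_closure ⟨a, g, rfl⟩⟩
  have hsm : ∀ (a : A) (x : G), x ∈ I → a • x ∈ I := by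
    intro a x hx
    have h1 : x⁻¹ * a • x ∈ I := Subgroup.subset_closure ⟨a, x, rfl⟩
    simpa using I.mul_mem hx h1
  let act : A → I →* I := fun a =>
    { toFun := fun x => ⟨a • (x : G), hsm a x x.2⟩
      map_one' := Subtype.ext (smul_one a)
      map_mul' := fun x y => Subtype.ext (smul_mul' a (x : G) y) }
  -- the cocycle identity
  have hu : ∀ (a b : A) (g : G), act a (u b g) = (u a g)⁻¹ * u (a * b) g := by
    intro a b g
    apply Subtype.ext
    simp only [act, u, MonoidHom.coe_mk, OneHom.coe_mk, Subgroup.coe_mul, Subgroup.coe_inv,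
      smul_mul', smul_inv', mul_smul]
    group
  have hcopI : (Nat.card A).Coprime (Nat.card I) :=
    hcop.coprime_dvd_right (Subgroup.card_subgroup_dvd_card I)
  -- the norm map kills `I`
  let N : I →* I :=
    { toFun := fun x => ∏ a : A, act a x
      map_one' := by simp
      map_mul' := fun x y => by simp [Finset.prod_mul_distrib] }
  have hN : ∀ x : I, N x = 1 := by
    rintro ⟨x, hx⟩
    induction hx using Subgroup.closure_induction with
    | mem x hx =>
      obtain ⟨a, g, rfl⟩ := hx
      show N (u a g) = 1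
      simp only [N, MonoidHom.coe_mk, OneHom.coe_mk, hu, Finset.prod_mul_distrib,
        Finset.prod_inv_distrib]
      rw [inv_mul_eq_one]
      exact (Equiv.prod_comp (Equiv.mulRight a) (fun b => u b g)).symm
    | one => exact map_one N
    | mul x y hx' hy' h1 h2 =>
      show N (⟨x, hx'⟩ * ⟨y, hy'⟩ : I) = 1
      rw [map_mul, h1, h2, one_mul]
    | inv x hx' h1 =>
      show N ((⟨x, hx'⟩ : I)⁻¹) = 1
      rw [map_inv, h1, inv_one]
  have hfix : ∀ x ∈ I, (∀ a : A, a • x = x) → x = 1 := by
    intro x hx hxf
    have h1 : (⟨x, hx⟩ : I) ^ Nat.card A = 1 := by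
      rw [← hN ⟨x, hx⟩]
      simp only [N, MonoidHom.coe_mk, OneHom.coe_mk]
      rw [Finset.prod_congr rfl (fun a _ => show act a ⟨x, hx⟩ = ⟨x, hx⟩ from Subtype.ext (hxf a)),
        Finset.prod_const, Finset.card_univ, Nat.card_eq_fintype_card]
    have h2 := Nat.eq_one_of_dvd_coprimes hcopI (orderOf_dvd_of_pow_eq_one h1)
      (orderOf_dvd_natCard _)
    exact congrArg Subtype.val (orderOf_eq_one_iff.mp h2)
  refine ⟨hIcyc, hfix, ?_, ?_⟩
  · intro g
    set v : I := ∏ b : A, u b g with hv
    obtain ⟨w, hw⟩ := (powCoprime hcopI.symm).surjective v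
    refine ⟨w, w.2, fun a => ?_⟩
    have h1 : (act a w) ^ Nat.card A = ((u a g)⁻¹ * w) ^ Nat.card A := by
      have hw' : w ^ Nat.card A = v := hw
      rw [← map_pow, hw', hv, map_prod, Finset.prod_congr rfl (fun b _ => hu a b g),
        Finset.prod_mul_distrib, Finset.prod_const, Finset.card_univ, ← Nat.card_eq_fintype_card,
        mul_pow, hw', inv_pow]
      congr 1
      exact Equiv.prod_comp (Equiv.mulLeft a) (fun b => u b g)
    have h2 : a • (w : G) = (g⁻¹ * a • g)⁻¹ * (w : G) :=
      congrArg Subtype.val ((powCoprime hcopI.symm).injective h1)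
    rw [smul_mul', h2]
    group
  · refine Nat.coprime_of_dvd fun p hp hpF hpI => ?_
    have := Fact.mk hp
    obtain ⟨f, hf⟩ := exists_prime_orderOf_dvd_card' p hpF
    obtain ⟨x, hx⟩ := exists_prime_orderOf_dvd_card' p hpI
    rw [← Subgroup.orderOf_coe] at hf hx
    have hf1 : (f : G) ≠ 1 := fun h => hp.one_lt.ne' (hf.symm.trans (by rw [h, orderOf_one]))
    set X := Subgroup.zpowers (x : G) with hX
    have hXcard : Nat.card X = p := by rw [hX, Nat.card_zpowers, hx]
    have : I.Normal := actionCommutator_normal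
    have hXI : X ≤ I := Subgroup.zpowers_le.mpr x.2
    have hXn : X.Normal := by
      refine ⟨fun y hy g => ?_⟩
      have hle : X.map (MulAut.conj g).toMonoidHom ≤ I := by
        rintro _ ⟨z, hz, rfl⟩
        exact ‹I.Normal›.conj_mem z (hXI hz) g
      have heq : X.map (MulAut.conj g).toMonoidHom = X :=
        Cfsg.Agent.H41.eq_of_card_eq_of_le_cyclic hIcyc hle hXI
          (Subgroup.card_map_of_injective (MulEquiv.injective _))
      rw [← heq]
      exact ⟨y, hy, rfl⟩
    have hXp : IsPGroup p X := IsPGroup.of_card (n := 1) (by rw [hXcard, pow_one])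
    have hFp : IsPGroup p (Subgroup.zpowers (f : G)) :=
      IsPGroup.of_card (n := 1) (by rw [Nat.card_zpowers, hf, pow_one])
    obtain ⟨P, hP⟩ := hFp.exists_le_sylow
    have hXP : X ≤ P := by
      have hsup : IsPGroup p ((P : Subgroup G) ⊔ X : Subgroup G) :=
        P.isPGroup'.to_sup_of_normal_right hXp
      exact le_sup_right.trans (P.is_maximal' hsup le_sup_left).le
    have heq : Subgroup.zpowers (f : G) = X :=
      Cfsg.Agent.H41.eq_of_card_eq_of_le_cyclic (IsPGroup.isCyclic_of_isZGroup P.isPGroup') hP hXP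
        (by rw [Nat.card_zpowers, hf, hXcard])
    have hfX : (f : G) ∈ X := heq ▸ Subgroup.mem_zpowers _
    exact hf1 (hfix f (hXI hfX) fun a => f.2 a)

end

end Cfsg.Agent.H76
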