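import Mathlib
import Cfsg.Agent.H41.Basic
import Cfsg.Agent.Frobenius.NoFrobenius
import Cfsg.Agent.S0016

/-!
p-groups acting without fixed points are cyclic or generalised quaternion.
-/

set_option autoImplicit false

open scoped IsMulCommutative

namespace Cfsg.Agent.H76

/-- A `p`-group in which all subgroups of order `p ^ 2` are cyclic has at most one subgroup of
order `p`. -/
theorem eq_of_card_prime_of_cyclic_sq {P : Type*} [Group P] [Finite P] {p : ℕ} [hp : Fact p.Prime]
    (hP : IsPGroup p P) (h : ∀ U : Subgroup P, Nat.card U = p ^ 2 → IsCyclic U)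
    (A B : Subgroup P) (hA : Nat.card A = p) (hB : Nat.card B = p) : A = B := by
  have : Nontrivial P := by
    by_contra hn
    rw [not_nontrivial_iff_subsingleton] at hn
    exact hp.out.one_lt.ne' (hA.symm.trans Nat.card_unique)
  have := hP.center_nontrivial
  obtain ⟨z, hz⟩ := exists_prime_orderOf_dvd_card' (G := Subgroup.center P) p (by
    obtain ⟨k, hk⟩ := (hP.to_subgroup (Subgroup.center P)).exists_card_eq
    rw [hk]
    refine dvd_pow_self p ?_
    rintro rfl
    exact (Finite.one_lt_card (α := Subgroup.center P)).ne' (by rw [hk, pow_zero]))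
  have hZ : Nat.card (Subgroup.zpowers (z : P)) = p := by
    rw [Nat.card_zpowers, Subgroup.orderOf_coe, hz]
  suffices key : ∀ C : Subgroup P, Nat.card C = p → C = Subgroup.zpowers (z : P) from
    (key A hA).trans (key B hB).symm
  intro C hC
  by_contra hne
  have hd : Subgroup.zpowers (z : P) ⊓ C = ⊥ := by
    by_contra hbot
    rcases (Nat.dvd_prime hp.out).mp (hC ▸ Subgroup.card_dvd_of_le
      (inf_le_right : Subgroup.zpowers (z : P) ⊓ C ≤ C)) with h1 | h1
    · exact hbot (Subgroup.eq_bot_of_card_eq _ h1)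
    · have h2 := Subgroup.eq_of_le_of_card_ge
        (inf_le_right : Subgroup.zpowers (z : P) ⊓ C ≤ C) (by rw [h1, hC])
      have h3 := Subgroup.eq_of_le_of_card_ge
        (inf_le_left : Subgroup.zpowers (z : P) ⊓ C ≤ _) (by rw [h1, hZ])
      exact hne (h2.symm.trans h3)
  have hc : ∀ a ∈ Subgroup.zpowers (z : P), ∀ b ∈ C, a * b = b * a := by
    intro a ha b _
    obtain ⟨s, rfl⟩ := Subgroup.mem_zpowers_iff.mp ha
    exact ((Subgroup.mem_center_iff.mp (zpow_mem z.2 s)) b).symm
  have hcard := Cfsg.Agent.H41.card_sup_of_commute _ _ hc hd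
  rw [hZ, hC, ← sq] at hcard
  exact hne (Cfsg.Agent.H41.eq_of_card_eq_of_le_cyclic (h _ hcard) le_sup_right le_sup_left
    (by rw [hC, hZ]))

/-- A `p`-group acting without fixed points on a non-trivial abelian group is cyclic or
generalised quaternion. -/
theorem cyclic_or_quaternion_of_fpf {P M : Type*} [Group P] [Finite P] [CommGroup M] [Finite M]
    [Nontrivial M] {φ : P →* MulAut M} (hφ : Cfsg.Agent.Frobenius.IsFPF φ) (p : ℕ)
    [Fact p.Prime] (hP : IsPGroup p P) :
    IsCyclic P ∨ (p = 2 ∧ ∃ n : ℕ, Nonempty (P ≃* QuaternionGroup (2 ^ n))) :=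
  Cfsg.Agent.S0016.result p hP fun A B hA hB =>
    eq_of_card_prime_of_cyclic_sq hP (fun U hU =>
      Cfsg.Agent.Frobenius.isCyclic_of_card_sq
        (hφ.comp (f := U.subtype) U.subtype_injective) p hU) A B hA hB

end Cfsg.Agent.H76
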