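import Mathlib

/-!
Groups with a partition into abelian subgroups of equal order permuted by conjugation.
-/

set_option autoImplicit false

open scoped IsMulCommutative

namespace Cfsg.Agent.H76

variable {Q : Type*} [Group Q]

/-- A conjugation-invariant partition of a group into proper abelian subgroups. -/
structure EqPartition (Q : Type*) [Group Q] where
  part : Q → Subgroup Q
  mem : ∀ x : Q, x ∈ part x
  eq_part : ∀ x y : Q, x ≠ 1 → y ≠ 1 → y ∈ part x → part y = part x
  comm : ∀ x : Q, x ≠ 1 → IsMulCommutative (part x)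
  conj : ∀ g x y : Q, x ≠ 1 → y ∈ part x → g * y * g⁻¹ ∈ part (g * x * g⁻¹)
  ne_top : ∀ x : Q, x ≠ 1 → part x ≠ ⊤

namespace EqPartition

variable (F : EqPartition Q)

theorem eq_of_mem {x y w : Q} (hx : x ≠ 1) (hy : y ≠ 1) (hw : w ≠ 1) (h1 : w ∈ F.part x)
    (h2 : w ∈ F.part y) : F.part x = F.part y := by
  rw [← F.eq_part x w hx hw h1, F.eq_part y w hy hw h2]

theorem mem_normalizer_of_commute [Finite Q] {x g : Q} (hx : x ≠ 1) (h : Commute g x) :
    g ∈ Subgroup.normalizer (F.part x : Set Q) := by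
  rw [Subgroup.mem_normalizer_iff]
  have key : ∀ g : Q, Commute g x → ∀ y ∈ F.part x, g * y * g⁻¹ ∈ F.part x := by
    intro g hg y hy
    have := F.conj g x y hx hy
    rwa [show g * x * g⁻¹ = x by rw [hg.eq]; group] at this
  intro y
  refine ⟨key g h y, fun hy => ?_⟩
  have h2 := key g⁻¹ h.inv_left _ hy
  rwa [show g⁻¹ * (g * y * g⁻¹) * g⁻¹⁻¹ = y by group] at h2

/-- Commuting elements in different parts have the same prime order. -/
theorem orderOf_eq_of_commute [Finite Q] {x y : Q} (hx : x ≠ 1) (hy : y ≠ 1) (hc : Commute x y)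
    (hne : F.part x ≠ F.part y) : orderOf x = orderOf y ∧ (orderOf x).Prime := by
  have step : ∀ x y : Q, x ≠ 1 → y ≠ 1 → Commute x y → F.part x ≠ F.part y →
      ¬ orderOf x < orderOf y := by
    intro x y hx hy hc hne hlt
    have hxy : x * y ≠ 1 := by
      intro e
      have hyx : y = x⁻¹ := eq_inv_of_mul_eq_one_right e
      exact hne (F.eq_part x y hx hy (hyx ▸ inv_mem (F.mem x))).symm
    have hw : (x * y) ^ orderOf x = y ^ orderOf x := by
      rw [hc.mul_pow, pow_orderOf_eq_one, one_mul]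
    have hw1 : y ^ orderOf x ≠ 1 := fun e =>
      absurd (Nat.le_of_dvd (orderOf_pos x) (orderOf_dvd_of_pow_eq_one e)) (not_le.mpr hlt)
    have h2 : F.part (x * y) = F.part y :=
      F.eq_of_mem hxy hy hw1 (hw ▸ pow_mem (F.mem _) _) (pow_mem (F.mem _) _)
    have h3 : x ∈ F.part y := by
      have h4 : x * y ∈ F.part y := h2 ▸ F.mem (x * y)
      simpa using mul_mem h4 (inv_mem (F.mem y))
    exact hne (F.eq_part y x hy hx h3)
  have hxy : orderOf x = orderOf y :=
    le_antisymm (not_lt.mp (step y x hy hx hc.symm (Ne.symm hne)))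
      (not_lt.mp (step x y hx hy hc hne))
  refine ⟨hxy, ?_⟩
  have h1 : orderOf x ≠ 1 := by simpa [orderOf_eq_one_iff] using hx
  have hr := Nat.minFac_prime h1
  by_contra hnp
  set r := (orderOf x).minFac with hrdef
  have hlt : r < orderOf x := lt_of_le_of_ne (Nat.minFac_le (orderOf_pos x))
    (fun e => hnp (e ▸ hr))
  have hxr : x ^ r ≠ 1 := pow_ne_one_of_lt_orderOf hr.ne_zero hlt
  have hpart : F.part (x ^ r) = F.part x := F.eq_part x _ hx hxr (pow_mem (F.mem x) r)
  have h2 := step (x ^ r) y hxr hy (hc.pow_left r) (hpart ▸ hne)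
  rw [orderOf_pow' x hr.ne_zero, ← hxy, Nat.gcd_eq_right (Nat.minFac_dvd _)] at h2
  exact h2 (Nat.div_lt_self (orderOf_pos x) hr.one_lt)

variable [Finite Q]

/-- If `z` is central in the Sylow subgroup `S` and some prime other than `p` divides the order
of the parts, then `S` meets the part of `z` in index at most `p`. -/
theorem relIndex_dvd {m : ℕ} (hm : ∀ x : Q, x ≠ 1 → Nat.card (F.part x) = m) {p q : ℕ} [Fact p.Prime] [Fact q.Prime] (hpq : p ≠ q) (hq : q ∣ m)
    {S : Subgroup Q} (hS : IsPGroup p S) {z : Q} (hz : orderOf z = p) (hzS : z ∈ S)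
    (hcent : ∀ s ∈ S, Commute s z) : (F.part z).relIndex S ∣ p := by
  classical
  have hz1 : z ≠ 1 := by
    rintro rfl
    rw [orderOf_one] at hz
    exact (Fact.out : p.Prime).one_lt.ne hz
  set C := F.part z with hC
  have := F.comm z hz1
  have hCcomm : ∀ u v : C, u * v = v * u := fun u v => mul_comm u v
  have hnorm : ∀ s ∈ S, s ∈ Subgroup.normalizer (C : Set Q) := fun s hs =>
    F.mem_normalizer_of_commute hz1 (hcent s hs)
  set D := C.subgroupOf S with hD
  have : D.Normal := ⟨fun u hu g => by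
    rw [hD, Subgroup.mem_subgroupOf] at hu ⊢
    exact (Subgroup.mem_normalizer_iff.mp (hnorm g g.2) u).mp hu⟩
  have hout : ∀ s : S, s ∉ D → (s : Q) ^ p = 1 ∧ F.part (s : Q) ≠ C := by
    intro s hs
    have hs1 : (s : Q) ≠ 1 := fun e => hs (by rw [hD, Subgroup.mem_subgroupOf, e]; exact one_mem _)
    have hne : F.part (s : Q) ≠ C := fun e => hs (by
      rw [hD, Subgroup.mem_subgroupOf, ← e]; exact F.mem _)
    refine ⟨?_, hne⟩
    rw [← hz, ← (F.orderOf_eq_of_commute hs1 hz1 (hcent s s.2) hne).1]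
    exact pow_orderOf_eq_one _
  -- the action on `C`
  have hmem : ∀ (s : S) (u : C), (s : Q) * u * (s : Q)⁻¹ ∈ C := fun s u =>
    (Subgroup.mem_normalizer_iff.mp (hnorm s s.2) u).mp u.2
  let f : S → C → C := fun s u => ⟨(s : Q) * u * (s : Q)⁻¹, hmem s u⟩
  have fmul : ∀ (s t : S) (u : C), f (s * t) u = f s (f t u) := fun s t u => Subtype.ext (by
    simp only [f, Subgroup.coe_mul]; group)
  have fhom : ∀ (s : S) (u v : C), f s (u * v) = f s u * f s v := fun s u v => Subtype.ext (by
    simp only [f, Subgroup.coe_mul]; group)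
  have fone : ∀ u : C, f 1 u = u := fun u => Subtype.ext (by simp [f])
  have fprod : ∀ (s : S) (g : ℕ → C) (k : ℕ),
      f s (∏ i ∈ Finset.range k, g i) = ∏ i ∈ Finset.range k, f s (g i) := fun s g k =>
    map_prod (MonoidHom.mk' (f s) (fhom s)) g _
  have fker : ∀ (d : S), d ∈ D → ∀ u : C, f d u = u := by
    intro d hd u
    apply Subtype.ext
    have h := congrArg Subtype.val (hCcomm ⟨d, hd⟩ u)
    simp only [Subgroup.coe_mul] at h
    show (d : Q) * u * (d : Q)⁻¹ = u
    rw [h]; group
  -- norms of elements outside `D` kill q-elements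
  have hnorm1 : ∀ s : S, s ∉ D → ∀ u : C, u ^ q = 1 →
      ∏ i ∈ Finset.range p, f (s ^ i) u = 1 := by
    intro s hs u hu
    obtain ⟨hsp, hne⟩ := hout s hs
    have hsp' : s ^ p = 1 := Subtype.ext hsp
    set w := ∏ i ∈ Finset.range p, f (s ^ i) u
    have hwq : w ^ q = 1 := by
      rw [← Finset.prod_pow]
      refine Finset.prod_eq_one fun i _ => ?_
      have : f (s ^ i) u ^ q = f (s ^ i) (u ^ q) :=
        (map_pow (MonoidHom.mk' (f (s ^ i)) (fhom _)) u q).symm
      rw [this, hu]
      exact Subtype.ext (by simp [f])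
    by_contra hw
    have hfix : f s w = w := by
      rw [fprod]
      have h1 : ∀ i ∈ Finset.range p, f s (f (s ^ i) u) = f (s ^ (i + 1)) u := fun i _ => by
        rw [← fmul, ← pow_succ']
      rw [Finset.prod_congr rfl h1]
      have h2 := Finset.prod_range_succ' (fun i => f (s ^ i) u) p
      rw [Finset.prod_range_succ, hsp', pow_zero] at h2
      exact (mul_right_cancel h2).symm
    have hw1 : (w : Q) ≠ 1 := fun e => hw (Subtype.ext e)
    have hs1 : (s : Q) ≠ 1 := fun e => hs (by rw [hD, Subgroup.mem_subgroupOf, e]; exact one_mem _)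
    have hc : Commute (s : Q) (w : Q) := mul_inv_eq_iff_eq_mul.mp (congrArg Subtype.val hfix)
    have h3 := F.orderOf_eq_of_commute hs1 hw1 hc
      (fun e => hne (e.trans (F.eq_part z _ hz1 hw1 w.2)))
    have h4 : orderOf (s : Q) = p := orderOf_eq_prime hsp hs1
    have h5 : orderOf (w : Q) ∣ q := orderOf_dvd_of_pow_eq_one (by
      rw [← Subgroup.coe_pow, hwq, Subgroup.coe_one])
    rw [← h3.1, h4] at h5
    exact hpq ((Nat.prime_dvd_prime_iff_eq Fact.out Fact.out).mp h5)
  -- suppose the quotient is bigger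
  obtain ⟨u, hu⟩ := exists_prime_orderOf_dvd_card' (G := C) q (by rw [hm z hz1]; exact hq)
  have hT : IsPGroup p (S ⧸ D) := hS.to_quotient D
  obtain ⟨k, hk⟩ := IsPGroup.iff_card.mp hT
  have hrel : C.relIndex S = Nat.card (S ⧸ D) := rfl
  rw [hrel, hk]
  by_contra hbig
  have hk2 : 2 ≤ k := by
    by_contra hlt
    interval_cases k <;> simp at hbig
  have : Nontrivial (S ⧸ D) := Finite.one_lt_card_iff_nontrivial.mp (by
    rw [hk]; exact Nat.one_lt_pow (by omega) (Fact.out : p.Prime).one_lt)
  have := hT.center_nontrivial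
  obtain ⟨⟨ab, habc⟩, hab1⟩ := exists_ne (1 : Subgroup.center (S ⧸ D))
  obtain ⟨a, rfl⟩ := QuotientGroup.mk_surjective ab
  have ha : a ∉ D := fun h => hab1 (Subtype.ext ((QuotientGroup.eq_one_iff a).mpr h))
  obtain ⟨bb, hbb⟩ : ∃ bb : S ⧸ D, bb ∉ Subgroup.zpowers (QuotientGroup.mk a : S ⧸ D) := by
    by_contra hall
    push Not at hall
    have h1 : Nat.card (Subgroup.zpowers (QuotientGroup.mk a : S ⧸ D)) = p ^ k := by
      rw [show Subgroup.zpowers (QuotientGroup.mk a : S ⧸ D) = ⊤ from eq_top_iff.mpr fun x _ => hall x,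
        Subgroup.card_top, hk]
    rw [Nat.card_zpowers] at h1
    have h2 : orderOf (QuotientGroup.mk a : S ⧸ D) ∣ p := by
      refine orderOf_dvd_of_pow_eq_one ?_
      rw [← QuotientGroup.mk_pow, QuotientGroup.eq_one_iff]
      rw [show a ^ p = 1 from Subtype.ext (hout a ha).1]
      exact one_mem _
    rw [h1] at h2
    exact hbig h2
  obtain ⟨b, rfl⟩ := QuotientGroup.mk_surjective bb
  have hb : b ∉ D := fun h => hbb (by
    rw [(QuotientGroup.eq_one_iff b).mpr h]; exact one_mem _)
  have hswap : ∀ w : C, f (a * b) w = f (b * a) w := by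
    intro w
    have hd : (b * a)⁻¹ * (a * b) ∈ D := QuotientGroup.eq.mp (by
      rw [QuotientGroup.mk_mul, QuotientGroup.mk_mul]
      exact Subgroup.mem_center_iff.mp habc (QuotientGroup.mk b))
    conv_lhs => rw [show a * b = b * a * ((b * a)⁻¹ * (a * b)) by group]
    rw [fmul, fker _ hd]
  have hab : ∀ (i : ℕ) (w : C), f a (f (b ^ i) w) = f (b ^ i) (f a w) := by
    intro i
    induction i with
    | zero => intro w; rw [pow_zero, fone, fone]
    | succ i ih =>
      intro w
      rw [pow_succ', fmul, ← fmul a b, hswap, fmul, ih, ← fmul b]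
  have hpow : ∀ (j i : ℕ) (w : C), f ((a * b ^ j) ^ i) w = f (b ^ (j * i)) (f (a ^ i) w) := by
    intro j i
    induction i with
    | zero => intro w; simp [fone]
    | succ i ih =>
      intro w
      calc f ((a * b ^ j) ^ (i + 1)) w = f (a * b ^ j) (f ((a * b ^ j) ^ i) w) := by
            rw [← fmul, ← pow_succ']
        _ = f a (f (b ^ j) (f (b ^ (j * i)) (f (a ^ i) w))) := by rw [ih, fmul]
        _ = f a (f (b ^ (j * (i + 1))) (f (a ^ i) w)) := by
            rw [← fmul (b ^ j), ← pow_add]; congr 3; ring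
        _ = f (b ^ (j * (i + 1))) (f a (f (a ^ i) w)) := hab _ _
        _ = f (b ^ (j * (i + 1))) (f (a ^ (i + 1)) w) := by rw [← fmul a, ← pow_succ']
  have hjD : ∀ j : ℕ, a * b ^ j ∉ D := by
    intro j hj
    apply hbb
    have h1 : (QuotientGroup.mk a : S ⧸ D) * (QuotientGroup.mk b : S ⧸ D) ^ j = 1 := by
      rw [← QuotientGroup.mk_pow, ← QuotientGroup.mk_mul, QuotientGroup.eq_one_iff]; exact hj
    by_cases hjp : p ∣ j
    · obtain ⟨j', rfl⟩ := hjp
      exfalso
      apply ha
      rw [← QuotientGroup.eq_one_iff]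
      rw [← QuotientGroup.mk_pow, pow_mul, show b ^ p = 1 from Subtype.ext (hout b hb).1,
        one_pow, QuotientGroup.mk_one, mul_one] at h1
      exact h1
    · obtain ⟨j', hj'⟩ := exists_pow_eq_self_of_coprime (x := (QuotientGroup.mk b : S ⧸ D))
        (n := j) (Nat.Coprime.coprime_dvd_right
          (show orderOf (QuotientGroup.mk b : S ⧸ D) ∣ p from orderOf_dvd_of_pow_eq_one (by
            rw [← QuotientGroup.mk_pow, show b ^ p = 1 from Subtype.ext (hout b hb).1,
              QuotientGroup.mk_one]))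
          (((Fact.out : p.Prime).coprime_iff_not_dvd.mpr hjp).symm))
      rw [← hj', eq_inv_of_mul_eq_one_right h1]
      exact pow_mem (inv_mem (Subgroup.mem_zpowers _)) _
  have huq : u ^ q = 1 := by rw [← hu, pow_orderOf_eq_one]
  have hfu : ∀ s : S, f s u ^ q = 1 := by
    intro s
    rw [show f s u ^ q = f s (u ^ q) from
      (map_pow (MonoidHom.mk' (f s) (fhom s)) u q).symm, huq]
    exact Subtype.ext (by simp [f])
  have hbi : ∀ i : ℕ, 0 < i → i < p → b ^ i ∉ D := by
    intro i hi hip hmem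
    obtain ⟨i', hi'⟩ := exists_pow_eq_self_of_coprime (x := b) (n := i)
      (Nat.Coprime.coprime_dvd_right
        (show orderOf b ∣ p from orderOf_dvd_of_pow_eq_one (Subtype.ext (hout b hb).1))
        (((Fact.out : p.Prime).coprime_iff_not_dvd.mpr
          (Nat.not_dvd_of_pos_of_lt hi hip)).symm))
    exact hb (hi' ▸ pow_mem hmem i')
  have htotal : (∏ j ∈ Finset.range p, ∏ i ∈ Finset.range p, f ((a * b ^ j) ^ i) u) = 1 :=
    Finset.prod_eq_one fun j _ => hnorm1 _ (hjD j) u huq
  rw [Finset.prod_comm] at htotal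
  simp only [hpow] at htotal
  rw [Finset.prod_eq_single 0 (fun i hi hi0 => ?_) (fun h => absurd
    (Finset.mem_range.mpr (Fact.out : p.Prime).pos) h)] at htotal
  · simp only [mul_zero, pow_zero, fone, Finset.prod_const, Finset.card_range] at htotal
    have h1 := orderOf_dvd_of_pow_eq_one htotal
    rw [hu] at h1
    exact hpq ((Nat.prime_dvd_prime_iff_eq Fact.out Fact.out).mp h1).symm
  · have h := hnorm1 _ (hbi i (Nat.pos_of_ne_zero hi0) (Finset.mem_range.mp hi)) (f (a ^ i) u)
      (hfu _)
    simpa only [← pow_mul, mul_comm i] using h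

/-- An equally partitioned group has prime power order. -/
theorem exists_isPGroup [Nontrivial Q] {m : ℕ}
    (hm : ∀ x : Q, x ≠ 1 → Nat.card (F.part x) = m) : ∃ p : ℕ, p.Prime ∧ IsPGroup p Q := by
  classical
  have hcard : ∀ p : ℕ, p.Prime → p ∣ Nat.card Q → p ∣ m := by
    intro p hp hd
    have := Fact.mk hp
    obtain ⟨x, hx⟩ := exists_prime_orderOf_dvd_card' p hd
    have hx1 : x ≠ 1 := by rintro rfl; rw [orderOf_one] at hx; exact hp.one_lt.ne hx
    rw [← hm x hx1, ← hx]
    exact (Subgroup.orderOf_mk x (F.mem x)).symm ▸ orderOf_dvd_natCard _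
  set p := (Nat.card Q).minFac
  have hQ1 : Nat.card Q ≠ 1 := Finite.one_lt_card.ne'
  have hp : p.Prime := Nat.minFac_prime hQ1
  have := Fact.mk hp
  refine ⟨p, hp, ?_⟩
  by_cases hone : ∀ q : ℕ, q.Prime → q ∣ Nat.card Q → q = p
  · exact IsPGroup.of_card (n := (Nat.card Q).primeFactorsList.length)
      (Nat.eq_prime_pow_of_unique_prime_dvd Nat.card_pos.ne' fun {d} hd hdd => hone d hd hdd)
  push Not at hone
  obtain ⟨q, hq, hqd, hqp⟩ := hone
  exfalso
  -- every part is normal
  have hnormal : ∀ x : Q, x ≠ 1 → Subgroup.normalizer (F.part x : Set Q) = ⊤ := by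
    intro x0 hx0
    apply Subgroup.eq_top_of_card_eq
    refine Nat.dvd_antisymm (Subgroup.card_subgroup_dvd_card _)
      ((Nat.dvd_iff_prime_pow_dvd_dvd _ _).mpr fun r k hr hrk => ?_)
    rcases Nat.eq_zero_or_pos k with rfl | hk
    · simp
    have := Fact.mk hr
    have hrQ : r ∣ Nat.card Q := (dvd_pow_self r hk.ne').trans hrk
    obtain ⟨r', hr', hr'r, hr'Q⟩ : ∃ r' : ℕ, r'.Prime ∧ r ≠ r' ∧ r' ∣ Nat.card Q := by
      by_cases hrp : r = p
      · exact ⟨q, hq, hrp ▸ hqp.symm, hqd⟩
      · exact ⟨p, hp, hrp, Nat.minFac_dvd _⟩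
    have := Fact.mk hr'
    have hm0 : m ≠ 0 := by rw [← hm x0 hx0]; exact Nat.card_pos.ne'
    obtain ⟨Sd⟩ : Nonempty (Sylow r (F.part x0)) := inferInstance
    set T := (Sd : Subgroup (F.part x0)).map (F.part x0).subtype with hTdef
    have hTc : Nat.card T = r ^ m.factorization r := by
      rw [hTdef, Subgroup.card_map_of_injective (Subgroup.subtype_injective _),
        Sd.card_eq_multiplicity, hm x0 hx0]
    have hmr : 0 < m.factorization r := hr.factorization_pos_of_dvd hm0 (hcard r hr hrQ)
    obtain ⟨y, hy⟩ := exists_prime_orderOf_dvd_card' (G := T) r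
      (hTc ▸ dvd_pow_self r hmr.ne')
    have hy' : orderOf (y : Q) = r := by rw [Subgroup.orderOf_coe, hy]
    have hy1 : (y : Q) ≠ 1 := by
      intro e; rw [e, orderOf_one] at hy'; exact hr.one_lt.ne hy'
    have hyx0 : F.part (y : Q) = F.part x0 :=
      F.eq_part x0 _ hx0 hy1 (Subgroup.map_subtype_le _ y.2)
    obtain ⟨S, hTS⟩ := (Sd.2.map (F.part x0).subtype).exists_le_sylow
    have hyS : (y : Q) ∈ (S : Subgroup Q) := hTS y.2
    have : Nontrivial (S : Subgroup Q) :=
      ⟨⟨⟨y, hyS⟩, 1, fun e => hy1 (congrArg Subtype.val e)⟩⟩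
    have := S.2.center_nontrivial
    obtain ⟨zc, hzc⟩ := exists_prime_orderOf_dvd_card' (G := Subgroup.center (S : Subgroup Q)) r (by
      obtain ⟨i, hi⟩ := IsPGroup.iff_card.mp (S.2.to_subgroup (Subgroup.center (S : Subgroup Q)))
      rw [hi]
      refine dvd_pow_self r ?_
      rintro rfl
      exact (Finite.one_lt_card (α := Subgroup.center (S : Subgroup Q))).ne' (by simpa using hi))
    set z : Q := ((zc : (S : Subgroup Q)) : Q) with hzdef
    have hz : orderOf z = r := by rw [hzdef, Subgroup.orderOf_coe, Subgroup.orderOf_coe, hzc]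
    have hz1 : z ≠ 1 := by
      intro e; rw [e, orderOf_one] at hz; exact hr.one_lt.ne hz
    have hcent : ∀ s ∈ (S : Subgroup Q), Commute s z := fun s hs =>
      congrArg Subtype.val (Subgroup.mem_center_iff.mp zc.2 ⟨s, hs⟩)
    have hSN : (S : Subgroup Q) ≤ Subgroup.normalizer (F.part x0 : Set Q) := by
      by_cases hzy : F.part z = F.part x0
      · intro s hs
        rw [← hzy]
        exact F.mem_normalizer_of_commute hz1 (hcent s hs)
      · -- here `S` has order dividing `r ^ 2` and centralises `y`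
        have hidx := F.relIndex_dvd hm hr'r (hcard r' hr' hr'Q) S.2 hz zc.1.2 hcent
        have hTz : (F.part z).subgroupOf T = ⊥ := by
          rw [eq_bot_iff]
          intro t ht
          by_contra ht1
          exact hzy (F.eq_of_mem hz1 hx0 (fun e => ht1 (Subtype.ext e)) ht
            (Subgroup.map_subtype_le _ t.2))
        have h1 : Nat.card T ≤ r := by
          refine le_trans ?_ (Nat.le_of_dvd hr.pos hidx)
          have h2 := Subgroup.relIndex_le_of_le_right (H := F.part z) hTS
            Subgroup.index_ne_zero_of_finite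
          rwa [Subgroup.relIndex, hTz, Subgroup.index_bot] at h2
        have hm1 : m.factorization r = 1 := by
          rw [hTc] at h1
          have h2 : r ^ m.factorization r ≤ r ^ 1 := by rwa [pow_one]
          have := (Nat.pow_le_pow_iff_right hr.one_lt).mp h2
          omega
        set Cz := F.part z ⊓ (S : Subgroup Q)
        have hCz : Nat.card Cz ∣ r := by
          obtain ⟨i, hi⟩ := IsPGroup.iff_card.mp (S.2.to_le (inf_le_right : Cz ≤ _))
          have h2 := Subgroup.card_dvd_of_le (inf_le_left : Cz ≤ F.part z)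
          rw [hi, hm z hz1, hr.pow_dvd_iff_le_factorization hm0, hm1] at h2
          rw [hi]
          exact (Nat.pow_dvd_pow r h2).trans (dvd_of_eq (pow_one r))
        have hScard : Nat.card (S : Subgroup Q) ∣ r * r := by
          have h2 : Nat.card Cz * (F.part z).relIndex (S : Subgroup Q) =
              Nat.card (S : Subgroup Q) := by
            rw [← Subgroup.inf_relIndex_right (F.part z), ← Subgroup.relIndex_bot_left,
              ← Subgroup.relIndex_bot_left]
            exact Subgroup.relIndex_mul_relIndex _ _ _ bot_le inf_le_right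
          rw [← h2]
          exact mul_dvd_mul hCz hidx
        -- `S` is generated by `y` and `z`, which commute
        set Y := Subgroup.centralizer ({(y : Q)} : Set Q) ⊓ (S : Subgroup Q)
        have hYy : (y : Q) ∈ Y := ⟨Subgroup.mem_centralizer_iff.mpr (by rintro u rfl; rfl), hyS⟩
        have hYz : z ∈ Y := ⟨Subgroup.mem_centralizer_iff.mpr (by
          rintro u rfl; exact (hcent _ hyS).eq), zc.1.2⟩
        have hYS : Y = (S : Subgroup Q) := by
          apply Subgroup.eq_of_le_of_card_ge inf_le_right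
          by_contra hlt
          push Not at hlt
          obtain ⟨i, hi⟩ := IsPGroup.iff_card.mp (S.2.to_le (inf_le_right : Y ≤ _))
          obtain ⟨l, hl⟩ := IsPGroup.iff_card.mp S.2
          have hl2 : l ≤ 2 := by
            rw [hl, ← sq] at hScard
            exact (Nat.pow_dvd_pow_iff_le_right hr.one_lt).mp hScard
          rw [hi, hl] at hlt
          have hil := (Nat.pow_lt_pow_iff_right hr.one_lt).mp hlt
          have hi1 : Nat.card Y ≤ r := by
            rw [hi]
            exact le_of_le_of_eq (Nat.pow_le_pow_right hr.pos (by omega : i ≤ 1)) (pow_one r)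
          have hzY : Subgroup.zpowers z = Y := Subgroup.eq_of_le_of_card_ge
            (Subgroup.zpowers_le.mpr hYz) (by rwa [Nat.card_zpowers, hz])
          have h3 : (y : Q) ∈ F.part z :=
            (Subgroup.zpowers_le.mpr (F.mem z)) (hzY ▸ hYy)
          exact hzy ((F.eq_part z _ hz1 hy1 h3).symm.trans hyx0)
        intro s hs
        rw [← hyx0]
        rw [← hYS] at hs
        exact F.mem_normalizer_of_commute hy1
          ((Subgroup.mem_centralizer_iff.mp hs.1 _ rfl).symm)
    exact ((Nat.pow_dvd_pow _ ((hr.pow_dvd_iff_le_factorization Nat.card_pos.ne').mp hrk)).trans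
      (dvd_of_eq S.card_eq_multiplicity.symm)).trans (Subgroup.card_dvd_of_le hSN)
  -- two parts commute elementwise
  obtain ⟨x, hx⟩ := exists_prime_orderOf_dvd_card' (G := Q) p (Nat.minFac_dvd _)
  have hx1 : x ≠ 1 := by rintro rfl; rw [orderOf_one] at hx; exact hp.one_lt.ne hx
  obtain ⟨w, hw⟩ : ∃ w, w ∉ F.part x := by
    by_contra hall
    push Not at hall
    exact F.ne_top x hx1 (eq_top_iff.mpr fun u _ => hall u)
  have hw1 : w ≠ 1 := fun e => hw (e ▸ one_mem _)
  have := Fact.mk hq
  obtain ⟨y, hy⟩ := exists_prime_orderOf_dvd_card' (G := F.part w) q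
    (by rw [hm w hw1]; exact hcard q hq hqd)
  have hy' : orderOf (y : Q) = q := by rw [Subgroup.orderOf_coe, hy]
  have hy1 : (y : Q) ≠ 1 := by intro e; rw [e, orderOf_one] at hy'; exact hq.one_lt.ne hy'
  have hne : F.part x ≠ F.part w := fun e => hw (e ▸ F.mem w)
  have hdisj : Disjoint (F.part x) (F.part w) := by
    rw [disjoint_iff, eq_bot_iff]
    intro u hu
    by_contra hu1
    exact hne (F.eq_of_mem hx1 hw1 hu1 hu.1 hu.2)
  have hnx : (F.part x).Normal := Subgroup.normalizer_eq_top_iff.mp (hnormal x hx1)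
  have hnw : (F.part w).Normal := Subgroup.normalizer_eq_top_iff.mp (hnormal w hw1)
  have hc : Commute x (y : Q) :=
    Subgroup.commute_of_normal_of_disjoint _ _ hnx hnw hdisj x y (F.mem x) y.2
  have h := (F.orderOf_eq_of_commute hx1 hy1 hc
    (fun e => hne (e.trans (F.eq_part w _ hw1 hy1 y.2)))).1
  rw [hx, hy'] at h
  exact hqp h.symm

/-- In an equally partitioned `p`-group the elements of order greater than `p` lie in a normal
part. -/
theorem exists_normal_part {p : ℕ} [Fact p.Prime] [Nontrivial Q] (hQ : IsPGroup p Q) :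
    ∃ x : Q, x ≠ 1 ∧ (F.part x).Normal ∧ (∀ y : Q, y ^ p ∈ F.part x) ∧
      ∀ y : Q, y ∉ F.part x → y ^ p = 1 := by
  have := hQ.center_nontrivial
  obtain ⟨zc, hzc⟩ := exists_prime_orderOf_dvd_card' (G := Subgroup.center Q) p (by
    obtain ⟨i, hi⟩ := IsPGroup.iff_card.mp (hQ.to_subgroup (Subgroup.center Q))
    rw [hi]
    refine dvd_pow_self p ?_
    rintro rfl
    exact (Finite.one_lt_card (α := Subgroup.center Q)).ne' (by simpa using hi))
  have hz : orderOf (zc : Q) = p := by rw [Subgroup.orderOf_coe, hzc]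
  have hz1 : (zc : Q) ≠ 1 := by
    intro e; rw [e, orderOf_one] at hz; exact (Fact.out : p.Prime).one_lt.ne hz
  have hcomm : ∀ g : Q, Commute g (zc : Q) := fun g => Subgroup.mem_center_iff.mp zc.2 g
  have hout : ∀ y : Q, y ∉ F.part (zc : Q) → y ^ p = 1 := fun y hy => by
    have hy1 : y ≠ 1 := fun e => hy (e ▸ one_mem _)
    have h := F.orderOf_eq_of_commute hy1 hz1 (hcomm y) (fun e => hy (e ▸ F.mem y))
    rw [hz] at h
    rw [← h.1, pow_orderOf_eq_one]
  refine ⟨zc, hz1, Subgroup.normalizer_eq_top_iff.mp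
    (eq_top_iff.mpr fun g _ => F.mem_normalizer_of_commute hz1 (hcomm g)), fun y => ?_, hout⟩
  by_cases hy : y ∈ F.part (zc : Q)
  · exact pow_mem hy p
  · rw [hout y hy]; exact one_mem _

end EqPartition

end Cfsg.Agent.H76
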