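import Mathlib
import Cfsg.Agent.H76.EqualPartition

/-!
Itô: groups with two conjugacy class sizes.
-/

set_option autoImplicit false

open scoped IsMulCommutative

namespace Cfsg.Agent.H76

variable {G : Type*} [Group G] [Finite G]

theorem centralizer_le_of_pow {g : G} (k : ℕ) :
    Subgroup.centralizer ({g} : Set G) ≤ Subgroup.centralizer ({g ^ k} : Set G) := by
  intro u hu
  rw [Subgroup.mem_centralizer_iff] at hu ⊢
  rintro v rfl
  exact ((show Commute g u from hu g rfl).pow_left k).eq

theorem mem_centralizer_singleton {g u : G} :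
    u ∈ Subgroup.centralizer ({g} : Set G) ↔ Commute g u := by
  rw [Subgroup.mem_centralizer_iff]
  exact ⟨fun h => h g rfl, fun h => by rintro v rfl; exact h⟩

theorem eq_top_or_center_iff {g : G} :
    (Subgroup.centralizer ({g} : Set G)).index = 1 ↔ g ∈ Subgroup.center G := by
  rw [Subgroup.index_eq_one, Subgroup.centralizer_eq_top_iff_subset, Set.singleton_subset_iff]
  rfl

/-- With only one non-central class size, the centralisers of non-central elements are abelian
or the non-central elements have prime power order for one prime. -/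
theorem centralizer_comm_or_pPower (n : ℕ)
    (h : ∀ x : G, x ∉ Subgroup.center G → (Subgroup.centralizer ({x} : Set G)).index = n) :
    (∃ p : ℕ, p.Prime ∧ ∀ q : ℕ, q.Prime → q ≠ p →
        ∀ y : G, (∃ k, orderOf y = q ^ k) → y ∈ Subgroup.center G) ∨
      ∀ g : G, g ∉ Subgroup.center G → IsMulCommutative (Subgroup.centralizer ({g} : Set G)) := by
  classical
  set Z := Subgroup.center G with hZ
  -- inclusions between centralisers of non-central elements are equalities
  have hEq : ∀ x y : G, x ∉ Z → y ∉ Z → Subgroup.centralizer ({x} : Set G) ≤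
      Subgroup.centralizer ({y} : Set G) →
      Subgroup.centralizer ({x} : Set G) = Subgroup.centralizer ({y} : Set G) := by
    intro x y hx hy hle
    refine Subgroup.eq_of_le_of_card_ge hle (le_of_eq ?_)
    apply Nat.eq_of_mul_eq_mul_right (Nat.pos_of_ne_zero
      (Subgroup.index_ne_zero_of_finite (H := Subgroup.centralizer ({x} : Set G))))
    rw [Subgroup.card_mul_index, h x hx, ← h y hy, Subgroup.card_mul_index]
  -- coprime commuting elements
  have hcop : ∀ x y : G, x ∉ Z → Commute x y → (orderOf x).Coprime (orderOf y) →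
      Subgroup.centralizer ({x} : Set G) ≤ Subgroup.centralizer ({y} : Set G) := by
    intro x y hx hc hco
    obtain ⟨i, hi⟩ := exists_pow_eq_self_of_coprime hco.symm
    obtain ⟨j, hj⟩ := exists_pow_eq_self_of_coprime hco
    rw [← pow_mul] at hi hj
    have hxi : (x * y) ^ (orderOf y * i) = x := by
      rw [hc.mul_pow, hi, pow_mul y, pow_orderOf_eq_one, one_pow, mul_one]
    have hyj : (x * y) ^ (orderOf x * j) = y := by
      rw [hc.mul_pow, hj, pow_mul x, pow_orderOf_eq_one, one_pow, one_mul]
    have h1 : Subgroup.centralizer ({x * y} : Set G) ≤ Subgroup.centralizer ({x} : Set G) := by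
      conv_rhs => rw [← hxi]
      exact centralizer_le_of_pow _
    have h2 : x * y ∉ Z := fun hz => hx (hxi ▸ pow_mem hz _)
    rw [← hEq _ _ h2 hx h1]
    conv_rhs => rw [← hyj]
    exact centralizer_le_of_pow _
  by_cases hone : ∃ p : ℕ, p.Prime ∧ ∀ q : ℕ, q.Prime → q ≠ p →
      ∀ y : G, (∃ k, orderOf y = q ^ k) → y ∈ Z
  · exact Or.inl hone
  refine Or.inr fun g hg => ?_
  push Not at hone
  -- decomposition of the generators into prime power parts
  have hdec : ∀ (C : Subgroup G) (D : Subgroup G),
      (∀ y ∈ C, (∃ q k, q.Prime ∧ orderOf y = q ^ k) → y ∈ D) → C ≤ D := by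
    intro C D hCD y hy
    have : ∀ n, ∀ y ∈ C, orderOf y = n → y ∈ D := by
      intro n
      induction n using Nat.recOnPrimeCoprime with
      | zero => intro y _ hn; exact absurd hn (orderOf_pos y).ne'
      | prime_pow q k hq => intro y hy hn; exact hCD y hy ⟨q, k, hq, hn⟩
      | coprime a b ha hb hab iha ihb =>
        intro y hy hn
        have h1 : orderOf (y ^ a) = b := by
          rw [orderOf_pow' y (by omega), hn, Nat.gcd_eq_right (Dvd.intro b rfl), Nat.mul_div_cancel_left b (by omega)]
        have h2 : orderOf (y ^ b) = a := by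
          rw [orderOf_pow' y (by omega), hn, Nat.gcd_eq_right (Dvd.intro_left a rfl), Nat.mul_div_cancel a (by omega)]
        obtain ⟨u, v, huv⟩ : ∃ u v : ℤ, (a : ℤ) * u + (b : ℤ) * v = 1 := by
          obtain ⟨u, v, huv⟩ := Nat.isCoprime_iff_coprime.mpr hab
          exact ⟨u, v, by linear_combination huv⟩
        have : y = (y ^ a) ^ u * (y ^ b) ^ v := by
          rw [← zpow_natCast y a, ← zpow_natCast y b, ← zpow_mul, ← zpow_mul, ← zpow_add, huv,
            zpow_one]
        rw [this]
        exact mul_mem (zpow_mem (ihb _ (pow_mem hy a) h1) u) (zpow_mem (iha _ (pow_mem hy b) h2) v)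
    exact this _ y hy rfl
  -- a prime power part of `g` with the same centraliser
  obtain ⟨x, p, k, hp, hxk, hx, hgx⟩ : ∃ x p k, Nat.Prime p ∧ orderOf x = p ^ k ∧ x ∉ Z ∧
      Subgroup.centralizer ({g} : Set G) = Subgroup.centralizer ({x} : Set G) := by
    by_contra hno
    refine hg (hdec (Subgroup.zpowers g) Z ?_ (Subgroup.mem_zpowers g))
    rintro y hy ⟨q, k, hq, hyk⟩
    by_contra hyZ
    obtain ⟨s, rfl⟩ := Subgroup.mem_zpowers_iff.mp hy
    refine hno ⟨g ^ s, q, k, hq, hyk, hyZ, hEq g _ hg hyZ fun u hu => ?_⟩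
    exact mem_centralizer_singleton.mpr ((mem_centralizer_singleton.mp hu).zpow_left s)
  rw [hgx]
  set C := Subgroup.centralizer ({x} : Set G) with hC
  have hp' : ∀ u ∈ C, ∀ q k', q.Prime → q ≠ p → orderOf u = q ^ k' → ∀ w ∈ C, Commute u w := by
    intro u hu q k' hq hqp huk w hw
    have hle := hcop x u hx (mem_centralizer_singleton.mp hu) (by
      rw [hxk, huk]; exact ((Nat.coprime_primes hp hq).mpr hqp.symm).pow k k')
    exact mem_centralizer_singleton.mp (hle hw)
  -- a non-central element of order prime to `p` in `C`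
  obtain ⟨q, hq, hqp, y, ⟨l, hyl⟩, hy⟩ := hone p hp
  obtain ⟨u, hu, r, i, hr, hrp, hur, huZ⟩ : ∃ u ∈ C, ∃ r i, Nat.Prime r ∧ r ≠ p ∧
      orderOf u = r ^ i ∧ u ∉ Z := by
    by_contra hno
    push Not at hno
    have := Fact.mk hq
    obtain ⟨Sc⟩ : Nonempty (Sylow q C) := inferInstance
    have hScZ : (Sc : Subgroup C).map C.subtype ≤ Z := by
      rintro _ ⟨u, hu, rfl⟩
      obtain ⟨i, hi⟩ := IsPGroup.iff_orderOf.mp Sc.2 ⟨u, hu⟩
      rw [Subgroup.orderOf_mk, ← Subgroup.orderOf_coe] at hi
      exact hno u u.2 q i hq hqp hi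
    set B := Subgroup.centralizer ({y} : Set G)
    have hZB : Z ≤ B := Subgroup.center_le_centralizer _
    have hcard : Nat.card B = Nat.card C := by
      apply Nat.eq_of_mul_eq_mul_right (Nat.pos_of_ne_zero
        (Subgroup.index_ne_zero_of_finite (H := B)))
      rw [Subgroup.card_mul_index, h y hy, ← h x hx, Subgroup.card_mul_index]
    have hyB : y ∈ B := mem_centralizer_singleton.mpr (Commute.refl y)
    -- `y` and the Sylow subgroup of `C` generate a larger `q`-subgroup of `B`
    set T := (Sc : Subgroup C).map C.subtype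
    have : T.Normal := ⟨fun u hu a => by
      rwa [Subgroup.mem_center_iff.mp (hScZ hu) a, mul_inv_cancel_right]⟩
    have hYq : IsPGroup q (Subgroup.zpowers y) :=
      IsPGroup.of_card (n := l) (by rw [Nat.card_zpowers, hyl])
    have hU : IsPGroup q (Subgroup.zpowers y ⊔ T : Subgroup G) :=
      IsPGroup.to_sup_of_normal_right hYq (Sc.2.map C.subtype)
    obtain ⟨e, he⟩ := IsPGroup.iff_card.mp hU
    have hUB : Subgroup.zpowers y ⊔ T ≤ B :=
      sup_le (Subgroup.zpowers_le.mpr hyB) (hScZ.trans hZB)
    have h1 := Subgroup.card_dvd_of_le hUB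
    rw [he, hcard, hq.pow_dvd_iff_le_factorization Nat.card_pos.ne'] at h1
    have hT : Nat.card T = q ^ (Nat.card C).factorization q := by
      rw [Subgroup.card_map_of_injective (Subgroup.subtype_injective _), Sc.card_eq_multiplicity]
    have hTU : T = Subgroup.zpowers y ⊔ T := by
      refine Subgroup.eq_of_le_of_card_ge le_sup_right ?_
      rw [hT, he]
      exact Nat.pow_le_pow_right hq.pos h1
    exact hy (hScZ (hTU.symm ▸ Subgroup.mem_sup_left (Subgroup.mem_zpowers y) : y ∈ T))
  have hCu : Subgroup.centralizer ({u} : Set G) = C :=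
    (hEq x u hx huZ (hcop x u hx (mem_centralizer_singleton.mp hu) (by
      rw [hxk, hur]; exact ((Nat.coprime_primes hp hr).mpr hrp.symm).pow k i))).symm
  refine ⟨⟨?_⟩⟩
  have hcent : C ≤ Subgroup.centralizer (C : Set G) := by
    refine hdec C _ ?_
    rintro v hv ⟨s, k', hs, hvk⟩
    rw [Subgroup.mem_centralizer_iff]
    intro w hw
    by_cases hsp : s = p
    · have hle := hcop u v huZ (mem_centralizer_singleton.mp (hCu.symm ▸ hv)) (by
        rw [hur, hvk, hsp]; exact ((Nat.coprime_primes hr hp).mpr hrp).pow i k')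
      exact (mem_centralizer_singleton.mp (hle (hCu.symm ▸ hw))).eq.symm
    · exact (hp' v hv s k' hs hsp hvk w hw).eq.symm
  intro a b
  exact Subtype.ext (Subgroup.mem_centralizer_iff.mp (hcent b.2) a a.2)

/-- Itô: with one non-central class size, `G/Z(G)` is a `p`-group and has an abelian normal
subgroup with quotient of exponent dividing `p`. -/
theorem ito_two_class_sizes (n : ℕ) (hn : 1 < n)
    (h : ∀ x : G, x ∉ Subgroup.center G → (Subgroup.centralizer ({x} : Set G)).index = n)
    (hex : ∃ x : G, x ∉ Subgroup.center G) :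
    ∃ p : ℕ, p.Prime ∧ IsPGroup p (G ⧸ Subgroup.center G) ∧
      ∃ B : Subgroup G, B.Normal ∧ IsMulCommutative B ∧ (∀ y : G, y ^ p ∈ B) ∧
        ∀ y : G, y ∉ B → y ^ p ∈ Subgroup.center G := by
  classical
  set Z := Subgroup.center G with hZ
  have hcentTop : ∀ g : G, g ∉ Z → Subgroup.centralizer ({g} : Set G) ≠ ⊤ := by
    intro g hg e
    have := h g hg
    rw [e, Subgroup.index_top] at this
    omega
  have : Nontrivial (G ⧸ Z) := by
    obtain ⟨x, hx⟩ := hex
    exact ⟨⟨QuotientGroup.mk x, 1, fun e => hx ((QuotientGroup.eq_one_iff x).mp e)⟩⟩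
  have hsize : ∀ g u : G, g ∉ Z → u ∉ Z → Nat.card (Subgroup.centralizer ({g} : Set G)) =
      Nat.card (Subgroup.centralizer ({u} : Set G)) := by
    intro g u hg hu
    apply Nat.eq_of_mul_eq_mul_right (Nat.pos_of_ne_zero
      (Subgroup.index_ne_zero_of_finite (H := Subgroup.centralizer ({g} : Set G))))
    rw [Subgroup.card_mul_index, h g hg, ← h u hu, Subgroup.card_mul_index]
  -- the centre of a centraliser
  let A : G → Subgroup G := fun g => Subgroup.centralizer ({g} : Set G) ⊓
    Subgroup.centralizer (Subgroup.centralizer ({g} : Set G) : Set G)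
  have hgA : ∀ g : G, g ∈ A g := fun g => ⟨mem_centralizer_singleton.mpr (Commute.refl g),
    Subgroup.mem_centralizer_iff.mpr fun v hv =>
      ((mem_centralizer_singleton.mp hv).eq).symm⟩
  have hZA : ∀ g : G, Z ≤ A g := fun g =>
    le_inf (Subgroup.center_le_centralizer _) (Subgroup.center_le_centralizer _)
  have hEqC : ∀ g u : G, g ∉ Z → u ∉ Z → u ∈ A g →
      Subgroup.centralizer ({u} : Set G) = Subgroup.centralizer ({g} : Set G) := by
    intro g u hg hu hmem
    have hle : Subgroup.centralizer ({g} : Set G) ≤ Subgroup.centralizer ({u} : Set G) :=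
      fun w hw => mem_centralizer_singleton.mpr (Subgroup.mem_centralizer_iff.mp hmem.2 w hw).symm
    exact (Subgroup.eq_of_le_of_card_ge hle (hsize u g hu hg).le).symm
  have hwd : ∀ g : G, Subgroup.centralizer ({(QuotientGroup.mk g : G ⧸ Z).out} : Set G) =
      Subgroup.centralizer ({g} : Set G) := by
    intro g
    obtain ⟨w, hw⟩ := QuotientGroup.mk_out_eq_mul Z g
    rw [hw]
    ext u
    rw [mem_centralizer_singleton, mem_centralizer_singleton]
    have hwu : Commute (w : G) u := (Subgroup.mem_center_iff.mp w.2 u).symm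
    constructor
    · intro hc
      have := hc.mul_left hwu.inv_left
      rwa [mul_inv_cancel_right] at this
    · exact fun hc => hc.mul_left hwu
  have hwdA : ∀ g : G, A (QuotientGroup.mk g : G ⧸ Z).out = A g := fun g => by
    simp only [A, hwd]
  have hout : ∀ x : G ⧸ Z, x ≠ 1 → x.out ∉ Z := fun x hx e => hx (by
    rw [← QuotientGroup.out_eq' x]; exact (QuotientGroup.eq_one_iff _).mpr e)
  let F : EqPartition (G ⧸ Z) :=
    { part := fun x => (A x.out).map (QuotientGroup.mk' Z)
      mem := fun x => ⟨x.out, hgA _, QuotientGroup.out_eq' x⟩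
      eq_part := by
        intro x y hx hy hmem
        obtain ⟨u, hu, rfl⟩ := hmem
        show (A (QuotientGroup.mk u : G ⧸ Z).out).map _ = _
        rw [hwdA]
        simp only [A]
        rw [hEqC x.out u (hout x hx) (fun e => hy ((QuotientGroup.eq_one_iff u).mpr e)) hu]
      comm := by
        intro x hx
        refine ⟨⟨?_⟩⟩
        rintro ⟨_, a, ha, rfl⟩ ⟨_, b, hb, rfl⟩
        apply Subtype.ext
        show (QuotientGroup.mk' Z) a * (QuotientGroup.mk' Z) b = _
        rw [← map_mul, Subgroup.mem_centralizer_iff.mp hb.2 a ha.1, map_mul]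
        rfl
      conj := by
        intro g x y _ hy
        obtain ⟨g, rfl⟩ := QuotientGroup.mk_surjective g
        obtain ⟨x, rfl⟩ := QuotientGroup.mk_surjective x
        obtain ⟨u, hu, rfl⟩ := hy
        show _ ∈ (A ((QuotientGroup.mk g : G ⧸ Z) * QuotientGroup.mk x *
            (QuotientGroup.mk g)⁻¹).out).map _
        rw [← QuotientGroup.mk_inv, ← QuotientGroup.mk_mul, ← QuotientGroup.mk_mul, hwdA]
        rw [SetLike.mem_coe, hwdA] at hu
        refine ⟨g * u * g⁻¹, ⟨mem_centralizer_singleton.mpr
          ((mem_centralizer_singleton.mp hu.1).map (MulAut.conj g)),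
          Subgroup.mem_centralizer_iff.mpr fun v hv => ?_⟩, by simp⟩
        have hv' : g⁻¹ * v * g ∈ Subgroup.centralizer ({x} : Set G) := by
          refine mem_centralizer_singleton.mpr ?_
          have := (mem_centralizer_singleton.mp hv).map (MulAut.conj g⁻¹)
          simp only [MulAut.conj_apply, inv_inv] at this
          rwa [show g⁻¹ * (g * x * g⁻¹) * g = x by group] at this
        have h1 : g⁻¹ * v * g * u = u * (g⁻¹ * v * g) := Subgroup.mem_centralizer_iff.mp hu.2 _ hv'
        calc v * (g * u * g⁻¹) = g * (g⁻¹ * v * g * u) * g⁻¹ := by group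
          _ = g * (u * (g⁻¹ * v * g)) * g⁻¹ := by rw [h1]
          _ = _ := by group
      ne_top := by
        intro x hx e
        have h1 := congrArg (Subgroup.comap (QuotientGroup.mk' Z)) e
        rw [Subgroup.comap_map_eq_self (by rw [QuotientGroup.ker_mk']; exact hZA _),
          Subgroup.comap_top] at h1
        exact hcentTop _ (hout x hx) (top_le_iff.mp (h1 ▸ inf_le_left)) }
  obtain ⟨p, hp, hpg⟩ : ∃ p : ℕ, p.Prime ∧ IsPGroup p (G ⧸ Z) := by
    rcases centralizer_comm_or_pPower n h with ⟨p, hp, hpc⟩ | hab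
    · refine ⟨p, hp, ?_⟩
      have := Fact.mk hp
      refine IsPGroup.of_card (n := (Nat.card (G ⧸ Z)).primeFactorsList.length)
        (Nat.eq_prime_pow_of_unique_prime_dvd Nat.card_pos.ne' fun {q} hq hqd => ?_)
      by_contra hqp
      have := Fact.mk hq
      obtain ⟨S⟩ : Nonempty (Sylow q G) := inferInstance
      have hSZ : (S : Subgroup G) ≤ Z := by
        intro u hu
        obtain ⟨i, hi⟩ := IsPGroup.iff_orderOf.mp S.2 ⟨u, hu⟩
        rw [Subgroup.orderOf_mk] at hi
        exact hpc q hq hqp u ⟨i, hi⟩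
      exact S.not_dvd_index (hqd.trans (Subgroup.index_dvd_of_le hSZ))
    · refine F.exists_isPGroup (m := Nat.card (Subgroup.centralizer ({hex.choose} : Set G)) /
        Nat.card Z) fun x hx => ?_
      have hAC : A x.out = Subgroup.centralizer ({x.out} : Set G) := by
        refine le_antisymm inf_le_left (le_inf le_rfl fun u hu => ?_)
        have := hab _ (hout x hx)
        rw [Subgroup.mem_centralizer_iff]
        intro v hv
        exact congrArg Subtype.val
          (mul_comm (⟨v, hv⟩ : Subgroup.centralizer ({x.out} : Set G)) ⟨u, hu⟩)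
      show Nat.card ((A x.out).map _) = _
      rw [hAC, ← Subgroup.relIndex_ker, QuotientGroup.ker_mk']
      have h1 : Nat.card Z * Z.relIndex (Subgroup.centralizer ({x.out} : Set G)) =
          Nat.card (Subgroup.centralizer ({x.out} : Set G)) := by
        rw [← Subgroup.relIndex_bot_left, ← Subgroup.relIndex_bot_left]
        exact Subgroup.relIndex_mul_relIndex _ _ _ bot_le (Subgroup.center_le_centralizer _)
      rw [hsize _ _ hex.choose_spec (hout x hx), ← h1, Nat.mul_div_cancel_left _ Nat.card_pos]
  have := Fact.mk hp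
  obtain ⟨x, hx, hn', hpow, hout'⟩ := F.exists_normal_part hpg
  refine ⟨p, hp, hpg, _, hn'.comap (QuotientGroup.mk' Z), ?_, fun y => ?_, fun y hy => by
    rw [← QuotientGroup.eq_one_iff, QuotientGroup.mk_pow]
    exact hout' _ hy⟩
  · rw [show (F.part x).comap (QuotientGroup.mk' Z) = A x.out from
      Subgroup.comap_map_eq_self (by rw [QuotientGroup.ker_mk']; exact hZA _)]
    exact ⟨⟨fun a b => Subtype.ext (Subgroup.mem_centralizer_iff.mp b.2.2 a a.2.1)⟩⟩
  · rw [Subgroup.mem_comap, map_pow]; exact hpow _

end Cfsg.Agent.H76
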