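import Mathlib

/-!
Groups in which the elements outside a central subgroup `S` have abelian centralizers with at most
two conjugates of each generator inside: all the large centralizers coincide.
-/

set_option autoImplicit false

namespace Cfsg.Agent.H76.ACP

open Subgroup

variable {H : Type*} [Group H] [Finite H]

/-- The elements outside `S` whose centralizer is conjugate to that of `x`. -/
def block (S : Subgroup H) (x : H) : Set H :=
  {z | z ∉ S ∧ ∃ g : H, Commute z (g * x * g⁻¹)}

variable {S : Subgroup H}

/-- The hypothesis: centralizers outside `S` are abelian, and each element has at most two conjugates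
in its centralizer. -/
structure Good (S : Subgroup H) : Prop where
  central : S ≤ center H
  trans : ∀ x y z : H, y ∉ S → Commute x y → Commute y z → Commute x z
  two : ∀ x g h : H, x ∉ S → Commute (g * x * g⁻¹) x → Commute (h * x * h⁻¹) x →
    g * x * g⁻¹ ≠ x → h * x * h⁻¹ ≠ x → g * x * g⁻¹ = h * x * h⁻¹

variable (hS : Good S)
include hS

theorem conj_notMem {x : H} (g : H) (hx : x ∉ S) : g * x * g⁻¹ ∉ S := fun h => by
  have hc : g * x * g⁻¹ * g = g * (g * x * g⁻¹) := (Subgroup.mem_center_iff.mp (hS.central h) g).symm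
  rw [show g * x * g⁻¹ * g = g * x from by group] at hc
  exact hx (mul_left_cancel hc ▸ h)

theorem mem_block_self {x : H} (hx : x ∉ S) : x ∈ block S x :=
  ⟨hx, 1, by simp⟩

theorem block_disjoint {x y : H} (hx : x ∉ S) (hy : y ∉ S) (h : ¬ ∃ g : H, Commute y (g * x * g⁻¹)) :
    Disjoint (block S x) (block S y) := by
  rw [Set.disjoint_left]
  rintro z ⟨hz, g, hg⟩ ⟨-, k, hk⟩
  refine h ⟨k⁻¹ * g, ?_⟩
  have h1 : Commute (k * y * k⁻¹) (g * x * g⁻¹) := hS.trans _ z _ hz hk.symm hg
  have h2 := h1.map (MulAut.conj k⁻¹).toMonoidHom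
  simp only [MulEquiv.toMonoidHom_eq_coe, MonoidHom.coe_coe, MulAut.conj_apply, inv_inv] at h2
  rw [show k⁻¹ * (k * y * k⁻¹) * k = y by group,
    show k⁻¹ * (g * x * g⁻¹) * k = (k⁻¹ * g) * x * (k⁻¹ * g)⁻¹ by group] at h2
  exact h2

/-- The double count: a block, its stabilizer and the centralizer. -/
theorem block_count {x : H} (hx : x ∉ S) :
    (block S x).ncard * Nat.card {g : H // Commute (g * x * g⁻¹) x} =
      Nat.card H * (Nat.card (centralizer ({x} : Set H)) - Nat.card S) := by
  classical
  have := Fintype.ofFinite H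
  set C := centralizer ({x} : Set H) with hC
  have hSC : (S : Set H) ⊆ (C : Set H) := fun s hs =>
    mem_centralizer_singleton_iff.mpr (Subgroup.mem_center_iff.mp (hS.central hs) x).symm
  set n := Nat.card {g : H // Commute (g * x * g⁻¹) x} with hn
  let T : Finset (H × H) := Finset.univ.filter fun q => q.2 ∉ S ∧ Commute q.2 (q.1 * x * q.1⁻¹)
  have hA : ∀ g : H, (T.filter fun q => q.1 = g).card = Nat.card C - Nat.card S := by
    intro g
    have e : (T.filter fun q => q.1 = g).card =
        (Finset.univ.filter fun z : H => z ∉ S ∧ Commute z (g * x * g⁻¹)).card := by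
      refine Finset.card_bij (fun q _ => q.2) ?_ ?_ ?_
      · intro q hq
        simp only [T, Finset.mem_filter, Finset.mem_univ, true_and] at hq ⊢
        rw [← hq.2]; exact hq.1
      · intro q hq r hr he
        simp only [T, Finset.mem_filter, Finset.mem_univ, true_and] at hq hr
        exact Prod.ext (hq.2.trans hr.2.symm) he
      · intro z hz
        simp only [Finset.mem_filter, Finset.mem_univ, true_and] at hz
        exact ⟨(g, z), by simp [T, hz.1, hz.2], rfl⟩
    rw [e]
    have e2 : (Finset.univ.filter fun z : H => z ∉ S ∧ Commute z (g * x * g⁻¹)).card =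
        (Finset.univ.filter fun z : H => z ∉ S ∧ Commute z x).card := by
      refine Finset.card_bij (fun z _ => g⁻¹ * z * g) ?_ ?_ ?_
      · intro z hz
        simp only [Finset.mem_filter, Finset.mem_univ, true_and] at hz ⊢
        refine ⟨fun h => hz.1 ?_, ?_⟩
        · by_contra hz'
          exact conj_notMem hS g⁻¹ hz' (by rwa [inv_inv])
        · have h2 := hz.2.map (MulAut.conj g⁻¹).toMonoidHom
          simp only [MulEquiv.toMonoidHom_eq_coe, MonoidHom.coe_coe, MulAut.conj_apply, inv_inv] at h2
          rwa [show g⁻¹ * (g * x * g⁻¹) * g = x by group] at h2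
      · intro a _ b _ h
        simpa using h
      · intro z hz
        simp only [Finset.mem_filter, Finset.mem_univ, true_and] at hz ⊢
        refine ⟨g * z * g⁻¹, ⟨conj_notMem hS g hz.1, ?_⟩, by group⟩
        exact hz.2.map (MulAut.conj g).toMonoidHom
    rw [e2, ← Set.ncard_coe_finset]
    have e3 : ((Finset.univ.filter fun z : H => z ∉ S ∧ Commute z x : Finset H) : Set H) =
        (C : Set H) \ (S : Set H) := by
      ext z
      simp [hC, mem_centralizer_singleton_iff, Commute, SemiconjBy, and_comm]
    rw [e3, Set.ncard_sdiff hSC, ← Nat.card_coe_set_eq, ← Nat.card_coe_set_eq]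
    rfl
  have hB : ∀ z : H, z ∈ block S x → (T.filter fun q => q.2 = z).card = n := by
    rintro z ⟨hz, g₀, hg₀⟩
    rw [hn, Nat.card_eq_fintype_card, Fintype.card_subtype]
    refine Finset.card_bij (fun q _ => g₀⁻¹ * q.1) ?_ ?_ ?_
    · intro q hq
      simp only [T, Finset.mem_filter, Finset.mem_univ, true_and] at hq ⊢
      rw [hq.2] at hq
      have h1 : Commute (q.1 * x * q.1⁻¹) (g₀ * x * g₀⁻¹) := hS.trans _ z _ hz hq.1.2.symm hg₀
      have h2 := h1.map (MulAut.conj g₀⁻¹).toMonoidHom
      simp only [MulEquiv.toMonoidHom_eq_coe, MonoidHom.coe_coe, MulAut.conj_apply, inv_inv] at h2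
      rw [show g₀⁻¹ * (g₀ * x * g₀⁻¹) * g₀ = x by group,
        show g₀⁻¹ * (q.1 * x * q.1⁻¹) * g₀ = (g₀⁻¹ * q.1) * x * (g₀⁻¹ * q.1)⁻¹ by group] at h2
      exact h2
    · intro q hq r hr he
      simp only [T, Finset.mem_filter, Finset.mem_univ, true_and] at hq hr
      exact Prod.ext (mul_left_cancel he) (hq.2.trans hr.2.symm)
    · intro k hk
      simp only [Finset.mem_filter, Finset.mem_univ, true_and] at hk
      refine ⟨(g₀ * k, z), ?_, by group⟩
      simp only [T, Finset.mem_filter, Finset.mem_univ, true_and, and_true]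
      refine ⟨hz, ?_⟩
      have h1 := hk.map (MulAut.conj g₀).toMonoidHom
      simp only [MulEquiv.toMonoidHom_eq_coe, MonoidHom.coe_coe, MulAut.conj_apply] at h1
      rw [show g₀ * (k * x * k⁻¹) * g₀⁻¹ = g₀ * k * x * (g₀ * k)⁻¹ by group] at h1
      exact hS.trans _ _ _ (conj_notMem hS g₀ hx) hg₀ h1.symm
  have h1 : T.card = Nat.card H * (Nat.card C - Nat.card S) := by
    rw [Finset.card_eq_sum_card_fiberwise (f := Prod.fst) (t := Finset.univ) (by simp),
      Finset.sum_congr rfl (fun g _ => hA g), Finset.sum_const, Finset.card_univ, smul_eq_mul,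
      ← Nat.card_eq_fintype_card (α := H)]
  have h2 : T.card = (block S x).ncard * n := by
    have hmaps : ∀ q ∈ T, q.2 ∈ (block S x).toFinset := by
      intro q hq
      simp only [T, Finset.mem_filter, Finset.mem_univ, true_and] at hq
      simp only [Set.mem_toFinset]
      exact ⟨hq.1, q.1, hq.2⟩
    rw [Finset.card_eq_sum_card_fiberwise hmaps,
      Finset.sum_congr rfl (fun z hz => hB z (Set.mem_toFinset.mp hz)), Finset.sum_const, smul_eq_mul,
      Set.ncard_eq_toFinset_card']
  rw [← h2, h1]

/-- The stabilizer has order the centralizer's or twice that. -/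
theorem stab_card {x : H} (hx : x ∉ S) :
    Nat.card {g : H // Commute (g * x * g⁻¹) x} = Nat.card (centralizer ({x} : Set H)) ∨
    Nat.card {g : H // Commute (g * x * g⁻¹) x} = 2 * Nat.card (centralizer ({x} : Set H)) := by
  classical
  set C := centralizer ({x} : Set H) with hC
  have hfix : ∀ g : H, g * x * g⁻¹ = x ↔ g ∈ C := fun g => by
    rw [hC, mem_centralizer_singleton_iff, mul_inv_eq_iff_eq_mul]
  have hset : Nat.card {g : H // Commute (g * x * g⁻¹) x} = {g : H | Commute (g * x * g⁻¹) x}.ncard :=
    Nat.card_coe_set_eq _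
  rw [hset]
  have hCc : Nat.card C = (C : Set H).ncard := Nat.card_coe_set_eq _
  by_cases h : ∀ g : H, Commute (g * x * g⁻¹) x → g ∈ C
  · left
    rw [hCc]
    congr 1
    ext g
    refine ⟨h g, fun hg => ?_⟩
    show Commute (g * x * g⁻¹) x
    rw [(hfix g).mpr hg]
  · right
    push Not at h
    obtain ⟨g₀, hg₀, hg₀C⟩ := h
    have hsplit : {g : H | Commute (g * x * g⁻¹) x} = (C : Set H) ∪ (fun c => g₀ * c) '' (C : Set H) := by
      ext g
      simp only [Set.mem_ofPred_eq, Set.mem_union, SetLike.mem_coe, Set.mem_image]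
      constructor
      · intro hg
        by_cases hgC : g ∈ C
        · exact Or.inl hgC
        · right
          refine ⟨g₀⁻¹ * g, (hfix _).mp ?_, by group⟩
          have := hS.two x g g₀ hx hg hg₀ (fun e => hgC ((hfix g).mp e)) (fun e => hg₀C ((hfix g₀).mp e))
          rw [show g₀⁻¹ * g * x * (g₀⁻¹ * g)⁻¹ = g₀⁻¹ * (g * x * g⁻¹) * g₀ by group, this]
          group
      · rintro (hg | ⟨c, hc, rfl⟩)
        · rw [(hfix g).mpr hg]
        · rw [show g₀ * c * x * (g₀ * c)⁻¹ = g₀ * (c * x * c⁻¹) * g₀⁻¹ by group, (hfix c).mpr hc]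
          exact hg₀
    rw [hsplit, Set.ncard_union_eq ?_, Set.ncard_image_of_injective _ (mul_right_injective g₀), hCc, two_mul]
    rw [Set.disjoint_left]
    rintro g hg ⟨c, hc, rfl⟩
    exact hg₀C ((C.mul_mem_cancel_right hc).mp hg)

/-- Arithmetic of the weight of a block. -/
theorem block_weight {x : H} (hx : x ∉ S) :
    ∃ c k : ℕ, c = Nat.card (centralizer ({x} : Set H)) ∧ Nat.card S ∣ c ∧ 2 * Nat.card S ≤ c ∧ 1 ≤ k ∧
      (Nat.card H = k * c ∨ Nat.card H = 2 * (k * c)) ∧
      ((block S x).ncard + k * Nat.card S = k * c) ∧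
      (Nat.card S ≤ k * Nat.card S ∧ 2 * (k * Nat.card S) ≤ k * c) ∧
      ((∀ g : H, Commute (g * x * g⁻¹) x) ∨ 2 ≤ k) := by
  have hs : 1 ≤ Nat.card S := Nat.card_pos
  set C := centralizer ({x} : Set H) with hC
  have hle : S ≤ C := fun s hs =>
    mem_centralizer_singleton_iff.mpr (Subgroup.mem_center_iff.mp (hS.central hs) x).symm
  have hdvd := Subgroup.card_dvd_of_le hle
  have hxC : x ∈ C := mem_centralizer_singleton_iff.mpr rfl
  have h2 : 2 * Nat.card S ≤ Nat.card C := by
    obtain ⟨m, hm⟩ := hdvd
    rcases m with _ | _ | m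
    · exact absurd hm (by rw [mul_zero]; exact Nat.card_pos.ne')
    · have : S = C := Subgroup.eq_of_le_of_card_ge hle (le_of_eq (by rw [hm, zero_add, mul_one]))
      exact absurd (this ▸ hxC) hx
    · rw [hm]; nlinarith
  set n := Nat.card {g : H // Commute (g * x * g⁻¹) x} with hn
  have hcount := block_count hS hx
  rw [← hn] at hcount
  have hnpos : 0 < n := by
    have : Nonempty {g : H // Commute (g * x * g⁻¹) x} := ⟨⟨1, by simp⟩⟩
    exact Nat.card_pos
  have hnd : n ∣ Nat.card H := by
    let N : Subgroup H :=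
      { carrier := {g | Commute (g * x * g⁻¹) x}
        one_mem' := by simp
        mul_mem' := by
          intro a b ha hb
          show Commute (a * b * x * (a * b)⁻¹) x
          have h1 := hb.map (MulAut.conj a).toMonoidHom
          simp only [MulEquiv.toMonoidHom_eq_coe, MonoidHom.coe_coe, MulAut.conj_apply] at h1
          rw [show a * (b * x * b⁻¹) * a⁻¹ = a * b * x * (a * b)⁻¹ by group] at h1
          exact hS.trans _ _ _ (conj_notMem hS a hx) h1 ha
        inv_mem' := by
          intro a ha
          show Commute (a⁻¹ * x * a⁻¹⁻¹) x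
          have h1 := ha.map (MulAut.conj a⁻¹).toMonoidHom
          simp only [MulEquiv.toMonoidHom_eq_coe, MonoidHom.coe_coe, MulAut.conj_apply, inv_inv] at h1
          rw [show a⁻¹ * (a * x * a⁻¹) * a = x by group] at h1
          rw [inv_inv]
          exact h1.symm }
    have : Nat.card N = n := rfl
    rw [← this]
    exact Subgroup.card_subgroup_dvd_card N
  obtain ⟨q, hq⟩ := hnd
  have hq1 : 1 ≤ q := by
    rcases Nat.eq_zero_or_pos q with rfl | h
    · rw [mul_zero] at hq; exact absurd hq Nat.card_pos.ne'
    · exact h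
  have hblock : (block S x).ncard + q * Nat.card S = q * Nat.card C := by
    have hb : (block S x).ncard = q * (Nat.card C - Nat.card S) := by
      rw [hq] at hcount
      have : (block S x).ncard * n = q * (Nat.card C - Nat.card S) * n := by rw [hcount]; ring
      exact Nat.eq_of_mul_eq_mul_right hnpos this
    rw [hb, ← Nat.mul_add, Nat.sub_add_cancel (by omega)]
  refine ⟨Nat.card C, q, rfl, hdvd, h2, hq1, ?_, hblock, ⟨Nat.le_mul_of_pos_left _ hq1, ?_⟩, ?_⟩
  · rcases stab_card hS hx with h | h
    · left; rw [hq, hn, h, mul_comm]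
    · right; rw [hq, hn, h]; ring
  · calc 2 * (q * Nat.card S) = q * (2 * Nat.card S) := by ring
      _ ≤ q * Nat.card C := Nat.mul_le_mul_left q h2
  · by_cases hall : ∀ g : H, Commute (g * x * g⁻¹) x
    · exact Or.inl hall
    · right
      by_contra hlt
      have hq' : q = 1 := by omega
      rw [hq', mul_one, hn] at hq
      refine hall fun g => ?_
      have huniv : {g : H | Commute (g * x * g⁻¹) x} = Set.univ := by
        refine Set.eq_of_subset_of_ncard_le (Set.subset_univ _) ?_
        rw [Set.ncard_univ, ← Nat.card_coe_set_eq, hq]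
        rfl
      exact (Set.ext_iff.mp huniv g).mpr trivial

/-- Two elements with centralizers of order at least `6|S|` commute. -/
theorem commute_of_large {x y : H} (hx : x ∉ S) (hy : y ∉ S)
    (hxc : 6 * Nat.card S ≤ Nat.card (centralizer ({x} : Set H)))
    (hyc : 6 * Nat.card S ≤ Nat.card (centralizer ({y} : Set H))) : Commute x y := by
  classical
  by_contra hne
  have hs : 1 ≤ Nat.card S := Nat.card_pos
  have hsub : ∀ z, block S z ⊆ (S : Set H)ᶜ := fun z w hw => hw.1
  have hcompl : ((S : Set H)ᶜ).ncard + Nat.card S = Nat.card H := by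
    have h := Set.ncard_add_ncard_compl (S : Set H)
    rw [← Nat.card_coe_set_eq] at h
    rw [add_comm]; exact h
  obtain ⟨c, k, hcdef, -, hc2, hk1, hcn, hW, hl, hk2⟩ := block_weight hS hx
  rw [← hcdef] at hxc
  have hbig : 6 * (k * Nat.card S) ≤ k * c :=
    le_trans (le_of_eq (by ring)) (Nat.mul_le_mul_left k hxc)
  by_cases hconj : ∃ g : H, Commute y (g * x * g⁻¹)
  · -- one class
    obtain ⟨g, hg⟩ := hconj
    have hk : 2 ≤ k := by
      refine hk2.resolve_left fun hall => hne ?_
      exact (hS.trans _ _ _ (conj_notMem hS g hx) hg (hall g)).symm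
    have hrest : ((S : Set H)ᶜ \ block S x).ncard + (block S x).ncard = ((S : Set H)ᶜ).ncard :=
      Set.ncard_sdiff_add_ncard_of_subset (hsub x)
    have hks : 2 * Nat.card S ≤ k * Nat.card S := Nat.mul_le_mul_right _ hk
    rcases Set.eq_empty_or_nonempty ((S : Set H)ᶜ \ block S x) with he | ⟨z, hzS, hzx⟩
    · rw [he, Set.ncard_empty] at hrest
      rcases hcn with hn | hn <;> omega
    · obtain ⟨c₂, k₂, -, hc2d, hc22, hk21, hcn2, hW2, hl2, -⟩ := block_weight hS hzS
      have hd2 : Disjoint (block S x) (block S z) :=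
        block_disjoint hS hx hzS fun h => hzx ⟨hzS, h⟩
      have hle2 : (block S x).ncard + (block S z).ncard ≤ ((S : Set H)ᶜ).ncard := by
        rw [← Set.ncard_union_eq hd2]
        exact Set.ncard_le_ncard (Set.union_subset (hsub x) (hsub z))
      rcases hcn with hn | hn
      · rcases hcn2 with hn2 | hn2 <;> omega
      · have hrest2 : ((S : Set H)ᶜ \ (block S x ∪ block S z)).ncard + ((block S x).ncard + (block S z).ncard)
            = ((S : Set H)ᶜ).ncard := by
          rw [← Set.ncard_union_eq hd2]
          exact Set.ncard_sdiff_add_ncard_of_subset (Set.union_subset (hsub x) (hsub z))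
        obtain ⟨m, hm⟩ := hc2d
        rcases Set.eq_empty_or_nonempty ((S : Set H)ᶜ \ (block S x ∪ block S z)) with he | ⟨w, hwS, hw⟩
        · rw [he, Set.ncard_empty] at hrest2
          rcases Nat.lt_or_ge m 3 with hm3 | hm3
          · interval_cases m
            · omega
            · omega
            · have : k₂ * c₂ = 2 * (k₂ * Nat.card S) := by rw [hm]; ring
              rcases hcn2 with hn2 | hn2 <;> omega
          · have : 3 * (k₂ * Nat.card S) ≤ k₂ * c₂ := by
              rw [hm]; nlinarith [Nat.mul_le_mul_left (k₂ * Nat.card S) hm3]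
            rcases hcn2 with hn2 | hn2 <;> omega
        · rw [Set.mem_union, not_or] at hw
          obtain ⟨c₃, k₃, -, hc3d, hc32, hk31, hcn3, hW3, hl3, -⟩ := block_weight hS hwS
          have hd3 : Disjoint (block S x ∪ block S z) (block S w) := by
            rw [Set.disjoint_union_left]
            exact ⟨block_disjoint hS hx hwS fun h => hw.1 ⟨hwS, h⟩,
              block_disjoint hS hzS hwS fun h => hw.2 ⟨hwS, h⟩⟩
          have hle3 : (block S x).ncard + (block S z).ncard + (block S w).ncard ≤ ((S : Set H)ᶜ).ncard := by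
            rw [← Set.ncard_union_eq hd2, ← Set.ncard_union_eq hd3]
            exact Set.ncard_le_ncard (Set.union_subset (Set.union_subset (hsub x) (hsub z)) (hsub w))
          obtain ⟨m₃, hm₃⟩ := hc3d
          rcases Nat.lt_or_ge m 3 with hm3 | hm3
          · rcases Nat.lt_or_ge m₃ 3 with hm33 | hm33
            · -- both of size 2
              have hm2' : c₂ = 2 * Nat.card S := le_antisymm (by rw [hm]; nlinarith) hc22
              have hm32' : c₃ = 2 * Nat.card S := le_antisymm (by rw [hm₃]; nlinarith) hc32
              have hm2 : k₂ * c₂ = 2 * (k₂ * Nat.card S) := by rw [hm2']; ring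
              have hm32 : k₃ * c₃ = 2 * (k₃ * Nat.card S) := by rw [hm32']; ring
              rcases hcn2 with hn2 | hn2
              · rcases hcn3 with hn3 | hn3 <;> omega
              · rcases hcn3 with hn3 | hn3
                · omega
                · rcases Set.eq_empty_or_nonempty
                    ((S : Set H)ᶜ \ (block S x ∪ block S z ∪ block S w)) with he | ⟨v, hvS, hv⟩
                  · have hrest3 := Set.ncard_sdiff_add_ncard_of_subset
                      (Set.union_subset (Set.union_subset (hsub x) (hsub z)) (hsub w))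
                    rw [he, Set.ncard_empty, Set.ncard_union_eq hd3, Set.ncard_union_eq hd2] at hrest3
                    omega
                  · simp only [Set.mem_union, not_or] at hv
                    obtain ⟨c₄, k₄, -, -, hc42, hk41, hcn4, hW4, hl4, -⟩ := block_weight hS hvS
                    have hd4 : Disjoint (block S x ∪ block S z ∪ block S w) (block S v) := by
                      rw [Set.disjoint_union_left, Set.disjoint_union_left]
                      exact ⟨⟨block_disjoint hS hx hvS fun h => hv.1.1 ⟨hvS, h⟩,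
                        block_disjoint hS hzS hvS fun h => hv.1.2 ⟨hvS, h⟩⟩,
                        block_disjoint hS hwS hvS fun h => hv.2 ⟨hvS, h⟩⟩
                    have hle4 : (block S x).ncard + (block S z).ncard + (block S w).ncard + (block S v).ncard
                        ≤ ((S : Set H)ᶜ).ncard := by
                      rw [← Set.ncard_union_eq hd2, ← Set.ncard_union_eq hd3, ← Set.ncard_union_eq hd4]
                      exact Set.ncard_le_ncard (Set.union_subset
                        (Set.union_subset (Set.union_subset (hsub x) (hsub z)) (hsub w)) (hsub v))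
                    rcases hcn4 with hn4 | hn4 <;> omega
            · have : 3 * (k₃ * Nat.card S) ≤ k₃ * c₃ := by
                rw [hm₃]; nlinarith [Nat.mul_le_mul_left (k₃ * Nat.card S) hm33]
              rcases hcn2 with hn2 | hn2 <;> rcases hcn3 with hn3 | hn3 <;> omega
          · have : 3 * (k₂ * Nat.card S) ≤ k₂ * c₂ := by
              rw [hm]; nlinarith [Nat.mul_le_mul_left (k₂ * Nat.card S) hm3]
            rcases hcn2 with hn2 | hn2 <;> rcases hcn3 with hn3 | hn3 <;> omega
  · -- two classes
    obtain ⟨c', k', hc'def, -, hc'2, hk'1, hcn', hW', hl', -⟩ := block_weight hS hy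
    rw [← hc'def] at hyc
    have hbig' : 6 * (k' * Nat.card S) ≤ k' * c' :=
      le_trans (le_of_eq (by ring)) (Nat.mul_le_mul_left k' hyc)
    have hd : Disjoint (block S x) (block S y) := block_disjoint hS hx hy hconj
    have hle : (block S x).ncard + (block S y).ncard ≤ ((S : Set H)ᶜ).ncard := by
      rw [← Set.ncard_union_eq hd]
      exact Set.ncard_le_ncard (Set.union_subset (hsub x) (hsub y))
    rcases Set.eq_empty_or_nonempty ((S : Set H)ᶜ \ (block S x ∪ block S y)) with he | ⟨z, hzS, hz⟩
    · have hrest := Set.ncard_sdiff_add_ncard_of_subset (Set.union_subset (hsub x) (hsub y))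
      rw [he, Set.ncard_empty, Set.ncard_union_eq hd] at hrest
      rcases hcn with hn | hn <;> rcases hcn' with hn' | hn' <;> omega
    · rw [Set.mem_union, not_or] at hz
      obtain ⟨c₂, k₂, -, -, hc22, hk21, hcn2, hW2, hl2, -⟩ := block_weight hS hzS
      have hd2 : Disjoint (block S x ∪ block S y) (block S z) := by
        rw [Set.disjoint_union_left]
        exact ⟨block_disjoint hS hx hzS fun h => hz.1 ⟨hzS, h⟩,
          block_disjoint hS hy hzS fun h => hz.2 ⟨hzS, h⟩⟩
      have hle2 : (block S x).ncard + (block S y).ncard + (block S z).ncard ≤ ((S : Set H)ᶜ).ncard := by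
        rw [← Set.ncard_union_eq hd, ← Set.ncard_union_eq hd2]
        exact Set.ncard_le_ncard (Set.union_subset (Set.union_subset (hsub x) (hsub y)) (hsub z))
      rcases hcn with hn | hn <;> rcases hcn' with hn' | hn' <;> rcases hcn2 with hn2 | hn2 <;> omega

theorem card_centralizer_of_conj {x y : H} {g : H} (hx : x ∉ S) (hy : y ∉ S) (h : Commute y (g * x * g⁻¹)) :
    Nat.card (centralizer ({y} : Set H)) = Nat.card (centralizer ({x} : Set H)) := by
  have e : centralizer ({y} : Set H) = (centralizer ({x} : Set H)).map (MulAut.conj g).toMonoidHom := by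
    ext z
    rw [Subgroup.mem_map_equiv, mem_centralizer_singleton_iff, mem_centralizer_singleton_iff, MulAut.conj_symm_apply]
    constructor
    · intro hz
      have h1 : Commute z (g * x * g⁻¹) := hS.trans _ y _ hy hz h
      have h2 := h1.map (MulAut.conj g⁻¹).toMonoidHom
      simp only [MulEquiv.toMonoidHom_eq_coe, MonoidHom.coe_coe, MulAut.conj_apply, inv_inv] at h2
      rw [show g⁻¹ * (g * x * g⁻¹) * g = x by group] at h2
      exact h2
    · intro hz
      have h1 := (show Commute (g⁻¹ * z * g) x from hz).map (MulAut.conj g).toMonoidHom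
      simp only [MulEquiv.toMonoidHom_eq_coe, MonoidHom.coe_coe, MulAut.conj_apply] at h1
      rw [show g * (g⁻¹ * z * g) * g⁻¹ = z by group] at h1
      exact hS.trans _ _ _ (conj_notMem hS g hx) h1 h.symm
  rw [e, Nat.card_congr ((centralizer ({x} : Set H)).equivMapOfInjective (MulAut.conj g).toMonoidHom (MulAut.conj g).injective).toEquiv]

/-- No four pairwise noncommuting elements have centralizers of order a multiple of `4|S|`. -/
theorem false_of_four {x : Fin 4 → H} (hx : ∀ i, x i ∉ S)
    (h4 : ∀ i, 4 * Nat.card S ∣ Nat.card (centralizer ({x i} : Set H)))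
    (hne : ∀ i j, i ≠ j → ¬ Commute (x i) (x j)) : False := by
  classical
  have hs : 1 ≤ Nat.card S := Nat.card_pos
  have hge : ∀ i, 4 * Nat.card S ≤ Nat.card (centralizer ({x i} : Set H)) := fun i =>
    Nat.le_of_dvd Nat.card_pos (h4 i)
  have hsub : ∀ z, block S z ⊆ (S : Set H)ᶜ := fun z w hw => hw.1
  have hcompl : ((S : Set H)ᶜ).ncard + Nat.card S = Nat.card H := by
    have h := Set.ncard_add_ncard_compl (S : Set H)
    rw [← Nat.card_coe_set_eq] at h
    rw [add_comm]; exact h
  obtain ⟨c, k, hcdef, -, -, hk1, hcn, hW, hl, -⟩ := block_weight hS (hx 0)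
  have hbig : 4 * (k * Nat.card S) ≤ k * c :=
    le_trans (le_of_eq (by ring)) (Nat.mul_le_mul_left k (hcdef ▸ hge 0))
  by_cases hall : ∀ i, ∃ g : H, Commute (x i) (g * x 0 * g⁻¹)
  · -- a single class
    have hci : ∀ i, Nat.card (centralizer ({x i} : Set H)) = c := fun i => by
      obtain ⟨g, hg⟩ := hall i
      rw [card_centralizer_of_conj hS (hx 0) (hx i) hg, hcdef]
    have hc4 : c = 4 * Nat.card S := by
      obtain ⟨m, hm⟩ := h4 0
      rw [← hcdef] at hm
      rcases m with _ | _ | m
      · exfalso; have := hge 0; rw [← hcdef, hm] at this; omega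
      · rw [hm]; ring
      · exfalso
        refine hne 0 1 (by decide) (commute_of_large hS (hx 0) (hx 1) ?_ ?_) <;>
        · rw [hci, hm]; nlinarith
    have hkc : k * c = 4 * (k * Nat.card S) := by rw [hc4]; ring
    -- the four centralizers are disjoint inside the block
    let V : Fin 4 → Set H := fun i => (centralizer ({x i} : Set H) : Set H) \ (S : Set H)
    have hVsub : ∀ i, V i ⊆ block S (x 0) := by
      rintro i z ⟨hz, hzS⟩
      obtain ⟨g, hg⟩ := hall i
      exact ⟨hzS, g, hS.trans _ _ _ (hx i) (mem_centralizer_singleton_iff.mp hz) hg⟩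
    have hVcard : ∀ i, (V i).ncard + Nat.card S = c := by
      intro i
      have h1 : (S : Set H) ⊆ (centralizer ({x i} : Set H) : Set H) := fun s hs =>
        mem_centralizer_singleton_iff.mpr (Subgroup.mem_center_iff.mp (hS.central hs) (x i)).symm
      have := Set.ncard_sdiff_add_ncard_of_subset h1
      rw [show ((centralizer ({x i} : Set H) : Set H)).ncard = c from (Nat.card_coe_set_eq _).symm.trans (hci i),
        show ((S : Set H)).ncard = Nat.card S from (Nat.card_coe_set_eq _).symm] at this
      exact this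
    have hVd : ∀ i j, i ≠ j → Disjoint (V i) (V j) := fun i j hij => by
      rw [Set.disjoint_left]
      rintro z ⟨hz, hzS⟩ ⟨hz', -⟩
      exact hne i j hij (hS.trans _ z _ hzS (mem_centralizer_singleton_iff.mp hz :
        Commute z (x i)).symm (mem_centralizer_singleton_iff.mp hz'))
    have hk : 4 * Nat.card S ≤ k * Nat.card S := by
      have h01 := hVd 0 1 (by decide)
      have h2 : Disjoint (V 0 ∪ V 1) (V 2) := Set.disjoint_union_left.mpr ⟨hVd 0 2 (by decide), hVd 1 2 (by decide)⟩
      have h3 : Disjoint (V 0 ∪ V 1 ∪ V 2) (V 3) := Set.disjoint_union_left.mpr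
        ⟨Set.disjoint_union_left.mpr ⟨hVd 0 3 (by decide), hVd 1 3 (by decide)⟩, hVd 2 3 (by decide)⟩
      have := Set.ncard_le_ncard (Set.union_subset (Set.union_subset (Set.union_subset (hVsub 0) (hVsub 1))
        (hVsub 2)) (hVsub 3))
      rw [Set.ncard_union_eq h3, Set.ncard_union_eq h2, Set.ncard_union_eq h01] at this
      have := hVcard 0; have := hVcard 1; have := hVcard 2; have := hVcard 3
      omega
    rcases Set.eq_empty_or_nonempty ((S : Set H)ᶜ \ block S (x 0)) with he | ⟨z, hzS, hzx⟩
    · have hrest := Set.ncard_sdiff_add_ncard_of_subset (hsub (x 0))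
      rw [he, Set.ncard_empty] at hrest
      rcases hcn with hn | hn <;> omega
    · obtain ⟨c₂, k₂, -, hc2d, hc22, -, hcn2, hW2, hl2, -⟩ := block_weight hS hzS
      have hd2 : Disjoint (block S (x 0)) (block S z) :=
        block_disjoint hS (hx 0) hzS fun h => hzx ⟨hzS, h⟩
      have hle2 : (block S (x 0)).ncard + (block S z).ncard ≤ ((S : Set H)ᶜ).ncard := by
        rw [← Set.ncard_union_eq hd2]
        exact Set.ncard_le_ncard (Set.union_subset (hsub _) (hsub z))
      have hshape : ∀ (c₂ k₂ : ℕ), Nat.card S ∣ c₂ → 2 * Nat.card S ≤ c₂ →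
          k₂ * c₂ = 2 * (k₂ * Nat.card S) ∨ k₂ * c₂ = 3 * (k₂ * Nat.card S) ∨
            4 * (k₂ * Nat.card S) ≤ k₂ * c₂ := by
        rintro c₂ k₂ ⟨m, rfl⟩ h2
        rcases m with _ | _ | _ | _ | m
        · omega
        · omega
        · left; ring
        · right; left; ring
        · right; right; nlinarith [Nat.zero_le (k₂ * Nat.card S * m)]
      rcases Set.eq_empty_or_nonempty ((S : Set H)ᶜ \ (block S (x 0) ∪ block S z)) with he | ⟨w, hwS, hw⟩
      · have hrest := Set.ncard_sdiff_add_ncard_of_subset (Set.union_subset (hsub (x 0)) (hsub z))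
        rw [he, Set.ncard_empty, Set.ncard_union_eq hd2] at hrest
        rcases hshape c₂ k₂ hc2d hc22 with h | h | h <;> rcases hcn with hn | hn <;>
          rcases hcn2 with hn2 | hn2 <;> omega
      · rw [Set.mem_union, not_or] at hw
        obtain ⟨c₃, k₃, -, hc3d, hc32, -, hcn3, hW3, hl3, -⟩ := block_weight hS hwS
        have hd3 : Disjoint (block S (x 0) ∪ block S z) (block S w) := by
          rw [Set.disjoint_union_left]
          exact ⟨block_disjoint hS (hx 0) hwS fun h => hw.1 ⟨hwS, h⟩,
            block_disjoint hS hzS hwS fun h => hw.2 ⟨hwS, h⟩⟩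
        rcases Set.eq_empty_or_nonempty ((S : Set H)ᶜ \ (block S (x 0) ∪ block S z ∪ block S w)) with
          he | ⟨v, hvS, hv⟩
        · have hrest := Set.ncard_sdiff_add_ncard_of_subset
            (Set.union_subset (Set.union_subset (hsub (x 0)) (hsub z)) (hsub w))
          rw [he, Set.ncard_empty, Set.ncard_union_eq hd3, Set.ncard_union_eq hd2] at hrest
          rcases hshape c₂ k₂ hc2d hc22 with h | h | h <;> rcases hshape c₃ k₃ hc3d hc32 with h' | h' | h' <;>
            rcases hcn with hn | hn <;> rcases hcn2 with hn2 | hn2 <;> rcases hcn3 with hn3 | hn3 <;> omega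
        · simp only [Set.mem_union, not_or] at hv
          obtain ⟨c₄, k₄, -, -, -, -, hcn4, hW4, hl4, -⟩ := block_weight hS hvS
          have hd4 : Disjoint (block S (x 0) ∪ block S z ∪ block S w) (block S v) := by
            rw [Set.disjoint_union_left, Set.disjoint_union_left]
            exact ⟨⟨block_disjoint hS (hx 0) hvS fun h => hv.1.1 ⟨hvS, h⟩,
              block_disjoint hS hzS hvS fun h => hv.1.2 ⟨hvS, h⟩⟩,
              block_disjoint hS hwS hvS fun h => hv.2 ⟨hvS, h⟩⟩
          have hle4 : (block S (x 0)).ncard + (block S z).ncard + (block S w).ncard + (block S v).ncard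
              ≤ ((S : Set H)ᶜ).ncard := by
            rw [← Set.ncard_union_eq hd2, ← Set.ncard_union_eq hd3, ← Set.ncard_union_eq hd4]
            exact Set.ncard_le_ncard (Set.union_subset
              (Set.union_subset (Set.union_subset (hsub _) (hsub z)) (hsub w)) (hsub v))
          rcases hcn with hn | hn <;> rcases hcn2 with hn2 | hn2 <;> rcases hcn3 with hn3 | hn3 <;>
            rcases hcn4 with hn4 | hn4 <;> omega
  · -- two classes
    push Not at hall
    obtain ⟨i, hi⟩ := hall
    obtain ⟨c', k', hc'def, -, -, hk'1, hcn', hW', hl', -⟩ := block_weight hS (hx i)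
    have hbig' : 4 * (k' * Nat.card S) ≤ k' * c' :=
      le_trans (le_of_eq (by ring)) (Nat.mul_le_mul_left k' (hc'def ▸ hge i))
    have hd : Disjoint (block S (x 0)) (block S (x i)) :=
      block_disjoint hS (hx 0) (hx i) fun ⟨g, hg⟩ => hi g hg
    rcases Set.eq_empty_or_nonempty ((S : Set H)ᶜ \ (block S (x 0) ∪ block S (x i))) with he | ⟨z, hzS, hz⟩
    · have hrest := Set.ncard_sdiff_add_ncard_of_subset (Set.union_subset (hsub (x 0)) (hsub (x i)))
      rw [he, Set.ncard_empty, Set.ncard_union_eq hd] at hrest
      rcases hcn with hn | hn <;> rcases hcn' with hn' | hn' <;> omega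
    · rw [Set.mem_union, not_or] at hz
      obtain ⟨c₂, k₂, -, -, -, -, hcn2, hW2, hl2, -⟩ := block_weight hS hzS
      have hd2 : Disjoint (block S (x 0) ∪ block S (x i)) (block S z) := by
        rw [Set.disjoint_union_left]
        exact ⟨block_disjoint hS (hx 0) hzS fun h => hz.1 ⟨hzS, h⟩,
          block_disjoint hS (hx i) hzS fun h => hz.2 ⟨hzS, h⟩⟩
      have hle2 : (block S (x 0)).ncard + (block S (x i)).ncard + (block S z).ncard ≤ ((S : Set H)ᶜ).ncard := by
        rw [← Set.ncard_union_eq hd, ← Set.ncard_union_eq hd2]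
        exact Set.ncard_le_ncard (Set.union_subset (Set.union_subset (hsub _) (hsub _)) (hsub z))
      rcases hcn with hn | hn <;> rcases hcn' with hn' | hn' <;> rcases hcn2 with hn2 | hn2 <;> omega

end Cfsg.Agent.H76.ACP
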