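import Mathlib
import Cfsg.Agent.Linear.TwoMatrix
import Cfsg.Agent.H76.AbelianCentralizerPartition

/-!
Coprime subgroups of GL_2: non-scalar elements of large projective order commute.
-/

set_option autoImplicit false

namespace Cfsg.Agent.H76.GLT

open Matrix
open Cfsg.Agent.Linear

variable {F : Type*} [Field F]

local notation "M2" => Matrix (Fin 2) (Fin 2) F

/-- The scalar matrices inside a subgroup of GL_2. -/
def scalars (H : Subgroup (GL (Fin 2) F)) : Subgroup H where
  carrier := {g | ∃ c : F, ((g : GL (Fin 2) F) : M2) = c • 1}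
  one_mem' := ⟨1, by simp⟩
  mul_mem' := by
    rintro a b ⟨c, hc⟩ ⟨d, hd⟩
    exact ⟨c * d, by simp [hc, hd, smul_smul, mul_comm]⟩
  inv_mem' := by
    rintro a ⟨c, hc⟩
    have hc0 : c ≠ 0 := by
      rintro rfl
      rw [zero_smul] at hc
      exact Units.ne_zero (a : GL (Fin 2) F) hc
    refine ⟨c⁻¹, ?_⟩
    have h1 : ((a : GL (Fin 2) F) : M2) * (c⁻¹ • 1) = 1 := by
      rw [hc, Matrix.smul_mul, one_mul, smul_smul, mul_inv_cancel₀ hc0, one_smul]
    rw [Subgroup.coe_inv]
    exact Units.inv_eq_of_mul_eq_one_right h1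

theorem mem_scalars_iff {H : Subgroup (GL (Fin 2) F)} {g : H} :
    g ∈ scalars H ↔ IsScalarTwo ((g : GL (Fin 2) F) : M2) :=
  isScalarTwo_iff.symm

theorem cayley (x : M2) : x * x = x.trace • x - x.det • 1 := by
  apply ext_two <;> simp [mul_two_apply, Matrix.det_fin_two, Matrix.trace_fin_two] <;> ring

/-- An element of order invertible in the field, not scalar, has distinct eigenvalues. -/
theorem disc_ne_zero {x : GL (Fin 2) F} {k : ℕ} (hk : (k : F) ≠ 0) (hxk : x ^ k = 1)
    (h2 : (2 : F) ≠ 0) (hns : ¬ IsScalarTwo (x : M2)) :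
    (x : M2).trace ^ 2 - 4 * (x : M2).det ≠ 0 := by
  intro hd
  set T := (x : M2).trace
  set D := (x : M2).det with hD
  set c : F := T / 2 with hc
  have hT : T = 2 * c := by rw [hc]; field_simp
  have hDc : D = c ^ 2 := by
    have : (4 : F) * D = 4 * c ^ 2 := by rw [hT] at hd; linear_combination -hd
    exact mul_left_cancel₀ (by rw [show (4 : F) = 2 * 2 by norm_num]; exact mul_ne_zero h2 h2) this
  have hc0 : c ≠ 0 := by
    rintro h
    have : IsUnit D := (Matrix.isUnit_iff_isUnit_det _).mp x.isUnit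
    rw [hDc, h] at this
    simp at this
  set N : M2 := (x : M2) - c • 1 with hN
  have hN2 : N * N = 0 := by
    rw [hN, sub_mul, mul_sub, mul_sub, cayley (x : M2)]
    show (T • (x : M2) - D • 1) - _ - _ = _
    rw [hT, hDc]
    simp only [Matrix.smul_mul, Matrix.mul_smul, one_mul, mul_one, smul_smul]
    module
  have hpow : ∀ n : ℕ, (c • (1 : M2) + N) ^ (n + 1) = c ^ (n + 1) • (1 : M2) + ((n + 1 : F) * c ^ n) • N := by
    intro n
    induction n with
    | zero => simp
    | succ n ih =>
      rw [pow_succ, ih, add_mul, mul_add, mul_add]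
      simp only [Matrix.smul_mul, Matrix.mul_smul, one_mul, mul_one, smul_smul, hN2, smul_zero, add_zero]
      push_cast
      module
  obtain ⟨n, rfl⟩ : ∃ n, k = n + 1 := ⟨k - 1, by
    rcases Nat.eq_zero_or_pos k with rfl | h
    · simp at hk
    · omega⟩
  have h1 : (c • (1 : M2) + N) ^ (n + 1) = 1 := by
    rw [hN, add_sub_cancel, ← Units.val_pow_eq_pow_val, hxk, Units.val_one]
  rw [hpow] at h1
  push_cast at hk
  set r : F := (n + 1 : F) * c ^ n with hr
  have hr0 : r ≠ 0 := mul_ne_zero hk (pow_ne_zero _ hc0)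
  refine hns (isScalarTwo_iff.mpr ⟨r⁻¹ * (1 - c ^ (n + 1)) + c, ?_⟩)
  have hNs : N = (r⁻¹ * (1 - c ^ (n + 1))) • (1 : M2) := by
    have : r • N = (1 - c ^ (n + 1)) • (1 : M2) := by rw [sub_smul, one_smul, eq_sub_iff_add_eq, add_comm, h1]
    rw [mul_smul, ← this, inv_smul_smul₀ hr0]
  rw [add_smul, ← hNs, hN, sub_add_cancel]

/-- A matrix commuting with a nonscalar one with distinct eigenvalues and having the same invariants is
one of two. -/
theorem eq_or_eq {X U : M2} (h2 : (2 : F) ≠ 0) (hX : ¬ IsScalarTwo X) (hd : X.trace ^ 2 - 4 * X.det ≠ 0)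
    (hc : U * X = X * U) (htr : U.trace = X.trace) (hdet : U.det = X.det) :
    U = X ∨ U = X.trace • 1 + (-1 : F) • X := by
  obtain ⟨a, b, rfl⟩ := exists_of_commute hX hc
  rw [trace_smul_add_smul] at htr
  rw [det_smul_add_smul] at hdet
  have hb : (1 - b) * (1 + b) * (X.trace ^ 2 - 4 * X.det) = 0 := by
    linear_combination (4 : F) * hdet + (-2 * a - b * X.trace - X.trace) * htr
  rcases mul_eq_zero.mp hb with h | h
  · rcases mul_eq_zero.mp h with h | h
    · left
      have hb1 : b = 1 := (sub_eq_zero.mp h).symm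
      subst hb1
      have ha : a = 0 := mul_left_cancel₀ h2 (by linear_combination htr)
      rw [ha, zero_smul, one_smul, zero_add]
    · right
      have hb1 : b = -1 := by linear_combination h
      subst hb1
      have ha : a = X.trace := mul_left_cancel₀ h2 (by linear_combination htr)
      rw [ha]
  · exact absurd h hd

/-- The hypotheses of the counting lemma hold for coprime subgroups of GL_2. -/
theorem good (h2 : (2 : F) ≠ 0) (H : Subgroup (GL (Fin 2) F)) [Finite H]
    (hcop : ∀ x : H, (orderOf x : F) ≠ 0) : H76.ACP.Good (scalars H) where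
  central := by
    intro g hg
    obtain ⟨c, hc⟩ := hg
    refine Subgroup.mem_center_iff.mpr fun k => Subtype.ext (Units.ext ?_)
    simp [hc]
  trans := by
    intro x y z hy hxy hyz
    have hy' : ¬ IsScalarTwo ((y : GL (Fin 2) F) : M2) := fun h => hy (mem_scalars_iff.mpr h)
    obtain ⟨a, b, hab⟩ := exists_of_commute hy' (congrArg (fun q : H => ((q : GL (Fin 2) F) : M2)) hxy.eq)
    obtain ⟨a', b', hab'⟩ := exists_of_commute hy' (congrArg (fun q : H => ((q : GL (Fin 2) F) : M2)) hyz.symm.eq)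
    refine Subtype.ext (Units.ext ?_)
    simp only [Subgroup.coe_mul, Units.val_mul, hab, hab', mul_add, add_mul, Matrix.smul_mul, Matrix.mul_smul,
      one_mul, mul_one, smul_smul]
    module
  two := by
    intro x g h hx hg hh hgne hhne
    have hx' : ¬ IsScalarTwo ((x : GL (Fin 2) F) : M2) := fun e => hx (mem_scalars_iff.mpr e)
    have hd := disc_ne_zero (hcop x) (by rw [← Subgroup.coe_pow, pow_orderOf_eq_one, Subgroup.coe_one]) h2 hx'
    have key : ∀ u : H, Commute (u * x * u⁻¹) x → u * x * u⁻¹ ≠ x →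
        (((u * x * u⁻¹ : H) : GL (Fin 2) F) : M2) =
          ((x : GL (Fin 2) F) : M2).trace • 1 + (-1 : F) • ((x : GL (Fin 2) F) : M2) := by
      intro u hu hne
      refine (eq_or_eq h2 hx' hd (congrArg (fun q : H => ((q : GL (Fin 2) F) : M2)) hu.eq) ?_ ?_).resolve_left ?_
      · simp only [Subgroup.coe_mul, Subgroup.coe_inv, Units.val_mul]
        exact Matrix.trace_units_conj _ _
      · simp only [Subgroup.coe_mul, Subgroup.coe_inv, Units.val_mul]
        exact Matrix.det_units_conj _ _
      · exact fun e => hne (Subtype.ext (Units.ext e))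
    exact Subtype.ext (Units.ext ((key g hg hgne).trans (key h hh hhne).symm))

/-- Two elements whose first six powers are pairwise distinct modulo scalars commute. -/
theorem commute_of_six (h2 : (2 : F) ≠ 0) (H : Subgroup (GL (Fin 2) F)) [Finite H]
    (hcop : ∀ x : H, (orderOf x : F) ≠ 0) {x y : H}
    (hx : ∀ k, 1 ≤ k → k ≤ 5 → x ^ k ∉ scalars H) (hy : ∀ k, 1 ≤ k → k ≤ 5 → y ^ k ∉ scalars H) :
    Commute x y := by
  classical
  have hG := good h2 H hcop
  have hbig : ∀ x : H, (∀ k, 1 ≤ k → k ≤ 5 → x ^ k ∉ scalars H) →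
      6 * Nat.card (scalars H) ≤ Nat.card (Subgroup.centralizer ({x} : Set H)) := by
    intro x hx
    let f : Fin 6 × scalars H → Subgroup.centralizer ({x} : Set H) := fun q =>
      ⟨x ^ (q.1 : ℕ) * q.2, mem_centralizer_singleton_iff'.mpr
        ((Commute.pow_left (Commute.refl x) _).mul_left
          ((Subgroup.mem_center_iff.mp (hG.central q.2.2) x).symm : Commute (q.2 : H) x))⟩
    have hf : Function.Injective f := by
      rintro ⟨i, s⟩ ⟨j, t⟩ he
      have he' : x ^ (i : ℕ) * (s : H) = x ^ (j : ℕ) * t := congrArg Subtype.val he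
      have hij : i = j := by
        by_contra hne
        rcases lt_or_gt_of_ne hne with h | h
        · refine hx ((j : ℕ) - i) (by omega) (by omega) ?_
          have : x ^ ((j : ℕ) - i) = (s : H) * (t : H)⁻¹ := by
            rw [eq_mul_inv_iff_mul_eq, ← mul_right_inj (x ^ (i : ℕ)), ← mul_assoc, ← pow_add, he']
            congr 2
            omega
          rw [this]
          exact mul_mem s.2 (inv_mem t.2)
        · refine hx ((i : ℕ) - j) (by omega) (by omega) ?_
          have : x ^ ((i : ℕ) - j) = (t : H) * (s : H)⁻¹ := by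
            rw [eq_mul_inv_iff_mul_eq, ← mul_right_inj (x ^ (j : ℕ)), ← mul_assoc, ← pow_add, ← he']
            congr 2
            omega
          rw [this]
          exact mul_mem t.2 (inv_mem s.2)
      subst hij
      exact Prod.ext rfl (Subtype.ext (mul_left_cancel he'))
    have := Nat.card_le_card_of_injective f hf
    rwa [Nat.card_prod, Nat.card_fin] at this
  exact H76.ACP.commute_of_large hG (fun h => hx 1 le_rfl (by norm_num) (by rwa [pow_one]))
    (fun h => hy 1 le_rfl (by norm_num) (by rwa [pow_one])) (hbig x hx) (hbig y hy)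
where
  mem_centralizer_singleton_iff' {G : Type _} [Group G] {g x : G} :
      g ∈ Subgroup.centralizer ({x} : Set G) ↔ Commute g x := Subgroup.mem_centralizer_singleton_iff

/-- An eigenvector of a nonscalar matrix spans its eigenspace. -/
theorem eigen_unique {X : M2} {v w : Fin 2 → F} {μ : F} (hX : ¬ IsScalarTwo X) (hv : v ≠ 0)
    (h1 : X *ᵥ v = μ • v) (h2 : X *ᵥ w = μ • w) : v 0 * w 1 - v 1 * w 0 = 0 := by
  have a1 := congrFun h1 0; have a2 := congrFun h1 1
  have b1 := congrFun h2 0; have b2 := congrFun h2 1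
  simp only [Matrix.mulVec, dotProduct, Fin.sum_univ_two, Pi.smul_apply, smul_eq_mul] at a1 a2 b1 b2
  by_contra hw
  refine hX ⟨?_, ?_, ?_⟩
  · exact (mul_eq_zero.mp (show X 0 1 * (v 0 * w 1 - v 1 * w 0) = 0 by
      linear_combination v 0 * b1 - w 0 * a1)).resolve_right hw
  · exact (mul_eq_zero.mp (show X 1 0 * (v 0 * w 1 - v 1 * w 0) = 0 by
      linear_combination w 1 * a2 - v 1 * b2)).resolve_right hw
  · have hA : X 0 0 = μ := sub_eq_zero.mp ((mul_eq_zero.mp (show (X 0 0 - μ) * (v 0 * w 1 - v 1 * w 0) = 0 by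
      linear_combination w 1 * a1 - v 1 * b1)).resolve_right hw)
    have hB : X 1 1 = μ := sub_eq_zero.mp ((mul_eq_zero.mp (show (X 1 1 - μ) * (v 0 * w 1 - v 1 * w 0) = 0 by
      linear_combination v 0 * b2 - w 0 * a2)).resolve_right hw)
    rw [hA, hB]

theorem exists_smul_of_det {v w : Fin 2 → F} (hv : v ≠ 0) (h : v 0 * w 1 - v 1 * w 0 = 0) :
    ∃ c : F, w = c • v := by
  by_cases h0 : v 0 = 0
  · have h1 : v 1 ≠ 0 := fun e => hv (funext fun i => by fin_cases i <;> assumption)
    refine ⟨w 1 / v 1, funext fun i => ?_⟩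
    fin_cases i
    · simp only [Fin.zero_eta, Fin.isValue, Pi.smul_apply, h0, smul_eq_mul, mul_zero]
      rw [h0, zero_mul, zero_sub, neg_eq_zero] at h
      exact (mul_eq_zero.mp h).resolve_left h1
    · simp [h1]
  · refine ⟨w 0 / v 0, funext fun i => ?_⟩
    fin_cases i
    · simp [h0]
    · simp only [Fin.mk_one, Fin.isValue, Pi.smul_apply, smul_eq_mul]
      field_simp
      linear_combination h

/-- Three pairwise independent lines cannot be preserved by commuting nonscalar matrices each fixing one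
of them as an eigenline. -/
theorem not_three {X : Fin 3 → M2} {v : Fin 3 → Fin 2 → F} {μ : Fin 3 → F}
    (hX : ∀ i, ¬ IsScalarTwo (X i)) (hcomm : ∀ i j, X i * X j = X j * X i)
    (hv : ∀ i, v i ≠ 0) (heig : ∀ i, X i *ᵥ v i = μ i • v i)
    (hind : ∀ i j, i ≠ j → v i 0 * v j 1 - v i 1 * v j 0 ≠ 0) : False := by
  have hfix : ∀ i, ∃ c : F, X 0 *ᵥ v i = c • v i := by
    intro i
    refine exists_smul_of_det (hv i) (eigen_unique (hX i) (hv i) (heig i) ?_)
    rw [Matrix.mulVec_mulVec, hcomm, ← Matrix.mulVec_mulVec, heig, Matrix.mulVec_smul]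
  obtain ⟨c₁, h1⟩ := hfix 1
  obtain ⟨c₂, h2⟩ := hfix 2
  have h0 := heig 0
  have hne : ∀ i : Fin 3, i ≠ 0 → ∀ c : F, X 0 *ᵥ v i = c • v i → c ≠ μ 0 := by
    rintro i hi c hc rfl
    exact hind 0 i hi.symm (eigen_unique (hX 0) (hv 0) h0 hc)
  have hd := hind 0 1 (by decide)
  set d := v 0 0 * v 1 1 - v 0 1 * v 1 0 with hdd
  set a := (v 2 0 * v 1 1 - v 2 1 * v 1 0) / d
  set b := (v 0 0 * v 2 1 - v 0 1 * v 2 0) / d
  have hrep : v 2 = a • v 0 + b • v 1 := by
    funext i
    fin_cases i <;>
    · simp only [Fin.zero_eta, Fin.mk_one, Fin.isValue, Pi.add_apply, Pi.smul_apply, smul_eq_mul, a, b]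
      field_simp
      rw [hdd]
      ring
  have hb : b ≠ 0 := div_ne_zero (hind 0 2 (by decide)) hd
  have ha : a ≠ 0 := div_ne_zero (hind 2 1 (by decide)) hd
  have key := h2
  rw [hrep, Matrix.mulVec_add, Matrix.mulVec_smul, Matrix.mulVec_smul, h0, h1] at key
  have k0 := congrFun key 0; have k1 := congrFun key 1
  simp only [Pi.add_apply, Pi.smul_apply, smul_eq_mul] at k0 k1
  have e : a * (μ 0 - c₂) * d = 0 := by rw [hdd]; linear_combination v 1 1 * k0 - v 1 0 * k1
  rcases mul_eq_zero.mp e with h | h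
  · rcases mul_eq_zero.mp h with h | h
    · exact ha h
    · exact hne 2 (by decide) c₂ h2 (sub_eq_zero.mp h).symm
  · exact hd h

/-- An eigenvalue satisfies the characteristic equation. -/
theorem eigen_char {X : M2} {v : Fin 2 → F} {μ : F} (hv : v ≠ 0) (h : X *ᵥ v = μ • v) :
    μ ^ 2 - X.trace * μ + X.det = 0 := by
  have a1 := congrFun h 0; have a2 := congrFun h 1
  simp only [Matrix.mulVec, dotProduct, Fin.sum_univ_two, Pi.smul_apply, smul_eq_mul] at a1 a2
  obtain ⟨j, hj⟩ := Function.ne_iff.mp hv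
  rw [Matrix.trace_fin_two, Matrix.det_fin_two]
  refine (mul_eq_zero.mp (show (μ ^ 2 - (X 0 0 + X 1 1) * μ + (X 0 0 * X 1 1 - X 0 1 * X 1 0)) * v j = 0 from ?_)).resolve_right hj
  fin_cases j
  · simp only [Fin.zero_eta, Fin.isValue]
    linear_combination (X 1 1 - μ) * a1 - X 0 1 * a2
  · simp only [Fin.mk_one, Fin.isValue]
    linear_combination (X 0 0 - μ) * a2 - X 1 0 * a1

/-- An element of a coprime group with a double eigenvalue is scalar. -/
theorem scalar_of_double (h2 : (2 : F) ≠ 0) (H : Subgroup (GL (Fin 2) F)) [Finite H]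
    (hcop : ∀ x : H, (orderOf x : F) ≠ 0) (x : H) {v : Fin 2 → F} {μ : F} (hv : v ≠ 0)
    (h : ((x : GL (Fin 2) F) : M2) *ᵥ v = μ • v) (hd : ((x : GL (Fin 2) F) : M2).det = μ ^ 2) :
    x ∈ scalars H := by
  by_contra hx
  refine disc_ne_zero (hcop x) (by rw [← Subgroup.coe_pow, pow_orderOf_eq_one, Subgroup.coe_one]) h2
    (fun e => hx (mem_scalars_iff.mpr e)) ?_
  have hc := eigen_char hv h
  have hμ : μ ≠ 0 := by
    rintro rfl
    have hu : IsUnit ((x : GL (Fin 2) F) : M2).det := (Matrix.isUnit_iff_isUnit_det _).mp (Units.isUnit _)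
    rw [hd] at hu
    simp at hu
  rw [hd] at hc ⊢
  have ht : ((x : GL (Fin 2) F) : M2).trace = 2 * μ :=
    mul_left_cancel₀ hμ (by linear_combination -hc)
  rw [ht]
  ring

/-- An element of order four modulo scalars has centralizer of order a multiple of four times the scalars. -/
theorem four_dvd (h2 : (2 : F) ≠ 0) (H : Subgroup (GL (Fin 2) F)) [Finite H]
    (hcop : ∀ x : H, (orderOf x : F) ≠ 0) {x : H}
    (hx : x ^ 2 ∉ scalars H) (hx4 : x ^ 4 ∈ scalars H) :
    4 * Nat.card (scalars H) ∣ Nat.card (Subgroup.centralizer ({x} : Set H)) := by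
  have hc := (good h2 H hcop).central
  set C := Subgroup.centralizer ({x} : Set H) with hC
  have hle : scalars H ≤ C := fun s hs =>
    Subgroup.mem_centralizer_singleton_iff.mpr (Subgroup.mem_center_iff.mp (hc hs) x).symm
  have hn : ((scalars H).subgroupOf C).Normal := ⟨fun n hn g => by
    rw [show g * n * g⁻¹ = n by
      refine Subtype.ext ?_
      have := Subgroup.mem_center_iff.mp (hc (Subgroup.mem_subgroupOf.mp hn)) (g : H)
      simp only [Subgroup.coe_mul, Subgroup.coe_inv, this, mul_inv_cancel_right]]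
    exact hn⟩
  let xC : C := ⟨x, Subgroup.mem_centralizer_singleton_iff.mpr rfl⟩
  have ho : orderOf (QuotientGroup.mk xC : C ⧸ (scalars H).subgroupOf C) = 2 ^ (1 + 1) := by
    refine orderOf_eq_prime_pow ?_ ?_
    · rw [← QuotientGroup.mk_pow, QuotientGroup.eq_one_iff, Subgroup.mem_subgroupOf]
      simpa [xC] using hx
    · rw [← QuotientGroup.mk_pow, QuotientGroup.eq_one_iff, Subgroup.mem_subgroupOf]
      simpa [xC] using hx4
  have hd : 4 ∣ ((scalars H).subgroupOf C).index := by
    have := orderOf_dvd_natCard (QuotientGroup.mk xC : C ⧸ (scalars H).subgroupOf C)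
    rw [ho] at this
    exact this
  rw [← Nat.card_congr (Subgroup.subgroupOfEquivOfLe hle).toEquiv, ← Subgroup.card_mul_index ((scalars H).subgroupOf C),
    mul_comm 4]
  exact Nat.mul_dvd_mul_left _ hd

end Cfsg.Agent.H76.GLT
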