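import Mathlib
import Cfsg.Agent.Cores.Basic
import Cfsg.Agent.PGroups.Basic

/-!
p-elements and quotients.
-/

set_option autoImplicit false

namespace Cfsg.Agent.H76

variable {G : Type*} [Group G] [Finite G] {p : ℕ} [Fact p.Prime]

theorem pElement_iff {g : G} : (∃ k, orderOf g = p ^ k) ↔ ∃ k, g ^ p ^ k = 1 := by
  constructor
  · rintro ⟨k, hk⟩; exact ⟨k, by rw [← hk, pow_orderOf_eq_one]⟩
  · rintro ⟨k, hk⟩
    obtain ⟨i, -, hi⟩ := (Nat.dvd_prime_pow Fact.out).mp (orderOf_dvd_of_pow_eq_one hk)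
    exact ⟨i, hi⟩

theorem pElement_zpowers {g : G} (h : ∃ k, orderOf g = p ^ k) : IsPGroup p (Subgroup.zpowers g) := by
  obtain ⟨k, hk⟩ := h
  exact IsPGroup.of_card (n := k) (by rw [Nat.card_zpowers, hk])

theorem pElement_of_mem_sylow {S : Sylow p G} {g : G} (h : g ∈ (S : Subgroup G)) :
    ∃ k, orderOf g = p ^ k := by
  obtain ⟨k, hk⟩ := IsPGroup.iff_orderOf.mp S.2 ⟨g, h⟩
  exact ⟨k, by rwa [Subgroup.orderOf_mk] at hk⟩

/-- A `p`-element of a quotient lifts to a `p`-element. -/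
theorem exists_pElement_lift (N : Subgroup G) [N.Normal] {y : G ⧸ N}
    (hy : ∃ k, orderOf y = p ^ k) :
    ∃ x : G, (∃ k, orderOf x = p ^ k) ∧ (QuotientGroup.mk x : G ⧸ N) = y := by
  obtain ⟨b, hb⟩ := hy
  obtain ⟨g, rfl⟩ := QuotientGroup.mk_surjective y
  set m := ordCompl[p] (orderOf g)
  have hcop : Nat.Coprime m (p ^ b) := by
    apply Nat.Coprime.pow_right
    exact ((Nat.Prime.coprime_iff_not_dvd Fact.out).mpr
      (Nat.not_dvd_ordCompl Fact.out (orderOf_pos g).ne')).symm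
  obtain ⟨j, hj⟩ := exists_pow_eq_self_of_coprime (x := (g : G ⧸ N)) (hb ▸ hcop)
  refine ⟨g ^ (m * j), pElement_iff.mpr ⟨(orderOf g).factorization p, ?_⟩, ?_⟩
  · rw [← pow_mul, mul_comm m j, mul_assoc, mul_comm m, Nat.ordProj_mul_ordCompl_eq_self,
      mul_comm, pow_mul, pow_orderOf_eq_one, one_pow]
  · rw [QuotientGroup.mk_pow, pow_mul, hj]

theorem card_inf_sylow (S : Sylow p G) (N : Subgroup G) [N.Normal] :
    Nat.card ((S : Subgroup G) ⊓ N : Subgroup G) = p ^ (Nat.card N).factorization p := by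
  have h := Cfsg.Agent.Cores.card_sup_mul_card_inf (S : Subgroup G) N
  obtain ⟨k, hk⟩ := IsPGroup.iff_card.mp (S.2.to_le (inf_le_left : (S : Subgroup G) ⊓ N ≤ _))
  rw [hk]
  congr 1
  apply le_antisymm
  · rw [← Nat.Prime.pow_dvd_iff_le_factorization Fact.out Nat.card_pos.ne', ← hk]
    exact Subgroup.card_dvd_of_le inf_le_right
  · have hp : p.Prime := Fact.out
    rw [hk, S.card_eq_multiplicity] at h
    have h1 := congrArg (fun n : ℕ => n.factorization p) h
    rw [Nat.factorization_mul Nat.card_pos.ne' (pow_ne_zero _ hp.ne_zero),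
      Nat.factorization_mul (pow_ne_zero _ hp.ne_zero) Nat.card_pos.ne',
      Finsupp.add_apply, Finsupp.add_apply, hp.factorization_pow, hp.factorization_pow,
      Finsupp.single_eq_same, Finsupp.single_eq_same] at h1
    have h2 := (Nat.factorization_le_iff_dvd Nat.card_pos.ne' Nat.card_pos.ne').mpr
      (Subgroup.card_subgroup_dvd_card ((S : Subgroup G) ⊔ N)) p
    omega

theorem card_sylow_eq_mul (N : Subgroup G) [N.Normal] (P : Sylow p G) (Pb : Sylow p (G ⧸ N)) :
    Nat.card (P : Subgroup G) = Nat.card (Pb : Subgroup (G ⧸ N)) * p ^ (Nat.card N).factorization p := by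
  rw [P.card_eq_multiplicity, Pb.card_eq_multiplicity, N.card_eq_card_quotient_mul_card_subgroup,
    Nat.factorization_mul Nat.card_pos.ne' Nat.card_pos.ne', Finsupp.coe_add, Pi.add_apply, pow_add]

/-- Counting p-elements over a quotient. -/
theorem card_pElement_quotient (N : Subgroup G) [N.Normal] :
    Nat.card {g : G ⧸ N // ∃ k, orderOf g = p ^ k} * p ^ (Nat.card N).factorization p ≤
        Nat.card {g : G // ∃ k, orderOf g = p ^ k} ∧
      (N ≤ Subgroup.center G →
        Nat.card {g : G ⧸ N // ∃ k, orderOf g = p ^ k} * p ^ (Nat.card N).factorization p =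
          Nat.card {g : G // ∃ k, orderOf g = p ^ k}) := by
  classical
  choose x hx hxy using fun y : {g : G ⧸ N // ∃ k, orderOf g = p ^ k} =>
    exists_pElement_lift N y.2
  choose S hS using fun y => (pElement_zpowers (hx y)).exists_le_sylow
  let F : (Σ y, ((S y : Subgroup G) ⊓ N : Subgroup G)) → {g : G // ∃ k, orderOf g = p ^ k} :=
    fun a => ⟨x a.1 * (a.2 : G),
      pElement_of_mem_sylow (mul_mem (hS a.1 (Subgroup.mem_zpowers _)) a.2.2.1)⟩
  have hinj : Function.Injective F := by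
    rintro ⟨y, u⟩ ⟨y', u'⟩ h
    have h' : x y * (u : G) = x y' * (u' : G) := congrArg Subtype.val h
    have hy : y = y' := by
      apply Subtype.ext
      rw [← hxy y, ← hxy y', ← QuotientGroup.mk_mul_of_mem (x y) u.2.2,
        ← QuotientGroup.mk_mul_of_mem (x y') u'.2.2, h']
    subst hy
    obtain rfl : u = u' := Subtype.ext (mul_left_cancel h')
    rfl
  have : Fintype {g : G ⧸ N // ∃ k, orderOf g = p ^ k} := Fintype.ofFinite _
  have hcard : Nat.card (Σ y, ((S y : Subgroup G) ⊓ N : Subgroup G)) =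
      Nat.card {g : G ⧸ N // ∃ k, orderOf g = p ^ k} * p ^ (Nat.card N).factorization p := by
    rw [Nat.card_sigma, Nat.card_eq_fintype_card, Finset.sum_congr rfl fun y _ => card_inf_sylow (S y) N,
      Finset.sum_const, Finset.card_univ, smul_eq_mul]
  rw [← hcard]
  refine ⟨Nat.card_le_card_of_injective F hinj, fun hN => Nat.card_congr (Equiv.ofBijective F ⟨hinj, ?_⟩)⟩
  rintro ⟨g, hg⟩
  have hgb : ∃ k, orderOf (g : G ⧸ N) = p ^ k := by
    obtain ⟨k, hk⟩ := pElement_iff.mp hg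
    exact pElement_iff.mpr ⟨k, by rw [← QuotientGroup.mk_pow, hk, QuotientGroup.mk_one]⟩
  set y : {g : G ⧸ N // ∃ k, orderOf g = p ^ k} := ⟨g, hgb⟩
  have hn : (x y)⁻¹ * g ∈ N := QuotientGroup.eq.mp (hxy y)
  have hc : Commute (x y) ((x y)⁻¹ * g) := Subgroup.mem_center_iff.mp (hN hn) (x y)
  have hnp : ∃ k, orderOf ((x y)⁻¹ * g) = p ^ k := by
    obtain ⟨a, ha⟩ := pElement_iff.mp hg
    obtain ⟨b, hb⟩ := pElement_iff.mp (hx y)
    have hc' : Commute (x y) g := by
      have := (Commute.refl (x y)).mul_right hc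
      rwa [mul_inv_cancel_left] at this
    refine pElement_iff.mpr ⟨a + b, ?_⟩
    rw [hc'.inv_left.mul_pow, inv_pow, pow_add, pow_mul g, ha, one_pow, mul_comm (p ^ a), pow_mul, hb,
      one_pow, inv_one, one_mul]
  have hP : (Subgroup.zpowers ((x y)⁻¹ * g)).Normal :=
    Cfsg.Agent.PGroups.normal_of_le_center (Subgroup.zpowers_le.mpr (hN hn))
  have hle : Subgroup.zpowers ((x y)⁻¹ * g) ≤ (S y : Subgroup G) := (pElement_zpowers hnp).le_sylow_of_normal (S y)
  exact ⟨⟨y, ⟨(x y)⁻¹ * g, hle (Subgroup.mem_zpowers _), hn⟩⟩, Subtype.ext (mul_inv_cancel_left _ _)⟩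

end Cfsg.Agent.H76
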