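import Mathlib
import Cfsg.Agent.Cores.PSolvable
import Cfsg.Agent.Fusion.PComplement
import Cfsg.Agent.H76.PElements

/-!
Groups with a cyclic Sylow subgroup meeting a normal subgroup properly.
-/

set_option autoImplicit false

open scoped Pointwise

namespace Cfsg.Agent.H76

variable {G : Type*} [Group G]

theorem conj_pow_zpow {c x : G} {r : ℤ} (h : c * x * c⁻¹ = x ^ r) :
    ∀ k : ℕ, c ^ k * x * (c ^ k)⁻¹ = x ^ (r ^ k) := by
  intro k
  induction k with
  | zero => simp
  | succ k ih =>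
    calc c ^ (k + 1) * x * (c ^ (k + 1))⁻¹ = c * (c ^ k * x * (c ^ k)⁻¹) * c⁻¹ := by
          rw [pow_succ']; group
      _ = c * x ^ (r ^ k) * c⁻¹ := by rw [ih]
      _ = (c * x * c⁻¹) ^ (r ^ k) := by rw [conj_zpow]
      _ = x ^ (r ^ (k + 1)) := by rw [h, ← zpow_mul, pow_succ']

/-- An element of `K` acting on a cyclic `p`-group as a power map congruent to `1` mod `p`
centralises `Q`, when `Q` has index prime to `p` in `K`. -/
theorem mem_centralizer_of_congr_one [Finite G] {p : ℕ} [Fact p.Prime] {K Q : Subgroup G}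
    (hK : K ≤ Subgroup.normalizer (Q : Set G)) (hidx : ¬ p ∣ Q.relIndex K) {x c : G}
    (hQ : Q ≤ Subgroup.zpowers x) {b : ℕ} (hb : x ^ (p ^ b) = 1) (hc : c ∈ K) {r : ℤ}
    (hr : (p : ℤ) ∣ r - 1) (hcx : c * x * c⁻¹ = x ^ r) :
    c ∈ Subgroup.centralizer (Q : Set G) := by
  have hpow : c ^ (p ^ b) ∈ Subgroup.centralizer (Q : Set G) := by
    rw [Subgroup.mem_centralizer_iff]
    intro q hq
    obtain ⟨s, rfl⟩ := Subgroup.mem_zpowers_iff.mp (hQ hq)
    have h1 : x ^ (r ^ (p ^ b)) = x := by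
      have hd : ((p : ℤ) ^ b) ∣ r ^ (p ^ b) - 1 := by
        have := dvd_sub_pow_of_dvd_sub hr b
        rw [one_pow] at this
        exact dvd_trans (pow_dvd_pow _ (Nat.le_succ b)) this
      obtain ⟨t, ht⟩ := hd
      rw [show r ^ (p ^ b) = ((p : ℤ) ^ b) * t + 1 by linarith, zpow_add, zpow_one, zpow_mul,
        show x ^ ((p : ℤ) ^ b) = 1 by rw [← Nat.cast_pow, zpow_natCast, hb], one_zpow, one_mul]
    have h2 := conj_pow_zpow hcx (p ^ b)
    rw [h1] at h2
    have h3 : Commute (c ^ (p ^ b)) x := mul_inv_eq_iff_eq_mul.mp h2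
    exact (h3.zpow_right s).eq.symm
  have hQK : Q ≤ Subgroup.centralizer (Q : Set G) := by
    intro q hq
    rw [Subgroup.mem_centralizer_iff]
    intro q' hq'
    obtain ⟨s, rfl⟩ := Subgroup.mem_zpowers_iff.mp (hQ hq)
    obtain ⟨t, rfl⟩ := Subgroup.mem_zpowers_iff.mp (hQ hq')
    exact ((Commute.refl x).zpow_zpow t s).eq
  set C := (Subgroup.centralizer (Q : Set G)).subgroupOf K with hC
  have : C.Normal := by
    refine ⟨fun u hu g => ?_⟩
    rw [hC, Subgroup.mem_subgroupOf, Subgroup.mem_centralizer_iff] at hu ⊢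
    intro q hq
    have hq' := (Subgroup.mem_normalizer_iff.mp (inv_mem (hK g.2)) q).mp hq
    have h := hu _ hq'
    simp only [inv_inv] at h
    simp only [Subgroup.coe_mul, Subgroup.coe_inv]
    calc q * ((g : G) * u * (g : G)⁻¹) = g * (((g : G)⁻¹ * q * g) * u) * (g : G)⁻¹ := by group
      _ = g * (u * ((g : G)⁻¹ * q * g)) * (g : G)⁻¹ := by rw [h]
      _ = _ := by group
  have hCidx : ¬ p ∣ C.index := fun hd => hidx (hd.trans (Subgroup.relIndex_dvd_of_le_left K hQK))
  set u : K := ⟨c, hc⟩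
  have h4 : (QuotientGroup.mk u : K ⧸ C) ^ (p ^ b) = 1 := by
    rw [← QuotientGroup.mk_pow, QuotientGroup.eq_one_iff]
    exact hpow
  have h5 : orderOf (QuotientGroup.mk u : K ⧸ C) = 1 := by
    obtain ⟨i, -, hi⟩ := (Nat.dvd_prime_pow Fact.out).mp (orderOf_dvd_of_pow_eq_one h4)
    rcases Nat.eq_zero_or_pos i with rfl | hi0
    · simpa using hi
    · exact absurd ((dvd_pow_self p hi0.ne').trans (hi ▸ orderOf_dvd_natCard _)) hCidx
  exact (QuotientGroup.eq_one_iff u).mp (orderOf_eq_one_iff.mp h5)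

variable [Finite G] {p : ℕ} [Fact p.Prime]

/-- For a cyclic Sylow `p`-subgroup, a normal subgroup meeting both sides has a normal
`p`-complement. -/
theorem hasNormalPComplement_of_cyclic_sylow (P : Sylow p G) (hP : IsCyclic (P : Subgroup G))
    (H : Subgroup G) [H.Normal] (h2 : p ∣ H.index) :
    Cfsg.HasNormalPComplement p H := by
  obtain ⟨⟨x, hxP⟩, hx⟩ := hP.exists_generator
  have hPx : (P : Subgroup G) = Subgroup.zpowers x := by
    refine le_antisymm (fun u hu => ?_) (Subgroup.zpowers_le.mpr hxP)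
    obtain ⟨k, hk⟩ := Subgroup.mem_zpowers_iff.mp (hx ⟨u, hu⟩)
    exact Subgroup.mem_zpowers_iff.mpr ⟨k, congrArg Subtype.val hk⟩
  obtain ⟨b, hb⟩ := IsPGroup.iff_orderOf.mp P.2 ⟨x, hxP⟩
  rw [Subgroup.orderOf_mk] at hb
  set Q := (P : Subgroup G) ⊓ H with hQdef
  have hQx : Q ≤ Subgroup.zpowers x := hPx ▸ inf_le_left
  have hPH : ¬ (P : Subgroup G) ≤ H := fun h =>
    P.not_dvd_index (h2.trans (Subgroup.index_dvd_of_le h))
  obtain ⟨S, hS⟩ : ∃ S : Sylow p H, (S : Subgroup H) = Q.subgroupOf H :=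
    ⟨Sylow.ofCard (Q.subgroupOf H) (by
      rw [Nat.card_congr (Subgroup.subgroupOfEquivOfLe (inf_le_right : Q ≤ H)).toEquiv]
      exact card_inf_sylow P H), rfl⟩
  have hidxH : ¬ p ∣ Q.relIndex H := by
    rw [Subgroup.relIndex, ← hS]
    exact S.not_dvd_index
  have hPN : (P : Subgroup G) ≤ Subgroup.centralizer (Q : Set G) := by
    intro u hu
    rw [Subgroup.mem_centralizer_iff]
    intro q hq
    rw [hPx] at hu
    obtain ⟨s, rfl⟩ := Subgroup.mem_zpowers_iff.mp hu
    obtain ⟨t, rfl⟩ := Subgroup.mem_zpowers_iff.mp (hQx hq)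
    exact ((Commute.refl x).zpow_zpow t s).eq
  set M := Subgroup.normalizer (Q : Set G) with hM
  have hPM : (P : Subgroup G) ≤ M := hPN.trans (Subgroup.centralizer_le_normalizer _)
  set K := M ⊓ H with hKdef
  have hKidx : ¬ p ∣ Q.relIndex K := fun hd => hidxH (hd.trans
    (Dvd.intro _ (Subgroup.relIndex_mul_relIndex Q K H
      (le_inf (inf_le_left.trans hPM) inf_le_right) inf_le_right)))
  have hPK : (P : Subgroup G) ≤ Subgroup.normalizer (K : Set G) := by
    intro u hu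
    rw [Subgroup.mem_normalizer_iff]
    intro v
    have huM := hPM hu
    simp only [hKdef, Subgroup.mem_inf]
    constructor
    · rintro ⟨h₁, h₂⟩
      exact ⟨mul_mem (mul_mem huM h₁) (inv_mem huM), Subgroup.Normal.conj_mem ‹_› _ h₂ _⟩
    · rintro ⟨h₁, h₂⟩
      have e : u⁻¹ * (u * v * u⁻¹) * u⁻¹⁻¹ = v := by group
      exact ⟨e ▸ mul_mem (mul_mem (inv_mem huM) h₁) (inv_mem (inv_mem huM)),
        e ▸ Subgroup.Normal.conj_mem ‹_› _ h₂ _⟩
  have hKC : K ≤ Subgroup.centralizer (Q : Set G) := by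
    intro y hy
    set M1 := (P : Subgroup G) ⊔ K with hM1
    have hM1M : M1 ≤ M := sup_le hPM inf_le_left
    set N := (Subgroup.centralizer (Q : Set G)).subgroupOf M1 with hNdef
    have : N.Normal := by
      refine ⟨fun u hu g => ?_⟩
      rw [hNdef, Subgroup.mem_subgroupOf, Subgroup.mem_centralizer_iff] at hu ⊢
      intro q hq
      have hq' := (Subgroup.mem_normalizer_iff.mp (inv_mem (hM1M g.2)) q).mp hq
      have h := hu _ hq'
      simp only [inv_inv] at h
      simp only [Subgroup.coe_mul, Subgroup.coe_inv]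
      calc q * ((g : G) * u * (g : G)⁻¹) = g * (((g : G)⁻¹ * q * g) * u) * (g : G)⁻¹ := by group
        _ = g * (u * ((g : G)⁻¹ * q * g)) * (g : G)⁻¹ := by rw [h]
        _ = _ := by group
    let PS : Sylow p M1 := P.subtype le_sup_left
    have hfr := Sylow.normalizer_sup_eq_top' PS (N := N) (fun u hu => hPN hu)
    have hy' : (⟨y, Subgroup.mem_sup_right hy⟩ : M1) ∈
        Subgroup.normalizer ((PS : Subgroup M1) : Set M1) ⊔ N := by
      have := Subgroup.mem_top (⟨y, Subgroup.mem_sup_right hy⟩ : M1)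
      rwa [← hfr] at this
    obtain ⟨n, hn, c, hc, hnc⟩ := Subgroup.mem_sup_of_normal_right.mp hy'
    have hnP : (n : G) ∈ Subgroup.normalizer ((P : Subgroup G) : Set G) := by
      rw [Sylow.coe_subtype, ← Subgroup.subgroupOf_normalizer_eq le_sup_left] at hn
      exact hn
    have hn2 : (n : G) ∈ ((P : Subgroup G) : Set G) * (K : Set G) := by
      rw [← Subgroup.coe_mul_of_left_le_normalizer_right _ _ hPK]
      exact n.2
    obtain ⟨x0, hx0, h, hh, hx0h⟩ := Set.mem_mul.mp hn2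
    have hhP : h ∈ Subgroup.normalizer ((P : Subgroup G) : Set G) := by
      have : h = x0⁻¹ * (n : G) := by rw [← hx0h]; group
      rw [this]
      exact mul_mem (inv_mem (Subgroup.le_normalizer hx0)) hnP
    obtain ⟨r, hr⟩ : ∃ r : ℤ, x ^ r = h * x * h⁻¹ := Subgroup.mem_zpowers_iff.mp
      (hPx ▸ (Subgroup.mem_normalizer_iff.mp hhP x).mp hxP)
    have hhx : h * x * h⁻¹ * x⁻¹ ∈ H := by
      have e : h * x * h⁻¹ * x⁻¹ = h * (x * h⁻¹ * x⁻¹) := by group
      rw [e]
      exact mul_mem hh.2 (Subgroup.Normal.conj_mem ‹_› _ (inv_mem hh.2) _)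
    have hpr : (p : ℤ) ∣ r - 1 := by
      by_contra hnd
      apply hPH
      rw [hPx, Subgroup.zpowers_le]
      have h3 : x ^ (r - 1) ∈ H := by rw [zpow_sub, zpow_one, hr]; exact hhx
      have hcop : IsCoprime (r - 1) ((p : ℤ) ^ b) :=
        (((Nat.prime_iff_prime_int.mp Fact.out).coprime_iff_not_dvd.mpr hnd).symm).pow_right
      obtain ⟨u, v, huv⟩ := hcop
      have h4 : x ^ (u * (r - 1) + v * (p : ℤ) ^ b) ∈ H := by
        rw [zpow_add, mul_comm u, zpow_mul, mul_comm v, zpow_mul,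
          show x ^ ((p : ℤ) ^ b) = 1 by
            rw [← Nat.cast_pow, zpow_natCast, ← hb, pow_orderOf_eq_one], one_zpow, mul_one]
        exact zpow_mem h3 u
      rwa [huv, zpow_one] at h4
    have hhC : h ∈ Subgroup.centralizer (Q : Set G) :=
      mem_centralizer_of_congr_one (inf_le_left : K ≤ M) hKidx hQx
        (hb ▸ pow_orderOf_eq_one x) hh hpr hr.symm
    have hyv : y = (n : G) * (c : G) := (congrArg Subtype.val hnc).symm
    rw [hyv, ← hx0h]
    exact mul_mem (mul_mem (hPN hx0) hhC) hc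
  refine Cfsg.Agent.Fusion.hasNormalPComplement_of_normalizer_le_centralizer S ?_
  intro u hu
  rw [hS, ← Subgroup.subgroupOf_normalizer_eq inf_le_right] at hu
  have h3 := hKC ⟨hu, u.2⟩
  rw [Subgroup.mem_centralizer_iff] at h3 ⊢
  rw [hS]
  exact fun q hq => Subtype.ext (h3 (q : G) hq)

/-- A group with a cyclic Sylow `p`-subgroup and a normal subgroup meeting both sides is
`p`-soluble. -/
theorem isPSolvable_of_cyclic_sylow (P : Sylow p G) (hP : IsCyclic (P : Subgroup G))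
    (H : Subgroup G) [H.Normal] (h1 : p ∣ Nat.card H) (h2 : p ∣ H.index) :
    Cfsg.IsPSolvable p G := by
  have hH := hasNormalPComplement_of_cyclic_sylow P hP H h2
  set O := (pResidual p H).map H.subtype with hO
  have hOH : O ≤ H := Subgroup.map_subtype_le _
  have hOc : Nat.card O = Nat.card (pResidual p H) :=
    Subgroup.card_map_of_injective (Subgroup.subtype_injective H)
  have hOp : ¬ p ∣ Nat.card O :=
    hOc ▸ Cfsg.Agent.Fusion.hasNormalPComplement_iff_pResidual.mp hH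
  have : O.Normal := Cfsg.Agent.Cores.map_subtype_normal
  refine Cfsg.Agent.Cores.isPSolvable_of_normal_of_quotient O
    (Cfsg.Agent.Cores.isPSolvable_of_coprime
      ((Fact.out : p.Prime).coprime_iff_not_dvd.mpr hOp).symm) ?_
  set π := QuotientGroup.mk' O with hπ
  set Hb := H.map π with hHb
  have : Hb.Normal := Subgroup.Normal.map ‹_› _ (QuotientGroup.mk'_surjective O)
  obtain ⟨PR, hPR⟩ : ∃ N : Subgroup H, N = pResidual p H := ⟨_, rfl⟩
  have hHbp : IsPGroup p Hb := by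
    obtain ⟨S⟩ : Nonempty (Sylow p H) := inferInstance
    have hq := Cfsg.Agent.Fusion.isComplement'_pResidual hH S
    have h3 := hq.card_mul_card
    have h4 : Nat.card O * O.relIndex H = Nat.card H := by
      rw [← Subgroup.relIndex_bot_left, ← Subgroup.relIndex_bot_left]
      exact Subgroup.relIndex_mul_relIndex _ _ _ bot_le hOH
    obtain ⟨k, hk⟩ := IsPGroup.iff_card.mp S.2
    refine IsPGroup.of_card (n := k) ?_
    rw [hHb, Cfsg.Agent.Cores.card_map_mk', ← hk]
    apply Nat.eq_of_mul_eq_mul_left (Nat.card_pos (α := O))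
    rw [h4, hOc, h3]
  have hHbne : Hb ≠ ⊥ := by
    intro h3
    rw [hHb, Subgroup.map_eq_bot_iff, hπ, QuotientGroup.ker_mk'] at h3
    exact hOp (h1.trans (Subgroup.card_dvd_of_le h3))
  let Pb : Sylow p (G ⧸ O) := P.mapSurjective (QuotientGroup.mk'_surjective O)
  have hPbc : IsCyclic (Pb : Subgroup (G ⧸ O)) :=
    isCyclic_of_surjective (π.subgroupMap (P : Subgroup G))
      (π.subgroupMap_surjective (P : Subgroup G))
  have hHbPb : Hb ≤ (Pb : Subgroup (G ⧸ O)) := hHbp.le_sylow_of_normal Pb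
  set C := Subgroup.centralizer (Hb : Set (G ⧸ O)) with hC
  have hPbC : (Pb : Subgroup (G ⧸ O)) ≤ C := by
    intro u hu
    rw [hC, Subgroup.mem_centralizer_iff]
    intro q hq
    have := hPbc
    exact congrArg Subtype.val (IsCyclic.commGroup.mul_comm
      (⟨q, hHbPb hq⟩ : (Pb : Subgroup (G ⧸ O))) ⟨u, hu⟩)
  have hCidx : ¬ p ∣ C.index := fun hd => Pb.not_dvd_index (hd.trans (Subgroup.index_dvd_of_le hPbC))
  refine Cfsg.Agent.Cores.isPSolvable_of_normal_of_quotient C ?_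
    (Cfsg.Agent.Cores.isPSolvable_of_coprime
      ((Fact.out : p.Prime).coprime_iff_not_dvd.mpr hCidx).symm)
  let PC : Sylow p C := Pb.subtype hPbC
  have hCn : Cfsg.HasNormalPComplement p C := by
    refine Cfsg.Agent.Fusion.hasNormalPComplement_of_normalizer_le_centralizer PC ?_
    intro c hc
    rw [Sylow.coe_subtype, ← Subgroup.subgroupOf_normalizer_eq hPbC] at hc
    obtain ⟨⟨x, hxP⟩, hx⟩ := hPbc.exists_generator
    have hPx : (Pb : Subgroup (G ⧸ O)) ≤ Subgroup.zpowers x := by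
      intro u hu
      obtain ⟨k, hk⟩ := Subgroup.mem_zpowers_iff.mp (hx ⟨u, hu⟩)
      exact Subgroup.mem_zpowers_iff.mpr ⟨k, congrArg Subtype.val hk⟩
    obtain ⟨b, hb⟩ := IsPGroup.iff_orderOf.mp Pb.2 ⟨x, hxP⟩
    rw [Subgroup.orderOf_mk] at hb
    obtain ⟨r, hr⟩ : ∃ r : ℤ, x ^ r = (c : G ⧸ O) * x * (c : G ⧸ O)⁻¹ :=
      Subgroup.mem_zpowers_iff.mp (hPx ((Subgroup.mem_normalizer_iff.mp hc x).mp hxP))
    obtain ⟨⟨q, hq⟩, hq1⟩ := Subgroup.ne_bot_iff_exists_ne_one.mp hHbne
    obtain ⟨s, rfl⟩ := Subgroup.mem_zpowers_iff.mp (hPx (hHbPb hq))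
    have hfix : (c : G ⧸ O) * x ^ s * (c : G ⧸ O)⁻¹ = x ^ s := by
      have hcc := Subgroup.mem_centralizer_iff.mp c.2 _ hq
      rw [← hcc]; group
    have hpr : (p : ℤ) ∣ r - 1 := by
      rw [← conj_zpow, ← hr, ← zpow_mul] at hfix
      have h3 : (x ^ s) ^ (r - 1) = 1 := by
        rw [← zpow_mul, show s * (r - 1) = r * s - s by ring, zpow_sub, hfix, mul_inv_cancel]
      have h4 := orderOf_dvd_iff_zpow_eq_one.mpr h3
      refine dvd_trans ?_ h4
      obtain ⟨k, hk⟩ := IsPGroup.iff_orderOf.mp hHbp ⟨x ^ s, hq⟩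
      rw [Subgroup.orderOf_mk] at hk
      rw [hk]
      have hk0 : k ≠ 0 := by
        rintro rfl
        exact hq1 (Subtype.ext (orderOf_eq_one_iff.mp (by simpa using hk)))
      exact Int.natCast_dvd_natCast.mpr (dvd_pow_self p hk0)
    have hidx : ¬ p ∣ (Pb : Subgroup (G ⧸ O)).relIndex
        (Subgroup.normalizer ((Pb : Subgroup (G ⧸ O)) : Set (G ⧸ O))) := fun hd =>
      Pb.not_dvd_index (hd.trans (Subgroup.relIndex_dvd_index_of_le Subgroup.le_normalizer))
    have h5 := mem_centralizer_of_congr_one le_rfl hidx hPx (hb ▸ pow_orderOf_eq_one x) hc hpr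
      hr.symm
    rw [Subgroup.mem_centralizer_iff] at h5 ⊢
    exact fun q hq => Subtype.ext (h5 (q : G ⧸ O) hq)
  obtain ⟨S, N, hN, hNS⟩ := hCn
  exact Cfsg.Agent.Cores.isPSolvable_of_normal_of_quotient N
    (Cfsg.Agent.Cores.isPSolvable_of_coprime ((Fact.out : p.Prime).coprime_iff_not_dvd.mpr
      (Cfsg.Agent.Fusion.not_dvd_card_of_isComplement' S hNS)).symm)
    (Cfsg.Agent.Cores.isPSolvable_of_isPGroup
      (Cfsg.Agent.Fusion.isPGroup_quotient_of_isComplement' S hNS))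

end Cfsg.Agent.H76
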