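import Mathlib

/-!
Elementary facts on conjugacy class sizes.
-/

set_option autoImplicit false

namespace Cfsg.Agent.H76

variable {G : Type*} [Group G]

/-- The conjugates of `g` form a set of size the index of the centraliser of `g`. -/
theorem ncard_conjugates (g : G) :
    {y : G | ∃ x : G, x * g * x⁻¹ = y}.ncard = (Subgroup.centralizer ({g} : Set G)).index := by
  rw [Subgroup.centralizer_eq_comap_stabilizer]
  refine Eq.trans ?_ (Subgroup.index_comap_of_surjective
    (MulAction.stabilizer (ConjAct G) g) ConjAct.toConjAct.surjective).symm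
  rw [MulAction.index_stabilizer]
  rfl

variable [Finite G]

/-- `|N|·|class of gN| = |class of g|` iff the class of `g` contains `gN`. -/
theorem centralizer_card_eq_quotient_iff (N : Subgroup G) [N.Normal] (g : G) :
    (Nat.card (Subgroup.centralizer ({g} : Set G)) =
        Nat.card (Subgroup.centralizer ({(QuotientGroup.mk g : G ⧸ N)} : Set (G ⧸ N)))) ↔
      ∀ n ∈ N, ∃ x : G, x * g * x⁻¹ = g * n := by
  set S : Set G := {y : G | ∃ x : G, x * g * x⁻¹ = y}
  set Sb : Set (G ⧸ N) := {y : G ⧸ N | ∃ x : G ⧸ N, x * (g : G ⧸ N) * x⁻¹ = y}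
  set T : Set G := QuotientGroup.mk ⁻¹' Sb
  have hST : S ⊆ T := by
    rintro y ⟨x, rfl⟩
    exact ⟨x, by simp⟩
  have hT : T.ncard = Nat.card N * Sb.ncard := by
    rw [← Nat.card_coe_set_eq, Nat.card_congr (QuotientGroup.preimageMkEquivSubgroupProdSet N Sb),
      Nat.card_prod, Nat.card_coe_set_eq]
  have h1 : S.ncard * Nat.card (Subgroup.centralizer ({g} : Set G)) = Nat.card G := by
    rw [show S.ncard = _ from ncard_conjugates g, Subgroup.index_mul_card]
  have h2 : Sb.ncard * Nat.card (Subgroup.centralizer ({(g : G ⧸ N)} : Set (G ⧸ N))) =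
      Nat.card (G ⧸ N) := by
    rw [show Sb.ncard = _ from ncard_conjugates (g : G ⧸ N), Subgroup.index_mul_card]
  have h3 := N.card_eq_card_quotient_mul_card_subgroup
  have hpos : 0 < Nat.card (G ⧸ N) := Nat.card_pos
  have key : (Nat.card (Subgroup.centralizer ({g} : Set G)) =
      Nat.card (Subgroup.centralizer ({(g : G ⧸ N)} : Set (G ⧸ N)))) ↔ S = T := by
    constructor
    · intro h
      refine Set.eq_of_subset_of_ncard_le hST ?_
      apply le_of_eq
      apply Nat.eq_of_mul_eq_mul_right (m := Nat.card (Subgroup.centralizer ({g} : Set G))) Nat.card_pos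
      rw [h1, hT, h, mul_assoc, h2, h3, mul_comm]
    · intro h
      rw [h, hT, h3, ← h2] at h1
      have hN : 0 < Nat.card N := Nat.card_pos
      have hS : 0 < Sb.ncard := by
        rcases Nat.eq_zero_or_pos Sb.ncard with h0 | h0
        · rw [h0, zero_mul] at h2; omega
        · exact h0
      apply Nat.eq_of_mul_eq_mul_left (Nat.mul_pos hN hS)
      rw [h1]; ring
  rw [key]
  constructor
  · intro h n hn
    have : g * n ∈ T := ⟨1, by simp [(QuotientGroup.eq_one_iff n).mpr hn]⟩
    rw [← h] at this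
    exact this
  · intro h
    refine Set.Subset.antisymm hST ?_
    rintro y ⟨xb, hxb⟩
    obtain ⟨x, rfl⟩ := QuotientGroup.mk_surjective xb
    have hm : (x * g * x⁻¹)⁻¹ * y ∈ N := by
      rw [← QuotientGroup.eq]; simpa using hxb
    obtain ⟨z, hz⟩ := h (x⁻¹ * ((x * g * x⁻¹)⁻¹ * y) * x⁻¹⁻¹) (Subgroup.Normal.conj_mem ‹_› _ hm _)
    refine ⟨x * z, ?_⟩
    calc x * z * g * (x * z)⁻¹ = x * (z * g * z⁻¹) * x⁻¹ := by group
      _ = _ := by rw [hz]; group

end Cfsg.Agent.H76
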