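import Mathlib
import Cfsg.Prelude.Def_Characters
import Cfsg.Agent.H75.PiClasses
import Cfsg.Agent.H77.ClassNumber
import Cfsg.Agent.Hall.Wielandt
import Cfsg.Agent.CharBasic.Kernel
import Cfsg.Agent.S0154

/-!
Counting lemmas for bounds on the number of classes of `π`-elements: fibres, covers by
centraliser classes, and the effect of `p * k(H) > |H|` on `[H, H]` and on commutativity.
-/

set_option autoImplicit false

namespace Cfsg.Agent.H76

open Subgroup

universe u

/-- A map whose fibres are large outside `F` has small range. -/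
theorem card_range_mul_le {X Y : Type*} [Finite X] (f : X → Y) (F : Set X) (e : ℕ) (he : 0 < e)
    (h : ∀ x, x ∉ F → e ≤ Nat.card {x' : X // f x' = f x}) :
    Nat.card (Set.range f) * e ≤ Nat.card X + (e - 1) * Nat.card F := by
  classical
  have := Fintype.ofFinite X
  have hr : Fintype (Set.range f) := Fintype.ofFinite _
  have key : ∀ y : Set.range f,
      e ≤ ∑ x ∈ Finset.univ.filter (fun x => f x = y.1), (1 + if x ∈ F then e - 1 else 0) := by
    rintro ⟨y, x, rfl⟩
    by_cases hx : ∃ x' : X, f x' = f x ∧ x' ∈ F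
    · obtain ⟨x', hx', hF⟩ := hx
      refine le_trans ?_ (Finset.single_le_sum (f := fun a => 1 + if a ∈ F then e - 1 else 0)
        (fun _ _ => Nat.zero_le _) (Finset.mem_filter.mpr ⟨Finset.mem_univ x', hx'⟩))
      simp only [hF, if_true]
      omega
    · have hxF : x ∉ F := fun hF => hx ⟨x, rfl, hF⟩
      refine (h x hxF).trans ?_
      rw [Nat.card_eq_fintype_card, Fintype.card_subtype, Finset.card_eq_sum_ones]
      exact Finset.sum_le_sum fun a _ => Nat.le_add_right _ _
  calc Nat.card (Set.range f) * e = ∑ _y : Set.range f, e := by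
        rw [Finset.sum_const, smul_eq_mul, Finset.card_univ, Nat.card_eq_fintype_card]
    _ ≤ ∑ y : Set.range f,
        ∑ x ∈ Finset.univ.filter (fun x => f x = y.1), (1 + if x ∈ F then e - 1 else 0) :=
        Finset.sum_le_sum fun y _ => key y
    _ = ∑ x : X, (1 + if x ∈ F then e - 1 else 0) := by
        rw [← Finset.sum_fiberwise (Finset.univ : Finset X) (fun x => (⟨f x, x, rfl⟩ : Set.range f))]
        refine Finset.sum_congr rfl fun y _ => Finset.sum_congr ?_ fun _ _ => rfl
        ext x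
        simp [Subtype.ext_iff]
    _ = Nat.card X + (e - 1) * Nat.card F := by
        rw [Finset.sum_add_distrib, Finset.sum_const, smul_eq_mul, mul_one, Finset.card_univ,
          ← Nat.card_eq_fintype_card, ← Finset.sum_filter, Finset.sum_const, smul_eq_mul,
          mul_comm (e - 1)]
        congr 1
        congr 1
        rw [Nat.card_eq_fintype_card, ← Fintype.card_subtype]

variable {G : Type u} [Group G] [Finite G]

/-- Classes of `s`-elements that factor over a set `T` of classes, with the cofactor a `b`-element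
of the centraliser. -/
theorem card_cover_le {s b : Finset ℕ} (𝒞 : Set (H75.PiClass s G)) (T : Set (ConjClasses G))
    (c B : ℕ)
    (h : ∀ C ∈ 𝒞, ∃ w z : G, ConjClasses.mk w ∈ T ∧ Commute w z ∧
      (orderOf z).primeFactors ⊆ b ∧ C.1 = ConjClasses.mk (w * z))
    (hB : ∀ w : G, ConjClasses.mk w ∈ T →
      Nat.card (H75.PiClass b (centralizer ({w} : Set G))) * c ≤ B) :
    Nat.card 𝒞 * c ≤ Nat.card T * B := by
  classical
  haveI : Finite (ConjClasses G) := Finite.of_surjective _ ConjClasses.mk_surjective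
  have := Fintype.ofFinite T
  let w₀ : T → G := fun D => D.1.out
  have hw₀ : ∀ D : T, ConjClasses.mk (w₀ D) = D.1 := fun D => Quotient.out_eq _
  let tgt := Σ D : T, H75.PiClass b (centralizer ({w₀ D} : Set G))
  haveI : ∀ D : T, Finite (H75.PiClass b (centralizer ({w₀ D} : Set G))) := fun D => by
    haveI : Finite (ConjClasses (centralizer ({w₀ D} : Set G))) :=
      Finite.of_surjective _ ConjClasses.mk_surjective
    exact Subtype.finite
  have key : ∀ C : 𝒞, ∃ (D : T) (z : centralizer ({w₀ D} : Set G)),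
      (orderOf z).primeFactors ⊆ b ∧ C.1.1 = ConjClasses.mk (w₀ D * z) := by
    rintro ⟨C, hC⟩
    obtain ⟨w, z, hwT, hwz, hz, hCe⟩ := h C hC
    obtain ⟨g, hg⟩ := isConj_iff.mp
      (ConjClasses.mk_eq_mk_iff_isConj.mp (hw₀ ⟨_, hwT⟩).symm)
    have hmem : g * z * g⁻¹ ∈ centralizer ({w₀ ⟨_, hwT⟩} : Set G) := by
      rw [mem_centralizer_singleton_iff, ← hg]
      calc g * z * g⁻¹ * (g * w * g⁻¹) = g * (z * w) * g⁻¹ := by group
        _ = g * (w * z) * g⁻¹ := by rw [hwz.eq]
        _ = g * w * g⁻¹ * (g * z * g⁻¹) := by group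
    refine ⟨⟨_, hwT⟩, ⟨_, hmem⟩, ?_, ?_⟩
    · rw [Subgroup.orderOf_mk, show orderOf (g * z * g⁻¹) = orderOf z from
        (MulAut.conj g).orderOf_eq z]
      exact hz
    · rw [hCe]
      refine ConjClasses.mk_eq_mk_iff_isConj.mpr (isConj_iff.mpr ⟨g, ?_⟩)
      show g * (w * z) * g⁻¹ = w₀ ⟨_, hwT⟩ * (g * z * g⁻¹)
      exact (show g * (w * z) * g⁻¹ = g * w * g⁻¹ * (g * z * g⁻¹) by group).trans
        (congrArg (· * (g * z * g⁻¹)) hg)
  choose D z hz hCz using key
  let φ : 𝒞 → tgt := fun C => ⟨D C, ⟨ConjClasses.mk (z C), fun v hv q hq => by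
    obtain ⟨a, rfl⟩ := isConj_iff.1 (ConjClasses.mk_eq_mk_iff_isConj.1 hv.symm)
    rw [show orderOf (a * z C * a⁻¹) = orderOf (z C) from (MulAut.conj a).orderOf_eq _] at hq
    exact hz C hq⟩⟩
  have hinj : Function.Injective φ := by
    intro C C' he
    apply Subtype.ext
    apply Subtype.ext
    rw [hCz C, hCz C']
    have : ∀ (E E' : T) (v : centralizer ({w₀ E} : Set G)) (v' : centralizer ({w₀ E'} : Set G))
        hv hv', (⟨E, ⟨ConjClasses.mk v, hv⟩⟩ : tgt) = ⟨E', ⟨ConjClasses.mk v', hv'⟩⟩ →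
        ConjClasses.mk (w₀ E * v) = ConjClasses.mk (w₀ E' * v') := by
      intro E E' v v' hv hv' he
      obtain ⟨rfl, he'⟩ := Sigma.mk.inj_iff.1 he
      obtain ⟨a, ha⟩ := isConj_iff.1
        (ConjClasses.mk_eq_mk_iff_isConj.1 (congrArg Subtype.val (eq_of_heq he')))
      refine ConjClasses.mk_eq_mk_iff_isConj.2 (isConj_iff.2 ⟨a, ?_⟩)
      rw [← ha]
      push_cast
      calc (a : G) * (w₀ E * v) * (a : G)⁻¹ = ((a : G) * w₀ E) * v * (a : G)⁻¹ := by group
        _ = w₀ E * a * v * (a : G)⁻¹ := by rw [mem_centralizer_singleton_iff.1 a.2]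
        _ = w₀ E * ((a : G) * v * (a : G)⁻¹) := by group
    exact this _ _ _ _ _ _ he
  calc Nat.card 𝒞 * c ≤ Nat.card tgt * c :=
        Nat.mul_le_mul_right c (Nat.card_le_card_of_injective φ hinj)
    _ = ∑ D : T, Nat.card (H75.PiClass b (centralizer ({w₀ D} : Set G))) * c := by
        rw [show Nat.card tgt = _ from Nat.card_sigma, Finset.sum_mul]
    _ ≤ ∑ _D : T, B := Finset.sum_le_sum fun D _ => hB _ (by rw [hw₀ D]; exact D.2)
    _ = Nat.card T * B := by
        rw [Finset.sum_const, smul_eq_mul, Finset.card_univ, Nat.card_eq_fintype_card]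

/-- An element of a subgroup `C` generating a subgroup for the primes of a nilpotent Hall subgroup
`H ≤ C` is conjugate in `C` into `H`; likewise for nilpotent subgroups. -/
theorem exists_conj_into {C H K : Subgroup G} (hH : Group.IsNilpotent H)
    (hHall : (Nat.card H).Coprime H.index) (hK : Group.IsNilpotent K) (hHC : H ≤ C) (hKC : K ≤ C)
    (hd : ∀ q : ℕ, q.Prime → q ∣ Nat.card K → q ∣ Nat.card H) :
    ∃ c ∈ C, ∀ x ∈ K, c * x * c⁻¹ ∈ H := by
  obtain ⟨x, hx⟩ := Hall.le_conj_of_nilpotent (H := H.subgroupOf C) (K := K.subgroupOf C)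
    (Group.nilpotent_of_mulEquiv (_h := hH) (subgroupOfEquivOfLe hHC).symm)
    (by
      rw [Nat.card_congr (subgroupOfEquivOfLe hHC).toEquiv]
      exact hHall.coprime_dvd_right ⟨C.index, (relIndex_mul_index hHC).symm⟩)
    (Group.nilpotent_of_mulEquiv (_h := hK) (subgroupOfEquivOfLe hKC).symm)
    (fun q hq hqd => by
      rw [Nat.card_congr (subgroupOfEquivOfLe hHC).toEquiv]
      rw [Nat.card_congr (subgroupOfEquivOfLe hKC).toEquiv] at hqd
      exact hd q hq hqd)
  refine ⟨((x⁻¹ : C) : G), (x⁻¹).2, fun y hy => ?_⟩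
  have := hx (x := ⟨y, hKC hy⟩) (mem_subgroupOf.mpr hy)
  rw [mem_smul_pointwise_iff_exists] at this
  obtain ⟨v, hv, hve⟩ := this
  have e : (x : G) * (v : G) * (x : G)⁻¹ = y := congrArg Subtype.val hve
  rw [← e]
  push_cast
  rw [show (x : G)⁻¹ * ((x : G) * (v : G) * (x : G)⁻¹) * ((x : G)⁻¹)⁻¹ = (v : G) by group]
  exact mem_subgroupOf.mp hv

/-- A group with more than `|H| (p² + p - 1) / p³` classes is abelian. -/
theorem isMulCommutative_of_many_classes {H : Type*} [Group H] [Finite H] {p : ℕ}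
    (hp : ∀ q : ℕ, q.Prime → q ∣ Nat.card H → p ≤ q)
    (h : Nat.card H * (p ^ 2 + p - 1) < p ^ 3 * Nat.card (ConjClasses H)) :
    IsMulCommutative H := by
  classical
  by_contra hna
  have := Fintype.ofFinite H
  set n := Nat.card H with hn
  set z := Nat.card (center H) with hz
  have hn0 : 0 < n := Nat.card_pos
  have hp0 : 0 < p := by
    rcases Nat.eq_zero_or_pos p with rfl | h0
    · simp at h
    · exact h0
  -- the index of the centre is neither `1` nor a prime
  have hidx : p * p ≤ (center H).index := by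
    set a := (center H).index with ha
    have ha0 : a ≠ 0 := index_ne_zero_of_finite
    have hncyc : ¬ IsCyclic (H ⧸ center H) := fun hc => hna
      ⟨⟨fun x y => commutative_of_cyclic_center_quotient (QuotientGroup.mk' (center H))
        (le_of_eq (QuotientGroup.ker_mk' _)) x y⟩⟩
    have ha1 : a ≠ 1 := fun e => hncyc (by
      haveI : Subsingleton (H ⧸ center H) := (Nat.card_eq_one_iff_unique.mp
        (by rw [← index_eq_card]; exact e)).1
      exact isCyclic_of_subsingleton)
    obtain ⟨q, hq, hqa⟩ := Nat.exists_prime_and_dvd ha1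
    obtain ⟨b, hb⟩ := hqa
    have hb1 : b ≠ 1 := by
      rintro rfl
      rw [mul_one] at hb
      haveI := Fact.mk hq
      exact hncyc (isCyclic_of_prime_card (p := q) (by rw [← index_eq_card]; exact hb))
    obtain ⟨q', hq', hqb⟩ := Nat.exists_prime_and_dvd hb1
    have hdvd : a ∣ n := index_dvd_card _
    have h1 := hp q hq ((Dvd.intro b hb.symm).trans hdvd)
    have h2 := hp q' hq' ((hqb.trans (Dvd.intro_left q hb.symm)).trans hdvd)
    rw [hb]
    exact Nat.mul_le_mul h1 (h2.trans (Nat.le_of_dvd (Nat.pos_of_ne_zero fun e => ha0 (by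
      rw [hb, e, mul_zero])) hqb))
  have hzn : z * (p * p) ≤ n := by
    rw [hn, ← (center H).card_mul_index]
    exact Nat.mul_le_mul_left _ hidx
  -- centralisers
  have hc : ∀ x : H, p * Nat.card (centralizer ({x} : Set H)) ≤
      n + if x ∈ center H then (p - 1) * n else 0 := by
    intro x
    have hle : Nat.card (centralizer ({x} : Set H)) ≤ n := card_le_card_group _
    split_ifs with hx
    · calc p * Nat.card (centralizer ({x} : Set H)) ≤ p * n := Nat.mul_le_mul_left _ hle
        _ = n + (p - 1) * n := by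
          obtain ⟨p', rfl⟩ : ∃ p', p = p' + 1 := ⟨p - 1, by omega⟩
          simp [Nat.succ_mul, add_comm, Nat.add_mul]
    · rw [add_zero, hn, ← (centralizer ({x} : Set H)).card_mul_index, mul_comm p]
      refine Nat.mul_le_mul_left _ ?_
      have hne : (centralizer ({x} : Set H)).index ≠ 1 := fun e => hx <| by
        rw [index_eq_one] at e
        refine mem_center_iff.mpr fun y => ?_
        exact mem_centralizer_singleton_iff.mp (e ▸ mem_top y)
      obtain ⟨q, hq, hqd⟩ := Nat.exists_prime_and_dvd hne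
      exact (hp q hq (hqd.trans (index_dvd_card _))).trans
        (Nat.le_of_dvd (Nat.pos_of_ne_zero index_ne_zero_of_finite) hqd)
  have hk := H77.kcard_mul_card (X := H)
  have hsum : p * (Nat.card (ConjClasses H) * n) ≤ n * n + z * ((p - 1) * n) := by
    rw [hn, hk, Finset.mul_sum]
    refine (Finset.sum_le_sum fun x _ => hc x).trans (le_of_eq ?_)
    rw [Finset.sum_add_distrib, ← Finset.sum_filter, Finset.sum_const, Finset.sum_const,
      smul_eq_mul, smul_eq_mul, Finset.card_univ, ← Nat.card_eq_fintype_card, ← hn]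
    congr 1
    congr 1
    rw [hz, Nat.card_eq_fintype_card, ← Fintype.card_subtype]
  have hk' : p * Nat.card (ConjClasses H) ≤ n + z * (p - 1) := by
    refine Nat.le_of_mul_le_mul_right ?_ hn0
    calc p * Nat.card (ConjClasses H) * n = p * (Nat.card (ConjClasses H) * n) := by ring
      _ ≤ n * n + z * ((p - 1) * n) := hsum
      _ = (n + z * (p - 1)) * n := by ring
  obtain ⟨p', rfl⟩ : ∃ p', p = p' + 1 := ⟨p - 1, by omega⟩
  simp only [Nat.add_sub_cancel] at hk'
  have e : (p' + 1) ^ 2 + (p' + 1) - 1 = (p' + 1) ^ 2 + p' := by omega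
  rw [e] at h
  nlinarith [Nat.mul_le_mul_left ((p' + 1) ^ 2) hk', Nat.mul_le_mul_right p' hzn]

/-- A group with more than `|H| / p` classes has derived subgroup of order at most `p`. -/
theorem card_commutator_le_of_many_classes {H : Type u} [Group H] [Finite H] {p : ℕ}
    (hp : ∀ q : ℕ, q.Prime → q ∣ Nat.card H → p ≤ q)
    (h : Nat.card H < p * Nat.card (ConjClasses H)) :
    Nat.card (commutator H) ≤ p := by
  classical
  have := Fintype.ofFinite H
  by_contra hd
  push Not at hd
  haveI : Finite (ConjClasses H) := Finite.of_surjective _ ConjClasses.mk_surjective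
  choose deg hdeg0 hdeg hdvd _hdeg' using fun χ : Cfsg.IrrCharacter H => CharBasic.IsIrr.degree_dvd χ.2
  have hsum : ∑ χ : Cfsg.IrrCharacter H, deg χ ^ 2 = Nat.card H := by
    have := CharBasic.sum_sq_degree (G := H)
    simp only [hdeg] at this
    exact_mod_cast this
  set L := Nat.card {χ : Cfsg.IrrCharacter H // (χ : H → ℂ) 1 = 1} with hL
  have hLi : L * Nat.card (commutator H) = Nat.card H := by
    rw [hL, S0154.result, index_mul_card]
  set k := Nat.card (ConjClasses H) with hk
  have hkey : p ^ 2 * k ≤ Nat.card H + (p ^ 2 - 1) * L := by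
    have hL' : L = ∑ χ : Cfsg.IrrCharacter H, if (χ : H → ℂ) 1 = 1 then 1 else 0 := by
      rw [hL, Nat.card_eq_fintype_card, Fintype.card_subtype, ← Finset.sum_filter,
        Finset.card_eq_sum_ones]
    have hk' : p ^ 2 * k = ∑ _χ : Cfsg.IrrCharacter H, p ^ 2 := by
      rw [hk, ← CharBasic.card_irrCharacter, Finset.sum_const, smul_eq_mul, Finset.card_univ,
        Nat.card_eq_fintype_card, mul_comm]
    rw [← hsum, hk', hL', Finset.mul_sum, ← Finset.sum_add_distrib]
    refine Finset.sum_le_sum fun χ _ => ?_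
    split_ifs with h1
    · have : 1 ≤ deg χ ^ 2 := Nat.one_le_pow _ _ (hdeg0 χ)
      omega
    · have hne : deg χ ≠ 1 := fun e => h1 (by rw [hdeg χ, e, Nat.cast_one])
      obtain ⟨q, hq, hqd⟩ := Nat.exists_prime_and_dvd hne
      have := (hp q hq (hqd.trans (hdvd χ))).trans (Nat.le_of_dvd (hdeg0 χ) hqd)
      simpa using Nat.pow_le_pow_left this 2
  set d := Nat.card (commutator H) with hd'
  set n := Nat.card H with hn
  have hn0 : 0 < n := Nat.card_pos
  have hp0 : 0 < p := by
    rcases Nat.eq_zero_or_pos p with rfl | h0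
    · simp at h
    · exact h0
  obtain ⟨p', rfl⟩ : ∃ p', p = p' + 1 := ⟨p - 1, by omega⟩
  have e : (p' + 1) ^ 2 - 1 = p' * p' + 2 * p' := by
    have : (p' + 1) ^ 2 = p' * p' + 2 * p' + 1 := by ring
    omega
  rw [e] at hkey
  have h1 : (p' + 1) * d * n + 1 ≤ (p' + 1) * d * ((p' + 1) * k) := by
    have : 0 < (p' + 1) * d := Nat.mul_pos hp0 (by omega)
    nlinarith
  have h2 : d * ((p' + 1) ^ 2 * k) ≤ d * n + (p' * p' + 2 * p') * n := by
    calc d * ((p' + 1) ^ 2 * k) ≤ d * (n + (p' * p' + 2 * p') * L) := Nat.mul_le_mul_left _ hkey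
      _ = d * n + (p' * p' + 2 * p') * (L * d) := by ring
      _ = _ := by rw [hLi]
  -- `d p' n + 1 ≤ p' (p' + 2) n` but `d ≥ p' + 2`
  have h3 : (p' + 2) * (p' * n) ≤ d * (p' * n) := Nat.mul_le_mul_right _ (by omega)
  nlinarith

end Cfsg.Agent.H76
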