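import Cfsg.Agent.H76.ClassTwoMove
import Cfsg.Agent.Coprime.Action
import Cfsg.Agent.Cores.Basic
import Cfsg.Agent.H75.Basic
import Mathlib.GroupTheory.Transfer

/-!
A group of odd order acts, `M` is nilpotent with Sylow `2`-subgroup `S` of class two, and `M` is
the normaliser of its non-trivial invariant normal subgroups: then `N(R) ≤ S C(R)` for all `R`
containing `C_S(R)`.
-/

set_option autoImplicit false

namespace Cfsg.Agent.H76.ClassTwoMove

open Subgroup

variable {G : Type*} [Group G]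

theorem map_zOf (e : G ≃* G) (R : Subgroup G) {z : G} (hz : z ∈ zOf R) :
    e z ∈ zOf (R.map e.toMonoidHom) := by
  refine ⟨mem_map_of_mem _ hz.1, mem_centralizer_iff.mpr ?_⟩
  rintro _ ⟨r, hr, rfl⟩
  show e r * e z = e z * e r
  rw [← map_mul, ← map_mul, zOf_comm hz hr]

theorem of_map_zOf (e : G ≃* G) (R : Subgroup G) {y : G} (hy : y ∈ zOf (R.map e.toMonoidHom)) :
    ∃ z ∈ zOf R, e z = y := by
  obtain ⟨z, hz, hze⟩ := hy.1
  refine ⟨z, ⟨hz, mem_centralizer_iff.mpr fun r hr => e.injective ?_⟩, hze⟩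
  rw [map_mul, map_mul, show e z = y from hze]
  exact zOf_comm hy (mem_map_of_mem _ hr)

theorem Move.map {S R : Subgroup G} {x : G} (h : Move S R x) (e : G ≃* G)
    (he : ∀ s, e s ∈ S ↔ s ∈ S) : Move S (R.map e.toMonoidHom) (e x) := by
  have hmem : ∀ g, e g ∈ R.map e.toMonoidHom ↔ g ∈ R := fun g => mem_map_iff_mem e.injective
  refine ⟨?_, ?_, ?_, ?_, ?_, ?_, ?_, ?_, ?_⟩
  · rintro _ ⟨r, hr, rfl⟩; exact (he r).mpr (h.le hr)
  · obtain ⟨s, hs, hsR⟩ := h.nontriv
    exact ⟨e s, (he s).mpr hs, fun hm => hsR ((hmem s).mp hm)⟩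
  · intro a ha b hb haR hbR
    obtain ⟨a, rfl⟩ := e.surjective a
    obtain ⟨b, rfl⟩ := e.surjective b
    rw [hmem] at haR hbR
    rw [← map_mul, hmem]
    exact h.index_two a ((he a).mp ha) b ((he b).mp hb) haR hbR
  · rintro y ⟨hyS, hyC⟩
    obtain ⟨y, rfl⟩ := e.surjective y
    rw [hmem]
    refine h.centric ⟨(he y).mp hyS, mem_centralizer_iff.mpr fun r hr => e.injective ?_⟩
    rw [map_mul, map_mul]
    exact mem_centralizer_iff.mp hyC _ (mem_map_of_mem _ hr)
  · rw [mem_normalizer_iff]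
    intro g
    obtain ⟨g, rfl⟩ := e.surjective g
    rw [← map_inv, ← map_mul, ← map_mul, hmem, hmem]
    exact mem_normalizer_iff.mp h.normalizes g
  · rw [e.orderOf_eq]; exact h.odd
  · intro hm
    refine h.moves (mem_centralizer_iff.mpr fun r hr => e.injective ?_)
    rw [map_mul, map_mul]
    exact mem_centralizer_iff.mp hm _ (mem_map_of_mem _ hr)
  · intro r hr
    obtain ⟨r, rfl⟩ := e.surjective r
    rw [hmem] at hr
    obtain ⟨c, hc, hcx, hz⟩ := h.split r hr
    refine ⟨e c, (hmem c).mpr hc, by rw [← map_mul, ← map_mul, hcx], ?_⟩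
    rw [← map_inv, ← map_mul]
    exact map_zOf e R hz
  · intro t ht htR z hz
    obtain ⟨t, rfl⟩ := e.surjective t
    obtain ⟨z, hz', rfl⟩ := of_map_zOf e R hz
    have := congrArg e (h.inverts t ((he t).mp ht) (fun hm => htR ((hmem t).mpr hm)) z hz')
    simpa only [map_mul, map_inv] using this

theorem Adj.map {S R R' : Subgroup G} (h : Adj S R R') (e : G ≃* G) (he : ∀ s, e s ∈ S ↔ s ∈ S) :
    Adj S (R.map e.toMonoidHom) (R'.map e.toMonoidHom) := by
  obtain ⟨x, w, hx, ⟨z, hz, rfl⟩, hwR⟩ := h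
  refine ⟨e x, e (delta x z), hx.map e he, ⟨e z, map_zOf e R hz, ?_⟩,
    fun hm => hwR ((mem_map_iff_mem e.injective).mp hm)⟩
  simp [delta]

variable [Finite G]

/-- An element of odd order acting trivially on `R/Z(R)` and on the involutions of `Z(R)`
centralises the `2`-group `R`. -/
theorem mem_centralizer_of_trivial {R : Subgroup G} (hR : IsPGroup 2 R) {x : G}
    (hx : x ∈ normalizer (R : Set G)) (hodd : Odd (orderOf x))
    (h0 : ∀ a ∈ zpowers x, ∀ r ∈ R, a * r * a⁻¹ * r⁻¹ ∈ zOf R)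
    (h1 : ∀ z ∈ zOf R, z * z = 1 → x * z * x⁻¹ = z) : x ∈ centralizer (R : Set G) := by
  have hZ : ∀ (n : ℕ) (z : G), z ∈ zOf R → z ^ 2 ^ n = 1 → x * z * x⁻¹ = z := by
    intro n
    induction n with
    | zero => intro z _ hz; rw [pow_zero, pow_one] at hz; subst hz; group
    | succ n ih =>
      intro z hz hz2
      have hz' : x * (z * z) * x⁻¹ = z * z := ih _ (mul_mem hz hz) (by
        rw [← pow_two, ← pow_mul, ← pow_succ']; exact hz2)
      set w := x * z * x⁻¹ * z⁻¹ with hw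
      have hwZ : w ∈ zOf R := mul_mem (conj_mem_zOf hx hz) (inv_mem hz)
      have hwz : z * w = w * z := zOf_comm hwZ hz.1
      have hww : w * w = 1 := by
        have : w * w * (z * z) = z * z := by
          calc w * w * (z * z) = w * (w * z) * z := by group
            _ = w * (z * w) * z := by rw [hwz]
            _ = (w * z) * (w * z) := by group
            _ = x * (z * z) * x⁻¹ := by rw [hw]; group
            _ = z * z := hz'
        exact mul_eq_right.mp this
      have hfix := h1 w hwZ hww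
      have hi := conj_pow_of_fixed (x := x) (w := w) (z := z) (by rw [hw]; group) hfix (orderOf x)
      rw [pow_orderOf_eq_one, one_mul, inv_one, mul_one, eq_comm, mul_eq_right] at hi
      have hw1 : w = 1 := orderOf_eq_one_iff.mp (Nat.eq_one_of_dvd_coprimes
        hodd.coprime_two_left (orderOf_dvd_of_pow_eq_one (by rw [pow_two]; exact hww))
        (orderOf_dvd_of_pow_eq_one hi))
      calc x * z * x⁻¹ = w * z := by rw [hw]; group
        _ = z := by rw [hw1, one_mul]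
  refine mem_centralizer_iff.mpr fun r hr => ?_
  obtain ⟨c, ⟨hcR, hcC⟩, hcr⟩ := Coprime.exists_centralizer_mem_of_comm_mem (A := zpowers x)
    (K := R) (zpowers_le.mpr hx) (by
      rw [Nat.card_zpowers]
      obtain ⟨k, hk⟩ := hR.exists_card_eq
      rw [hk]
      exact hodd.coprime_two_right.pow_right k)
    (Or.inl inferInstance) (N := zOf R) inf_le_left
    (fun y hy => mem_normalizer_iff.mpr fun z => ⟨fun hz => conj_mem_zOf (le_normalizer hy) hz,
      fun hz => by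
        have := conj_mem_zOf (inv_mem (le_normalizer hy)) hz
        simpa [mul_assoc] using this⟩)
    (fun y hy => mem_normalizer_iff.mpr fun z => ⟨fun hz =>
        conj_mem_zOf (zpowers_le.mpr hx hy) hz,
      fun hz => by
        have := conj_mem_zOf (inv_mem (zpowers_le.mpr hx hy)) hz
        simpa [mul_assoc] using this⟩) hr (fun a ha => h0 a ha r hr)
  obtain ⟨n, hn⟩ := hR ⟨_, hcr.1⟩
  have hz := hZ n _ hcr (congrArg Subtype.val hn)
  have hcx : x * c = c * x := mem_centralizer_iff.mp hcC x (mem_zpowers x)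
  have hz' : x * (r⁻¹ * c) = r⁻¹ * c * x := by
    calc x * (r⁻¹ * c) = x * (r⁻¹ * c) * x⁻¹ * x := by group
      _ = _ := by rw [hz]
  have hq : Commute x (r⁻¹ * c) := hz'
  calc r * x = c * ((r⁻¹ * c)⁻¹ * x) := by group
    _ = c * (x * (r⁻¹ * c)⁻¹) := by rw [hq.inv_right.eq]
    _ = c * x * (r⁻¹ * c)⁻¹ := by group
    _ = x * c * (r⁻¹ * c)⁻¹ := by rw [hcx]
    _ = x * r := by group

/-- The hypotheses on `M` and `S`. -/
structure Setting {A : Type*} [Group A] (φ : A →* MulAut G) (M : Subgroup G) (S : Sylow 2 G) :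
    Prop where
  oddA : Odd (Nat.card A)
  le : (S : Subgroup G) ≤ M
  ne_bot : (S : Subgroup G) ≠ ⊥
  cl : ∀ a ∈ (S : Subgroup G), ∀ b ∈ (S : Subgroup G), ∀ c ∈ (S : Subgroup G),
    c * (a * b * a⁻¹ * b⁻¹) = a * b * a⁻¹ * b⁻¹ * c
  invS : ∀ a : A, ∀ s : G, φ a s ∈ (S : Subgroup G) ↔ s ∈ (S : Subgroup G)
  odd_comm : ∀ m ∈ M, Odd (orderOf m) → ∀ s ∈ (S : Subgroup G), s * m = m * s
  gen : M ≤ (S : Subgroup G) ⊔ centralizer ((S : Subgroup G) : Set G)
  norm : ∀ X : Subgroup G, X ≠ ⊥ → X ≤ M → M ≤ normalizer (X : Set G) →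
    (∀ a : A, ∀ x ∈ X, φ a x ∈ X) → normalizer (X : Set G) = M

/-- `R` is centric in `S` and some element of `N(R)` lies outside `S C(R)`. -/
def Bad (S : Subgroup G) (R : Subgroup G) : Prop :=
  R ≤ S ∧ S ⊓ centralizer (R : Set G) ≤ R ∧
    ¬ normalizer (R : Set G) ≤ S ⊔ centralizer (R : Set G)

variable {A : Type*} [Group A] {φ : A →* MulAut G} {M : Subgroup G} {S : Sylow 2 G}

omit [Finite G] in
theorem mem_sup_centralizer {R : Subgroup G} {H : Subgroup G} (hH : H ≤ normalizer (R : Set G))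
    {g : G} (hg : g ∈ H ⊔ centralizer (R : Set G)) :
    ∃ r ∈ H, ∃ c ∈ centralizer (R : Set G), g = r * c := by
  have hle : H ≤ normalizer (centralizer (R : Set G) : Set G) := hH.trans (by
    intro n hn
    rw [mem_normalizer_iff]
    intro y
    have key : ∀ m : G, m ∈ normalizer (R : Set G) → ∀ c ∈ centralizer (R : Set G),
        m * c * m⁻¹ ∈ centralizer (R : Set G) := by
      intro m hm c hc
      refine mem_centralizer_iff.mpr fun r hr => ?_
      have := mem_centralizer_iff.mp hc _ ((mem_normalizer_iff.mp (inv_mem hm) r).mp hr)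
      calc r * (m * c * m⁻¹) = m * (m⁻¹ * r * m⁻¹⁻¹ * c) * m⁻¹ := by group
        _ = m * (c * (m⁻¹ * r * m⁻¹⁻¹)) * m⁻¹ := by rw [this]
        _ = _ := by group
    exact ⟨key n hn y, fun hy => by simpa [mul_assoc] using key n⁻¹ (inv_mem hn) _ hy⟩)
  rw [← SetLike.mem_coe, coe_mul_of_left_le_normalizer_right _ _ hle] at hg
  obtain ⟨r, hr, c, hc, rfl⟩ := Set.mem_mul.mp hg
  exact ⟨r, hr, c, hc, rfl⟩

omit [Finite G] in
theorem Setting.le_normalizer_of_centric (h : Setting φ M S) {R : Subgroup G}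
    (hRS : R ≤ (S : Subgroup G))
    (hC : (S : Subgroup G) ⊓ centralizer (R : Set G) ≤ R) :
    (S : Subgroup G) ≤ normalizer (R : Set G) := by
  have key : ∀ a ∈ (S : Subgroup G), ∀ r ∈ R, a * r * a⁻¹ ∈ R := by
    intro a ha r hr
    have hc : a * r * a⁻¹ * r⁻¹ ∈ R := hC (mem_inf.mpr ⟨mul_mem (mul_mem (mul_mem ha (hRS hr))
      (inv_mem ha)) (inv_mem (hRS hr)),
      mem_centralizer_iff.mpr fun y hy => h.cl a ha r (hRS hr) y (hRS hy)⟩)
    simpa using mul_mem hc hr
  intro a ha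
  rw [mem_normalizer_iff]
  exact fun r => ⟨key a ha r, fun hr => by simpa [mul_assoc] using key a⁻¹ (inv_mem ha) _ hr⟩

omit [Finite G] in
theorem Setting.M_le (h : Setting φ M S) {R : Subgroup G} (hRS : R ≤ (S : Subgroup G))
    (hC : (S : Subgroup G) ⊓ centralizer (R : Set G) ≤ R) :
    M ≤ normalizer (R : Set G) :=
  h.gen.trans (sup_le (h.le_normalizer_of_centric hRS hC)
    ((centralizer_le hRS).trans (centralizer_le_normalizer _)))

theorem odd_lift {K : Type*} [Group K] [Finite K] {L : Type*} [Group L] (f : K →* L) (y : K)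
    (h : Odd (orderOf (f y))) : ∃ x ∈ zpowers y, Odd (orderOf x) ∧ f x = f y := by
  obtain ⟨u, v, hu, hv, huv, ⟨k, hk⟩, hcop, -, -⟩ := H75.exists_split y Nat.prime_two
  refine ⟨v, hv, Nat.coprime_two_right.mp hcop, ?_⟩
  obtain ⟨i, hi⟩ := mem_zpowers_iff.mp hu
  have h1 : orderOf (f u) ∣ orderOf (f y) := by
    rw [orderOf_dvd_iff_pow_eq_one, ← hi, map_zpow, ← zpow_natCast, ← zpow_mul, mul_comm, zpow_mul,
      zpow_natCast, pow_orderOf_eq_one, one_zpow]
  have h2 : orderOf (f u) ∣ 2 ^ k := hk ▸ orderOf_map_dvd f u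
  rw [← huv, map_mul, orderOf_eq_one_iff.mp
    (Nat.eq_one_of_dvd_coprimes ((Nat.coprime_two_left.mpr h).pow_left k) h2 h1), one_mul]

/-- A maximal bad subgroup has index two in `S` and is moved by an element of odd order. -/
theorem Setting.exists_move (h : Setting φ M S) {R : Subgroup G} (hbad : Bad (S : Subgroup G) R)
    (hmax : ∀ R₁ : Subgroup G, Bad (S : Subgroup G) R₁ → R ≤ R₁ → R₁ = R) :
    ∃ x, Move (S : Subgroup G) R x := by
  classical
  obtain ⟨hRS, hC, hnot⟩ := hbad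
  set Y := normalizer (R : Set G) with hY
  have hSY : (S : Subgroup G) ≤ Y := h.le_normalizer_of_centric hRS hC
  have hCY : centralizer (R : Set G) ≤ Y := centralizer_le_normalizer _
  have hRp : IsPGroup 2 R := S.isPGroup'.to_le hRS
  set B : Subgroup Y := (R ⊔ centralizer (R : Set G)).subgroupOf Y with hB
  have hconjC : ∀ y ∈ Y, ∀ c ∈ centralizer (R : Set G), y * c * y⁻¹ ∈ centralizer (R : Set G) := by
    intro y hy c hc
    refine mem_centralizer_iff.mpr fun r hr => ?_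
    have := mem_centralizer_iff.mp hc _ ((mem_normalizer_iff.mp (inv_mem hy) r).mp hr)
    calc r * (y * c * y⁻¹) = y * (y⁻¹ * r * y⁻¹⁻¹ * c) * y⁻¹ := by group
      _ = y * (c * (y⁻¹ * r * y⁻¹⁻¹)) * y⁻¹ := by rw [this]
      _ = _ := by group
  haveI : B.Normal := ⟨fun b hb y => by
    obtain ⟨r, hr, c, hc, hbe⟩ := mem_sup_centralizer le_normalizer (mem_subgroupOf.mp hb)
    refine mem_subgroupOf.mpr ?_
    show (y : G) * (b : G) * (y : G)⁻¹ ∈ _
    rw [hbe, show (y : G) * (r * c) * (y : G)⁻¹ = (y : G) * r * (y : G)⁻¹ * ((y : G) * c * (y : G)⁻¹)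
      by group]
    exact mul_mem (mem_sup_left ((mem_normalizer_iff.mp y.2 r).mp hr))
      (mem_sup_right (hconjC _ y.2 c hc))⟩
  set π := QuotientGroup.mk' B with hπ
  have hker : ∀ (g : G) (hg : g ∈ Y), π ⟨g, hg⟩ = 1 ↔ g ∈ R ⊔ centralizer (R : Set G) := by
    intro g hg
    exact (QuotientGroup.eq_one_iff _).trans mem_subgroupOf
  have hSB : ∀ s ∈ (S : Subgroup G), s ∈ R ⊔ centralizer (R : Set G) → s ∈ R := by
    intro s hs hs'
    obtain ⟨r, hr, c, hc, rfl⟩ := mem_sup_centralizer le_normalizer hs'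
    refine mul_mem hr (hC (mem_inf.mpr ⟨?_, hc⟩))
    have := mul_mem (inv_mem (hRS hr)) hs
    rwa [inv_mul_cancel_left] at this
  -- the kernel of the action on `R/Z(R)`
  have htconj : ∀ y ∈ Y, ∀ a ∈ Y, (∀ r ∈ R, a * r * a⁻¹ * r⁻¹ ∈ zOf R) →
      ∀ r ∈ R, y * a * y⁻¹ * r * (y * a * y⁻¹)⁻¹ * r⁻¹ ∈ zOf R := by
    intro y hy a _ hT r hr
    have := conj_mem_zOf hy (hT _ ((mem_normalizer_iff.mp (inv_mem hy) r).mp hr))
    convert this using 1
    group
  let T₀ : Subgroup G :=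
    { carrier := {a | a ∈ Y ∧ ∀ r ∈ R, a * r * a⁻¹ * r⁻¹ ∈ zOf R}
      one_mem' := ⟨one_mem _, fun r _ => by simp⟩
      mul_mem' := fun {a b} ha hb => ⟨mul_mem ha.1 hb.1, fun r hr => by
        have := mul_mem (conj_mem_zOf ha.1 (hb.2 r hr)) (ha.2 r hr)
        convert this using 1
        group⟩
      inv_mem' := fun {a} ha => ⟨inv_mem ha.1, fun r hr => by
        have := inv_mem (ha.2 _ ((mem_normalizer_iff.mp (inv_mem ha.1) r).mp hr))
        convert this using 1
        group⟩ }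
  have hST₀ : (S : Subgroup G) ≤ T₀ := fun s hs => ⟨hSY hs, fun r hr =>
    have hmem : s * r * s⁻¹ * r⁻¹ ∈ R :=
      mul_mem ((mem_normalizer_iff.mp (hSY hs) r).mp hr) (inv_mem hr)
    ⟨hmem, mem_centralizer_iff.mpr fun y hy => h.cl s hs r (hRS hr) y (hRS hy)⟩⟩
  have hBT₀ : R ⊔ centralizer (R : Set G) ≤ T₀ := sup_le (hRS.trans hST₀) fun c hc =>
    ⟨hCY hc, fun r hr => by
      rw [show c * r * c⁻¹ = r by rw [← mem_centralizer_iff.mp hc r hr]; group]
      simp⟩
  let T₁ : Subgroup G :=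
    { carrier := {a | a ∈ Y ∧ ∀ z ∈ zOf R, z * z = 1 → a * z * a⁻¹ = z}
      one_mem' := ⟨one_mem _, fun z _ _ => by simp⟩
      mul_mem' := fun {a b} ha hb => ⟨mul_mem ha.1 hb.1, fun z hz hz2 => by
        calc a * b * z * (a * b)⁻¹ = a * (b * z * b⁻¹) * a⁻¹ := by group
          _ = z := by rw [hb.2 z hz hz2, ha.2 z hz hz2]⟩
      inv_mem' := fun {a} ha => ⟨inv_mem ha.1, fun z hz hz2 => by
        calc a⁻¹ * z * a⁻¹⁻¹ = a⁻¹ * (a * z * a⁻¹) * a := by rw [ha.2 z hz hz2]; group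
          _ = z := by group⟩ }
  have hsq : ∀ s ∈ (S : Subgroup G), s * s ∈ T₁ := by
    intro s hs
    refine ⟨mul_mem (hSY hs) (hSY hs), fun z hz hz2 => ?_⟩
    set c := s * z * s⁻¹ * z⁻¹ with hc
    have hzS := hRS hz.1
    have hcz : c * z = z * c := (h.cl s hs z hzS z hzS).symm
    have e1 : s * z * s⁻¹ = c * z := by rw [hc]; group
    have hcs : s * c = c * s := h.cl s hs z hzS s hs
    have hc2 : c * c = 1 := by
      have h1 : (c * z) * (c * z) = 1 := by
        rw [← e1, show s * z * s⁻¹ * (s * z * s⁻¹) = s * (z * z) * s⁻¹ by group, hz2]; group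
      calc c * c = c * c * (z * z) := by rw [hz2, mul_one]
        _ = c * (c * z) * z := by group
        _ = c * (z * c) * z := by rw [hcz]
        _ = (c * z) * (c * z) := by group
        _ = 1 := h1
    calc s * s * z * (s * s)⁻¹ = s * (s * z * s⁻¹) * s⁻¹ := by group
      _ = (s * c) * (z * s⁻¹) := by rw [e1]; group
      _ = c * (s * z * s⁻¹) := by rw [hcs]; group
      _ = c * c * z := (congrArg (c * ·) e1).trans (mul_assoc c c z).symm
      _ = z := by rw [hc2, one_mul]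
  -- the image of `S`
  set Sb : Subgroup (Y ⧸ B) := ((S : Subgroup G).subgroupOf Y).map π with hSb
  let P : Sylow 2 (Y ⧸ B) := (S.subtype hSY).mapSurjective (QuotientGroup.mk'_surjective B)
  have hP : (P : Subgroup (Y ⧸ B)) = Sb := rfl
  have hSbmem : ∀ v ∈ Sb, ∃ t, ∃ ht : t ∈ (S : Subgroup G), π ⟨t, hSY ht⟩ = v := by
    rintro _ ⟨t, ht, rfl⟩
    exact ⟨t, ht, rfl⟩
  have hSbcomm : ∀ v ∈ Sb, ∀ w ∈ Sb, v * w = w * v := by
    intro v hv w hw
    obtain ⟨a, ha, rfl⟩ := hSbmem v hv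
    obtain ⟨b, hb, rfl⟩ := hSbmem w hw
    have habR : a * b * a⁻¹ * b⁻¹ ∈ R :=
      hC (mem_inf.mpr ⟨mul_mem (mul_mem (mul_mem ha hb) (inv_mem ha)) (inv_mem hb),
        mem_centralizer_iff.mpr fun y hy => h.cl a ha b hb y (hRS hy)⟩)
    rw [← mul_inv_eq_iff_eq_mul, ← mul_inv_eq_one]
    rw [← map_inv, ← map_inv, ← map_mul, ← map_mul, ← map_mul]
    exact (hker _ _).mpr (mem_sup_left habR)
  -- normalisers of non-trivial subgroups of the image lie in the image
  have hN : ∀ H : Subgroup (Y ⧸ B), H ≤ Sb → H ≠ ⊥ → normalizer (H : Set (Y ⧸ B)) ≤ Sb := by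
    intro H hHS hH0 n hn
    obtain ⟨n, rfl⟩ := QuotientGroup.mk'_surjective B n
    set R₁ : Subgroup G := ((H.comap π).map Y.subtype) ⊓ (S : Subgroup G) with hR₁
    have hR₁mem : ∀ t (ht : t ∈ (S : Subgroup G)), t ∈ R₁ ↔ π ⟨t, hSY ht⟩ ∈ H := by
      intro t ht
      constructor
      · rintro ⟨⟨y, hy, rfl⟩, -⟩; exact hy
      · intro hm; exact ⟨⟨⟨t, hSY ht⟩, hm, rfl⟩, ht⟩
    have hRR₁ : R ≤ R₁ := fun r hr => (hR₁mem r (hRS hr)).mpr
      (by rw [(hker _ _).mpr (mem_sup_left hr)]; exact one_mem _)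
    have hR₁S : R₁ ≤ (S : Subgroup G) := inf_le_right
    have hR₁c : (S : Subgroup G) ⊓ centralizer (R₁ : Set G) ≤ R₁ :=
      (le_inf inf_le_left (inf_le_right.trans (centralizer_le hRR₁))).trans (hC.trans hRR₁)
    have hne : R₁ ≠ R := by
      intro he
      refine hH0 (le_bot_iff.mp fun v hv => ?_)
      obtain ⟨t, ht, rfl⟩ := hSbmem v (hHS hv)
      rw [mem_bot]
      exact (hker _ _).mpr (mem_sup_left (he ▸ (hR₁mem t ht).mpr hv))
    have hN₁ : normalizer (R₁ : Set G) ≤ (S : Subgroup G) ⊔ centralizer (R₁ : Set G) := by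
      by_contra hb
      exact hne (hmax R₁ ⟨hR₁S, hR₁c, hb⟩ hRR₁)
    -- `R₁` is a Sylow subgroup of the preimage `X` of `H`
    set X : Subgroup G := (H.comap π).map Y.subtype with hX
    have hR₁X : R₁ ≤ X := inf_le_left
    have hXeq : (R₁.subgroupOf Y) ⊔ B = H.comap π := by
      refine le_antisymm (sup_le (fun y hy => ?_) (fun y hy => ?_)) (fun y hy => ?_)
      · obtain ⟨y', hy', he⟩ := hR₁X (mem_subgroupOf.mp hy)
        rwa [← Subtype.ext (p := (· ∈ Y)) he]
      · rw [mem_comap, show π y = 1 from (QuotientGroup.eq_one_iff y).mpr hy]; exact one_mem _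
      · obtain ⟨t, ht, hte⟩ := hSbmem (π y) (hHS hy)
        have h1 : (⟨t, hSY ht⟩ : Y) ∈ R₁.subgroupOf Y :=
          mem_subgroupOf.mpr ((hR₁mem t ht).mpr (hte ▸ hy))
        have h2 : (⟨t, hSY ht⟩ : Y)⁻¹ * y ∈ B :=
          (QuotientGroup.eq_one_iff _).mp (show π ((⟨t, hSY ht⟩ : Y)⁻¹ * y) = 1 by
            rw [map_mul, map_inv, hte, inv_mul_cancel])
        simpa using mul_mem (mem_sup_left (T := B) h1) (mem_sup_right (S := R₁.subgroupOf Y) h2)
    have hinfB : ∀ W : Subgroup G, R ≤ W → W ≤ (S : Subgroup G) →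
        W.subgroupOf Y ⊓ B = R.subgroupOf Y := by
      intro W h1 h2
      ext y
      simp only [mem_inf, mem_subgroupOf, hB]
      exact ⟨fun ⟨a, b⟩ => hSB _ (h2 a) b, fun hy => ⟨h1 hy, mem_sup_left hy⟩⟩
    have hidx : ¬ 2 ∣ (R₁.subgroupOf X).index := by
      have e1 := Cores.card_sup_mul_card_inf (R₁.subgroupOf Y) B
      have e2 := Cores.card_sup_mul_card_inf ((S : Subgroup G).subgroupOf Y) B
      rw [hinfB R₁ hRR₁ hR₁S, hXeq] at e1
      rw [hinfB (S : Subgroup G) hRS le_rfl] at e2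
      have e3 := (R₁.subgroupOf X).card_mul_index
      rw [Nat.card_congr (subgroupOfEquivOfLe hR₁X).toEquiv, hX,
        card_map_of_injective Y.subtype_injective, ← Nat.card_congr
          (subgroupOfEquivOfLe (hR₁S.trans hSY)).toEquiv] at e3
      have e4 := ((S : Subgroup G).subgroupOf Y).card_mul_index
      obtain ⟨d, hd⟩ := card_dvd_of_le
        (le_sup_left : (S : Subgroup G).subgroupOf Y ≤ (S : Subgroup G).subgroupOf Y ⊔ B)
      obtain ⟨b, hb⟩ := card_subgroup_dvd_card ((S : Subgroup G).subgroupOf Y ⊔ B)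
      have hodd : ¬ 2 ∣ ((S : Subgroup G).subgroupOf Y).index := (S.subtype hSY).not_dvd_index
      have hdd : d * b = ((S : Subgroup G).subgroupOf Y).index := by
        refine Nat.eq_of_mul_eq_mul_left
          (Nat.card_pos (α := (S : Subgroup G).subgroupOf Y)) ?_
        rw [e4, hb, hd, mul_assoc]
      set i := (R₁.subgroupOf X).index
      have hid : i = d := by
        have p1 : 0 < Nat.card (R₁.subgroupOf Y) := Nat.card_pos
        have p2 : 0 < Nat.card (R.subgroupOf Y) := Nat.card_pos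
        have p3 : 0 < Nat.card ((S : Subgroup G).subgroupOf Y) := Nat.card_pos
        have q1 : i * Nat.card (R.subgroupOf Y) = Nat.card B := by
          refine Nat.eq_of_mul_eq_mul_left p1 ?_
          rw [← mul_assoc, e3, e1]
        have q2 : d * Nat.card (R.subgroupOf Y) = Nat.card B := by
          refine Nat.eq_of_mul_eq_mul_left p3 ?_
          rw [← mul_assoc, ← hd, e2]
        exact Nat.eq_of_mul_eq_mul_right p2 (q1.trans q2.symm)
      rw [hid]
      exact fun h2 => hodd (hdd ▸ h2.mul_right b)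
    have hnX : ∀ g ∈ X, (n : G) * g * (n : G)⁻¹ ∈ X := by
      rintro _ ⟨y, hy, rfl⟩
      refine ⟨n * y * n⁻¹, ?_, rfl⟩
      rw [SetLike.mem_coe, mem_comap, map_mul, map_mul, map_inv]
      exact (mem_normalizer_iff.mp hn _).mp hy
    let Q : Sylow 2 X := IsPGroup.toSylow
      ((S.isPGroup'.to_le hR₁S).comap_of_injective X.subtype X.subtype_injective) hidx
    have hR₁n : R₁.map (MulAut.conj (n : G)).toMonoidHom ≤ X := by
      rintro _ ⟨g, hg, rfl⟩; exact hnX g (hR₁X hg)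
    obtain ⟨Q', hQ'⟩ := (((S.isPGroup'.to_le hR₁S).map (MulAut.conj (n : G)).toMonoidHom
      ).comap_of_injective X.subtype X.subtype_injective).exists_le_sylow
    obtain ⟨c, hc⟩ := MulAction.exists_smul_eq X Q' Q
    have hcn : ((c : G) * n) ∈ normalizer (R₁ : Set G) := by
      refine Coprime.mem_normalizer_of_map_conj (eq_of_le_of_card_ge ?_ ?_)
      · rintro _ ⟨g, hg, rfl⟩
        have hg' : (⟨(n : G) * g * (n : G)⁻¹, hR₁n (mem_map_of_mem _ hg)⟩ : X) ∈
            (Q' : Subgroup X) := hQ' (mem_map_of_mem (MulAut.conj (n : G)).toMonoidHom hg)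
        have h2 : c * (⟨(n : G) * g * (n : G)⁻¹, hR₁n (mem_map_of_mem _ hg)⟩ : X) * c⁻¹ ∈
            (Q : Subgroup X) := by
          rw [← hc]
          exact smul_mem_pointwise_smul _ (MulAut.conj c) _ hg'
        have h3 : (c : G) * ((n : G) * g * (n : G)⁻¹) * (c : G)⁻¹ ∈ R₁ := h2
        show (c : G) * n * g * ((c : G) * n)⁻¹ ∈ R₁
        rw [show (c : G) * n * g * ((c : G) * n)⁻¹ =
          (c : G) * ((n : G) * g * (n : G)⁻¹) * (c : G)⁻¹ by group]
        exact h3
      · rw [card_map_of_injective (MulAut.conj _).injective]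
    obtain ⟨c', hc', hce⟩ := c.2
    have hmem := hN₁ hcn
    have hle : (S : Subgroup G) ⊔ centralizer (R₁ : Set G) ≤
        (S : Subgroup G) ⊔ centralizer (R : Set G) :=
      sup_le_sup_left (centralizer_le hRR₁) _
    obtain ⟨t, ht, d, hd, htd⟩ := mem_sup_centralizer hSY (hle hmem)
    have hπn : π n = (π c')⁻¹ * π ⟨t, hSY ht⟩ * π ⟨d, hCY hd⟩ := by
      rw [← map_inv, ← map_mul, ← map_mul]
      congr 1
      apply Subtype.ext
      show (n : G) = (c' : G)⁻¹ * t * d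
      rw [mul_assoc, ← htd, show (c' : G) = c from hce]; group
    rw [hπn, (hker d _).mpr (mem_sup_right hd), mul_one]
    exact mul_mem (inv_mem (hHS hc')) (mem_map_of_mem π (mem_subgroupOf.mpr ht))
  -- `R ≠ S`
  have hRneS : R ≠ (S : Subgroup G) := by
    intro he
    refine hnot ?_
    rw [hY, he, h.norm _ h.ne_bot h.le (h.gen.trans (sup_le le_normalizer
      (centralizer_le_normalizer _))) fun a x hx => (h.invS a x).mpr hx]
    exact h.gen
  have hSb0 : Sb ≠ ⊥ := by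
    intro hb
    refine hRneS (le_antisymm hRS fun s hs => hSB s hs ?_)
    rw [← hker s (hSY hs), ← mem_bot, ← hb]
    exact mem_map_of_mem π (mem_subgroupOf.mpr hs)
  have hPN : normalizer ((P : Subgroup (Y ⧸ B)) : Set (Y ⧸ B)) ≤
      centralizer ((P : Subgroup (Y ⧸ B)) : Set (Y ⧸ B)) := by
    rw [hP]
    exact fun v hv => mem_centralizer_iff.mpr fun w hw => hSbcomm w hw v (hN Sb le_rfl hSb0 hv)
  set L := (MonoidHom.transferSylow P hPN).ker with hL
  have hcompl := MonoidHom.ker_transferSylow_isComplement' P hPN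
  have hLodd : ∀ l ∈ L, Odd (orderOf l) := fun l hl =>
    Nat.Coprime.odd_of_left ((Nat.prime_two.coprime_iff_not_dvd.mpr fun hd =>
      MonoidHom.not_dvd_card_ker_transferSylow P hPN (hd.trans (L.orderOf_dvd_natCard hl))))
  -- non-trivial elements of the image centralise no element of `L`
  have hfree : ∀ v ∈ Sb, v ≠ 1 → ∀ l ∈ L, v * l = l * v → l = 1 := by
    intro v hv hv1 l hl hvl
    have hlS : l ∈ Sb := by
      refine hN (zpowers v) (zpowers_le.mpr hv) (zpowers_ne_bot.mpr hv1) ?_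
      refine centralizer_le_normalizer _ (mem_centralizer_iff.mpr ?_)
      rintro _ ⟨i, rfl⟩
      exact (Commute.zpow_left hvl i).eq
    have := hcompl.disjoint.le_bot ⟨hl, hP ▸ hlS⟩
    rwa [mem_bot] at this
  haveI hLn : L.Normal := by rw [hL]; infer_instance
  obtain ⟨l, hl, hl1⟩ : ∃ l ∈ L, l ≠ 1 := by
    by_contra hall
    push Not at hall
    refine hnot fun g hg => ?_
    have hLbot : L = ⊥ := le_bot_iff.mp fun v hv => by rw [mem_bot]; exact hall v hv
    have htop : (P : Subgroup (Y ⧸ B)) = ⊤ := by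
      have := hcompl.sup_eq_top
      rwa [show (MonoidHom.transferSylow P hPN).ker = ⊥ from hLbot, bot_sup_eq] at this
    obtain ⟨t, ht, hte⟩ := hSbmem (π ⟨g, hg⟩) (hP ▸ htop ▸ mem_top _)
    have h1 : π ⟨t⁻¹ * g, mul_mem (inv_mem (hSY ht)) hg⟩ = 1 := by
      rw [show (⟨t⁻¹ * g, mul_mem (inv_mem (hSY ht)) hg⟩ : Y) = (⟨t, hSY ht⟩ : Y)⁻¹ * ⟨g, hg⟩
        from rfl, map_mul, map_inv, hte, inv_mul_cancel]
    have h2 : R ⊔ centralizer (R : Set G) ≤ (S : Subgroup G) ⊔ centralizer (R : Set G) :=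
      sup_le_sup_right hRS _
    simpa using mul_mem (mem_sup_left (T := centralizer (R : Set G)) ht) (h2 ((hker _ _).mp h1))
  obtain ⟨y, hy⟩ := QuotientGroup.mk'_surjective B l
  obtain ⟨x, hxy, hxodd, hxl⟩ := odd_lift π y (by rw [hπ, hy]; exact hLodd l hl)
  rw [hπ, hy] at hxl
  -- the image of `S` has exponent two
  have hexp : ∀ v ∈ Sb, v * v = 1 := by
    intro v hv
    obtain ⟨s, hs, rfl⟩ := hSbmem v hv
    by_contra hne
    set v := π ⟨s, hSY hs⟩
    set w := v * v * l * (v * v)⁻¹ * l⁻¹ with hw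
    have hwL : w ∈ L := mul_mem (hLn.conj_mem l hl _) (inv_mem hl)
    have hwne : w ≠ 1 := fun he => hl1 (hfree _ (mul_mem hv hv) hne l hl (by
      calc v * v * l = w * (l * (v * v)) := by rw [hw]; group
        _ = l * (v * v) := by rw [he, one_mul]))
    set y' : Y := ⟨s, hSY hs⟩ * ⟨s, hSY hs⟩ * x * (⟨s, hSY hs⟩ * ⟨s, hSY hs⟩)⁻¹ * x⁻¹ with hy'
    have hπy' : π y' = w := by
      rw [hy', hw, map_mul, map_mul, map_mul, map_inv, map_inv, map_mul, hπ, hxl]
    obtain ⟨x', hx'y, hx'odd, hx'w⟩ := odd_lift π y' (by rw [hπy']; exact hLodd w hwL)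
    have hT : (y' : G) ∈ T₀ ⊓ T₁ := by
      have e : (y' : G) = s * s * ((x : G) * (s * s)⁻¹ * (x : G)⁻¹) := by
        rw [hy']; push_cast; group
      have hx : (x : G) ∈ Y := x.2
      have h0 : (s * s)⁻¹ ∈ T₀ := inv_mem (mul_mem (hST₀ hs) (hST₀ hs))
      have h1 : (s * s)⁻¹ ∈ T₁ := inv_mem (hsq s hs)
      rw [e]
      refine ⟨mul_mem (mul_mem (hST₀ hs) (hST₀ hs))
        ⟨mul_mem (mul_mem hx h0.1) (inv_mem hx), htconj _ hx _ h0.1 h0.2⟩,
        mul_mem (hsq s hs) ⟨mul_mem (mul_mem hx h1.1) (inv_mem hx), fun z hz hz2 => ?_⟩⟩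
      have := h1.2 _ (conj_mem_zOf (inv_mem hx) hz) (by
        calc (x : G)⁻¹ * z * (x : G)⁻¹⁻¹ * ((x : G)⁻¹ * z * (x : G)⁻¹⁻¹)
            = (x : G)⁻¹ * (z * z) * x := by group
          _ = 1 := by rw [hz2]; group)
      calc (x : G) * (s * s)⁻¹ * (x : G)⁻¹ * z * ((x : G) * (s * s)⁻¹ * (x : G)⁻¹)⁻¹
          = (x : G) * ((s * s)⁻¹ * ((x : G)⁻¹ * z * (x : G)⁻¹⁻¹) * ((s * s)⁻¹)⁻¹) * (x : G)⁻¹ := by
            group
        _ = (x : G) * ((x : G)⁻¹ * z * (x : G)⁻¹⁻¹) * (x : G)⁻¹ := by rw [this]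
        _ = z := by group
    have hx'T : (x' : G) ∈ T₀ ⊓ T₁ := by
      obtain ⟨i, rfl⟩ := mem_zpowers_iff.mp hx'y
      rw [SubgroupClass.coe_zpow]
      exact zpow_mem hT i
    have hx'C : (x' : G) ∈ centralizer (R : Set G) := by
      refine mem_centralizer_of_trivial hRp x'.2 (by rwa [orderOf_coe]) (fun a ha r hr => ?_)
        hx'T.2.2
      exact ((zpowers_le.mpr hx'T.1) ha).2 r hr
    refine hwne ?_
    rw [← hπy', ← hx'w]
    exact (hker _ x'.2).mpr (mem_sup_right hx'C)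
  -- involutions of the image invert `L`
  have hinv : ∀ v ∈ Sb, v ≠ 1 → ∀ m ∈ L, v * m * v⁻¹ = m⁻¹ := by
    intro v hv hv1 m hm
    have hvinv : v⁻¹ = v := inv_eq_of_mul_eq_one_right (hexp v hv)
    let f : L → L := fun l => ⟨l.1⁻¹ * (v * l.1 * v⁻¹), mul_mem (inv_mem l.2) (hLn.conj_mem _ l.2 v)⟩
    have hf : Function.Injective f := by
      intro a b hab
      have e : a.1⁻¹ * (v * a.1 * v⁻¹) = b.1⁻¹ * (v * b.1 * v⁻¹) := congrArg Subtype.val hab
      have hfix : v * (b.1 * a.1⁻¹) = b.1 * a.1⁻¹ * v := by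
        calc v * (b.1 * a.1⁻¹) = b.1 * (b.1⁻¹ * (v * b.1 * v⁻¹)) * (v * a.1⁻¹) := by group
          _ = b.1 * (a.1⁻¹ * (v * a.1 * v⁻¹)) * (v * a.1⁻¹) := by rw [e]
          _ = _ := by group
      have := hfree v hv hv1 _ (mul_mem b.2 (inv_mem a.2)) hfix
      exact Subtype.ext (mul_inv_eq_one.mp this).symm
    obtain ⟨a, ha⟩ := (Finite.injective_iff_surjective.mp hf) ⟨m, hm⟩
    have e : a.1⁻¹ * (v * a.1 * v⁻¹) = m := congrArg Subtype.val ha
    rw [← e]
    calc v * (a.1⁻¹ * (v * a.1 * v⁻¹)) * v⁻¹ = v * a.1⁻¹ * v * a.1 * (v⁻¹ * v⁻¹) := by group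
      _ = v * a.1⁻¹ * v⁻¹ * a.1 := by
        rw [show v⁻¹ * v⁻¹ = 1 by rw [hvinv]; exact hexp v hv, mul_one, hvinv]
      _ = _ := by group
  have hlsq : l * l ≠ 1 := by
    intro he
    refine hl1 (orderOf_eq_one_iff.mp (Nat.eq_one_of_dvd_coprimes
      (Nat.coprime_two_left.mpr (hLodd l hl)) ?_ dvd_rfl))
    exact orderOf_dvd_of_pow_eq_one (by rw [pow_two]; exact he)
  have htwo : ∀ v ∈ Sb, ∀ w ∈ Sb, v ≠ 1 → w ≠ 1 → v * w = 1 := by
    intro v hv w hw hv1 hw1
    by_contra hne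
    refine hl1 (hfree (v * w) (mul_mem hv hw) hne l hl ?_)
    calc v * w * l = v * (w * l * w⁻¹) * v⁻¹ * (v * w) := by group
      _ = l * (v * w) := by rw [hinv w hw hw1 l hl, hinv v hv hv1 _ (inv_mem hl), inv_inv]
  have hπS : ∀ t (ht : t ∈ (S : Subgroup G)), π ⟨t, hSY ht⟩ = 1 ↔ t ∈ R := fun t ht =>
    ⟨fun he => hSB t ht ((hker _ _).mp he), fun hm => (hker _ _).mpr (mem_sup_left hm)⟩
  have hinvert : ∀ t ∈ (S : Subgroup G), t ∉ R →
      t * (x : G) * t⁻¹ * (x : G) ∈ R ⊔ centralizer (R : Set G) := by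
    intro t ht htR
    have htY := hSY ht
    rw [← hker _ (mul_mem (mul_mem (mul_mem htY x.2) (inv_mem htY)) x.2)]
    rw [show (⟨t * (x : G) * t⁻¹ * x, mul_mem (mul_mem (mul_mem htY x.2) (inv_mem htY)) x.2⟩ : Y) =
      ⟨t, htY⟩ * x * (⟨t, htY⟩)⁻¹ * x from rfl, map_mul, map_mul, map_mul, map_inv, hπ, hxl,
      hinv _ (mem_map_of_mem π (mem_subgroupOf.mpr ht)) (fun he => htR ((hπS t ht).mp he)) l hl,
      inv_mul_cancel]
  obtain ⟨s, hs, hsR⟩ := SetLike.exists_of_lt (lt_of_le_of_ne hRS hRneS)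
  refine ⟨(x : G), hRS, ⟨s, hs, hsR⟩, ?_, hC, x.2, by rwa [orderOf_coe], ?_, ?_, ?_⟩
  · intro a ha b hb haR hbR
    refine (hπS _ (mul_mem ha hb)).mp ?_
    rw [show (⟨a * b, hSY (mul_mem ha hb)⟩ : Y) = ⟨a, hSY ha⟩ * ⟨b, hSY hb⟩ from rfl, map_mul]
    exact htwo _ (mem_map_of_mem π (mem_subgroupOf.mpr ha)) _
      (mem_map_of_mem π (mem_subgroupOf.mpr hb)) (fun he => haR ((hπS a ha).mp he))
      (fun he => hbR ((hπS b hb).mp he))
  · intro hm
    have := (hker _ x.2).mpr (mem_sup_right hm)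
    rw [hπ, hxl] at this
    exact hl1 this
  · -- `x` acts trivially on `R / Z(R)`
    have hxT : (x : G) ∈ T₀ := by
      have h1 := hBT₀ (hinvert s hs hsR)
      have h2 : (x : G) * s⁻¹ * (x : G)⁻¹ ∈ T₀ :=
        ⟨mul_mem (mul_mem x.2 (inv_mem (hSY hs))) (inv_mem x.2),
          htconj _ x.2 _ (inv_mem (hSY hs)) (inv_mem (hST₀ hs)).2⟩
      have h3 : (x : G) * x ∈ T₀ := by
        have := mul_mem (mul_mem (inv_mem h2) (inv_mem (hST₀ hs))) h1
        convert this using 1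
        group
      obtain ⟨i, hi⟩ := exists_pow_eq_self_of_coprime (x := (x : G)) (n := 2)
        (by rw [orderOf_coe]; exact hxodd.coprime_two_left)
      rw [← hi, pow_two]
      exact pow_mem h3 i
    intro r hr
    obtain ⟨c, ⟨hcR, hcC⟩, hcr⟩ := Coprime.exists_centralizer_mem_of_comm_mem
      (A := zpowers (x : G)) (K := R) (zpowers_le.mpr x.2) (by
        rw [Nat.card_zpowers, orderOf_coe]
        obtain ⟨k, hk⟩ := hRp.exists_card_eq
        rw [hk]
        exact hxodd.coprime_two_right.pow_right k)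
      (Or.inl inferInstance) (N := zOf R) inf_le_left
      (fun y hy => mem_normalizer_iff.mpr fun z => ⟨fun hz => conj_mem_zOf (le_normalizer hy) hz,
        fun hz => by
          have := conj_mem_zOf (inv_mem (le_normalizer hy)) hz
          simpa [mul_assoc] using this⟩)
      (fun y hy => mem_normalizer_iff.mpr fun z => ⟨fun hz =>
          conj_mem_zOf (zpowers_le.mpr x.2 hy) hz,
        fun hz => by
          have := conj_mem_zOf (inv_mem (zpowers_le.mpr x.2 hy)) hz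
          simpa [mul_assoc] using this⟩) hr
      (fun a ha => (zpowers_le.mpr hxT ha).2 r hr)
    refine ⟨c, hcR, (mem_centralizer_iff.mp hcC _ (mem_zpowers _)).symm, ?_⟩
    simpa using inv_mem hcr
  · intro t ht htR z hz
    set b := t * (x : G) * t⁻¹ * (x : G) with hb
    have hbC : ∀ u ∈ zOf R, b * u * b⁻¹ = u := by
      intro u hu
      obtain ⟨r, hr, c, hc, hbe⟩ := mem_sup_centralizer le_normalizer (hinvert t ht htR)
      calc b * u * b⁻¹ = r * (c * u) * c⁻¹ * r⁻¹ := by rw [hb, hbe]; group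
        _ = r * (u * c) * c⁻¹ * r⁻¹ := by rw [mem_centralizer_iff.mp hc u hu.1]
        _ = (r * u) * r⁻¹ := by group
        _ = u := by rw [zOf_comm hu hr]; group
    calc t * ((x : G) * z * (x : G)⁻¹) * t⁻¹
        = b * ((x : G)⁻¹ * (t * z * t⁻¹) * (x : G)⁻¹⁻¹) * b⁻¹ := by rw [hb]; group
      _ = (x : G)⁻¹ * (t * z * t⁻¹) * (x : G)⁻¹⁻¹ :=
          hbC _ (conj_mem_zOf (inv_mem x.2) (conj_mem_zOf (hSY ht) hz))
      _ = _ := by group

/-- In the setting above `S` controls the automorphisms of all centric subgroups. -/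
theorem Setting.normalizer_le [Finite A] (h : Setting φ M S) {R : Subgroup G}
    (hRS : R ≤ (S : Subgroup G)) (hC : (S : Subgroup G) ⊓ centralizer (R : Set G) ≤ R) :
    normalizer (R : Set G) ≤ (S : Subgroup G) ⊔ centralizer (R : Set G) := by
  classical
  by_contra hb
  obtain ⟨R₀, hR₀, hmax⟩ := (Set.toFinite {R' : Subgroup G | Bad (S : Subgroup G) R'}).exists_maximalFor
    id _ ⟨R, hRS, hC, hb⟩
  obtain ⟨x, hx⟩ := h.exists_move hR₀ fun R₁ h₁ hle => le_antisymm (hmax h₁ hle) hle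
  have hSn : ∀ {R' : Subgroup G} {y : G}, Move (S : Subgroup G) R' y →
      (S : Subgroup G) ≤ normalizer (R' : Set G) := fun hy => h.le_normalizer_of_centric hy.le hy.centric
  letI act : MulAction A (Subgroup G) :=
    { smul := fun a H => H.map (φ a).toMonoidHom
      one_smul := fun H => by
        show H.map (φ 1).toMonoidHom = H
        rw [map_one]; exact H.map_id
      mul_smul := fun a b H => by
        show H.map (φ (a * b)).toMonoidHom = (H.map (φ b).toMonoidHom).map (φ a).toMonoidHom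
        rw [map_mul, Subgroup.map_map]; rfl }
  have hsmul : ∀ (a : A) (H : Subgroup G), a • H = H.map (φ a).toMonoidHom := fun _ _ => rfl
  set O := MulAction.orbit A R₀ with hO
  have hmove : ∀ Q ∈ O, ∃ y, Move (S : Subgroup G) Q y := by
    rintro _ ⟨a, rfl⟩
    exact ⟨φ a x, hx.map (φ a) (h.invS a)⟩
  have hadj : ∀ Q ∈ O, ∀ Q' ∈ O, Adj (S : Subgroup G) Q Q' → Adj (S : Subgroup G) Q' Q := by
    intro Q hQ Q' hQ' ha
    obtain ⟨y', hy'⟩ := hmove Q' hQ'
    obtain ⟨u, hu, hu'⟩ := adj_symm S.isPGroup' hy' ha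
    exact ⟨y', u, hy', hu, hu'⟩
  by_cases hex : ∃ Q ∈ O, Adj (S : Subgroup G) R₀ Q
  · -- every member of the orbit has exactly one neighbour
    have hall : ∀ Q : O, ∃ Q' : O, Adj (S : Subgroup G) Q Q' := by
      rintro ⟨_, b, rfl⟩
      obtain ⟨_, ⟨a, rfl⟩, hQ⟩ := hex
      exact ⟨⟨b • a • R₀, b * a, mul_smul b a R₀⟩, hQ.map (φ b) (h.invS b)⟩
    choose σ hσ using hall
    have hσσ : ∀ Q : O, σ (σ Q) = Q := by
      intro Q
      obtain ⟨z, hz⟩ := hmove _ (σ Q).2
      obtain ⟨y₁, hy₁⟩ := hmove _ (σ (σ Q)).2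
      obtain ⟨y₂, hy₂⟩ := hmove _ Q.2
      exact Subtype.ext (adj_unique S.isPGroup' h.cl hz hy₁ hy₂ (hSn hz) (hSn hy₁) (hSn hy₂)
        (hσ (σ Q)) (hadj _ Q.2 _ (σ Q).2 (hσ Q)))
    have hσne : ∀ Q : O, σ Q ≠ Q := by
      intro Q he
      have := hσ Q
      rw [he] at this
      obtain ⟨y, w, hy, hw, hwn⟩ := this
      exact hwn (hw.mem hy)
    have := Fintype.ofFinite O
    have heven : 2 ∣ Nat.card O := by
      rw [Nat.card_eq_fintype_card, ← ZMod.natCast_eq_zero_iff, Fintype.card_eq_sum_ones,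
        Nat.cast_sum]
      exact Finset.sum_involution (fun Q _ => σ Q) (fun Q _ => by decide)
        (fun Q _ _ => hσne Q) (fun Q _ => Finset.mem_univ _) (fun Q _ => hσσ Q)
    have hdvd : Nat.card O ∣ Nat.card A := by
      rw [Nat.card_congr (MulAction.orbitEquivQuotientStabilizer A R₀)]
      exact card_quotient_dvd_card _
    exact Nat.not_even_iff_odd.mpr h.oddA (even_iff_two_dvd.mpr (heven.trans hdvd))
  · -- `x` normalises the intersection of the orbit
    push Not at hex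
    set X : Subgroup G := ⨅ Q : O, (Q : Subgroup G) with hX
    have hR₀O : R₀ ∈ O := MulAction.mem_orbit_self R₀
    have hXR₀ : X ≤ R₀ := iInf_le_of_le (⟨R₀, hR₀O⟩ : O) le_rfl
    have hXne : X ≠ ⊥ := by
      haveI : Nontrivial (S : Subgroup G) := (nontrivial_iff_ne_bot _).mpr h.ne_bot
      haveI : Nontrivial (center (S : Subgroup G)) := S.isPGroup'.center_nontrivial
      obtain ⟨⟨⟨z, hzS⟩, hz⟩, hz1⟩ := exists_ne (1 : center (S : Subgroup G))
      intro hb
      refine hz1 (Subtype.ext (Subtype.ext ?_))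
      show z = 1
      rw [← mem_bot, ← hb, hX, mem_iInf]
      intro Q
      obtain ⟨y, hy⟩ := hmove _ Q.2
      exact hy.centric ⟨hzS, mem_centralizer_iff.mpr fun q hq =>
        congrArg Subtype.val (mem_center_iff.mp hz ⟨q, hy.le hq⟩)⟩
    have hMX : M ≤ normalizer (X : Set G) := by
      intro m hm
      refine Coprime.mem_normalizer_of_map_conj (eq_of_le_of_card_ge ?_ ?_)
      · rintro _ ⟨g, hg, rfl⟩
        rw [hX, mem_iInf]
        intro Q
        obtain ⟨y, hy⟩ := hmove _ Q.2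
        exact (mem_normalizer_iff.mp (h.M_le hy.le hy.centric hm) g).mp
          (show g ∈ (Q : Subgroup G) from iInf_le (fun Q : O => (Q : Subgroup G)) Q hg)
      · rw [card_map_of_injective (MulAut.conj _).injective]
    have hXinv : ∀ a : A, ∀ g ∈ X, φ a g ∈ X := by
      intro a g hg
      rw [hX, mem_iInf]
      intro Q
      obtain ⟨b, hb'⟩ := Q.2
      have hmem : g ∈ ((a⁻¹ * b) • R₀ : Subgroup G) := iInf_le (fun Q : O => (Q : Subgroup G))
        ⟨(a⁻¹ * b) • R₀, MulAction.mem_orbit _ _⟩ hg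
      have h2 : φ a g ∈ a • ((a⁻¹ * b) • R₀ : Subgroup G) := mem_map_of_mem _ hmem
      rw [smul_smul, mul_inv_cancel_left] at h2
      exact hb' ▸ h2
    have hXM : X ≤ M := hXR₀.trans (hx.le.trans h.le)
    have hxX : x ∈ normalizer (X : Set G) := by
      refine Coprime.mem_normalizer_of_map_conj (eq_of_le_of_card_ge ?_ ?_)
      · rintro _ ⟨r, hr, rfl⟩
        show x * r * x⁻¹ ∈ X
        rw [hX, mem_iInf]
        intro Q
        have hrR := hXR₀ hr
        obtain ⟨c, hc, hcx, hz⟩ := hx.split r hrR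
        have hd : delta x (c⁻¹ * r) ∈ (Q : Subgroup G) := by
          by_contra hn
          exact hex Q Q.2 ⟨x, _, hx, ⟨_, hz, rfl⟩, hn⟩
        have hdc := zOf_comm (delta_mem_zOf hx hz) hc
        have e : x * r * x⁻¹ = delta x (c⁻¹ * r) * r := by
          calc x * r * x⁻¹ = x * c * (c⁻¹ * r) * x⁻¹ := by group
            _ = c * x * (c⁻¹ * r) * x⁻¹ := by rw [hcx]
            _ = (c * delta x (c⁻¹ * r)) * (c⁻¹ * r) := by unfold delta; group
            _ = (delta x (c⁻¹ * r) * c) * (c⁻¹ * r) := by rw [hdc]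
            _ = _ := by group
        rw [e]
        exact mul_mem hd (iInf_le (fun Q : O => (Q : Subgroup G)) Q hr)
      · rw [card_map_of_injective (MulAut.conj _).injective]
    rw [h.norm X hXne hXM hMX hXinv] at hxX
    exact hx.moves (mem_centralizer_iff.mpr fun r hr => h.odd_comm x hxX hx.odd r (hx.le hr))

end Cfsg.Agent.H76.ClassTwoMove
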