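import Mathlib

/-!
A `2`-group `S` of class two, subgroups `R` of index two and odd elements `x` normalising `R`.

`Adj R R'` says that `[Z(R), x]` is not contained in `R'`.  The relation is symmetric and every `R`
has at most one neighbour.
-/

set_option autoImplicit false

namespace Cfsg.Agent.H76.ClassTwoMove

open Subgroup

variable {G : Type*} [Group G]

/-- `[x, z]`. -/
def delta (x z : G) : G := x * z * x⁻¹ * z⁻¹

/-- The centre of `R`, as a subgroup of `G`. -/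
def zOf (R : Subgroup G) : Subgroup G := R ⊓ centralizer (R : Set G)

/-- The elements `[x, z]`, `z ∈ Z(R)`. -/
def InW (R : Subgroup G) (x w : G) : Prop := ∃ z ∈ zOf R, w = delta x z

/-- An odd element `x` inducing a non-trivial automorphism of the index two subgroup `R` of `S`,
inverted by the elements of `S` outside `R` on `Z(R)`. -/
structure Move (S R : Subgroup G) (x : G) : Prop where
  le : R ≤ S
  nontriv : ∃ s ∈ S, s ∉ R
  index_two : ∀ a ∈ S, ∀ b ∈ S, a ∉ R → b ∉ R → a * b ∈ R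
  centric : S ⊓ centralizer (R : Set G) ≤ R
  normalizes : x ∈ normalizer (R : Set G)
  odd : Odd (orderOf x)
  moves : x ∉ centralizer (R : Set G)
  split : ∀ r ∈ R, ∃ c ∈ R, c * x = x * c ∧ c⁻¹ * r ∈ zOf R
  inverts : ∀ t ∈ S, t ∉ R → ∀ z ∈ zOf R, t * (x * z * x⁻¹) * t⁻¹ = x⁻¹ * (t * z * t⁻¹) * x

variable {S R : Subgroup G} {x : G}

theorem zOf_comm {z r : G} (hz : z ∈ zOf R) (hr : r ∈ R) : r * z = z * r :=
  mem_centralizer_iff.mp hz.2 r hr

theorem conj_mem_zOf {y z : G} (hy : y ∈ normalizer (R : Set G)) (hz : z ∈ zOf R) :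
    y * z * y⁻¹ ∈ zOf R := by
  refine ⟨(mem_normalizer_iff.mp hy z).mp hz.1, mem_centralizer_iff.mpr fun r hr => ?_⟩
  have h := zOf_comm hz ((mem_normalizer_iff.mp (inv_mem hy) r).mp hr)
  calc r * (y * z * y⁻¹) = y * (y⁻¹ * r * y⁻¹⁻¹ * z) * y⁻¹ := by group
    _ = y * (z * (y⁻¹ * r * y⁻¹⁻¹)) * y⁻¹ := by rw [h]
    _ = _ := by group

theorem delta_mem_zOf (h : Move S R x) {z : G} (hz : z ∈ zOf R) : delta x z ∈ zOf R :=
  mul_mem (conj_mem_zOf h.normalizes hz) (inv_mem hz)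

theorem delta_mul (h : Move S R x) {a b : G} (ha : a ∈ zOf R) (hb : b ∈ zOf R) :
    delta x (a * b) = delta x a * delta x b := by
  have h1 := zOf_comm (mul_mem (conj_mem_zOf h.normalizes hb) (inv_mem hb)) (inv_mem ha).1
  unfold delta
  calc x * (a * b) * x⁻¹ * (a * b)⁻¹ = x * a * x⁻¹ * ((x * b * x⁻¹ * b⁻¹) * a⁻¹) := by group
    _ = x * a * x⁻¹ * (a⁻¹ * (x * b * x⁻¹ * b⁻¹)) := by rw [h1]
    _ = _ := by group

theorem delta_one : delta x 1 = 1 := by unfold delta; group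

theorem InW.mem_zOf (h : Move S R x) {w : G} (hw : InW R x w) : w ∈ zOf R := by
  obtain ⟨z, hz, rfl⟩ := hw; exact delta_mem_zOf h hz

theorem InW.mem (h : Move S R x) {w : G} (hw : InW R x w) : w ∈ R := (hw.mem_zOf h).1

theorem InW.mul (h : Move S R x) {a b : G} (ha : InW R x a) (hb : InW R x b) :
    InW R x (a * b) := by
  obtain ⟨y, hy, rfl⟩ := ha
  obtain ⟨z, hz, rfl⟩ := hb
  exact ⟨y * z, mul_mem hy hz, (delta_mul h hy hz).symm⟩

theorem InW.inv (h : Move S R x) {a : G} (ha : InW R x a) : InW R x a⁻¹ := by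
  obtain ⟨y, hy, rfl⟩ := ha
  refine ⟨y⁻¹, inv_mem hy, inv_eq_of_mul_eq_one_right ?_⟩
  rw [← delta_mul h hy (inv_mem hy), mul_inv_cancel, delta_one]

theorem InW.conj_x (h : Move S R x) {a : G} (ha : InW R x a) : InW R x (x * a * x⁻¹) := by
  obtain ⟨y, hy, rfl⟩ := ha
  exact ⟨x * y * x⁻¹, conj_mem_zOf h.normalizes hy, by unfold delta; group⟩

theorem conj_pow_of_fixed {w z : G} (hw : x * z * x⁻¹ = w * z) (hfix : x * w * x⁻¹ = w) (i : ℕ) :
    x ^ i * z * (x ^ i)⁻¹ = w ^ i * z := by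
  induction i with
  | zero => simp
  | succ i ih =>
    have hwi : x * w ^ i * x⁻¹ = w ^ i := by rw [← conj_pow, hfix]
    calc x ^ (i + 1) * z * (x ^ (i + 1))⁻¹ = x * (x ^ i * z * (x ^ i)⁻¹) * x⁻¹ := by
          rw [pow_succ']; group
      _ = (x * w ^ i * x⁻¹) * (x * z * x⁻¹) := by rw [ih]; group
      _ = w ^ i * w * z := by rw [hwi, hw]; group
      _ = w ^ (i + 1) * z := by rw [pow_succ]

theorem InW.eq_one_of_fixed (h : Move S R x) (hS : IsPGroup 2 S) {w : G} (hw : InW R x w)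
    (hfix : x * w * x⁻¹ = w) : w = 1 := by
  have hwS : w ∈ S := h.le (hw.mem h)
  obtain ⟨z, hz, rfl⟩ := hw
  have hi := conj_pow_of_fixed (x := x) (w := delta x z) (z := z) (by unfold delta; group) hfix
    (orderOf x)
  rw [pow_orderOf_eq_one, one_mul, inv_one, mul_one, eq_comm, mul_eq_right] at hi
  obtain ⟨k, hk'⟩ := hS ⟨_, hwS⟩
  have hk : delta x z ^ 2 ^ k = 1 := congrArg Subtype.val hk'
  refine orderOf_eq_one_iff.mp (Nat.eq_one_of_dvd_coprimes ?_ (orderOf_dvd_of_pow_eq_one hk)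
    (orderOf_dvd_of_pow_eq_one hi))
  exact (h.odd.coprime_two_left).pow_left k

theorem commutator_fixed (h : Move S R x) {a b : G} (ha : a ∈ R) (hb : b ∈ R) :
    x * (a * b * a⁻¹ * b⁻¹) * x⁻¹ = a * b * a⁻¹ * b⁻¹ := by
  obtain ⟨c, hc, hcx, hz⟩ := h.split a ha
  obtain ⟨d, hd, hdx, hy⟩ := h.split b hb
  obtain ⟨z, hz', rfl⟩ : ∃ z, z ∈ zOf R ∧ a = c * z := ⟨_, hz, by group⟩
  obtain ⟨y, hy', rfl⟩ : ∃ y, y ∈ zOf R ∧ b = d * y := ⟨_, hy, by group⟩
  have e : c * z * (d * y) * (c * z)⁻¹ * (d * y)⁻¹ = c * d * c⁻¹ * d⁻¹ := by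
    calc c * z * (d * y) * (c * z)⁻¹ * (d * y)⁻¹
        = c * (z * (d * y) * z⁻¹) * c⁻¹ * (d * y)⁻¹ := by group
      _ = c * d * (y * c⁻¹) * (d * y)⁻¹ := by
          rw [← zOf_comm hz' (mul_mem hd hy'.1)]; group
      _ = c * d * (c⁻¹ * y) * (d * y)⁻¹ := by rw [zOf_comm hy' (inv_mem hc)]
      _ = _ := by group
  rw [e]
  have hc' : x * c * x⁻¹ = c := by rw [← hcx]; group
  have hd' : x * d * x⁻¹ = d := by rw [← hdx]; group
  calc x * (c * d * c⁻¹ * d⁻¹) * x⁻¹
      = (x * c * x⁻¹) * (x * d * x⁻¹) * (x * c * x⁻¹)⁻¹ * (x * d * x⁻¹)⁻¹ := by group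
    _ = _ := by rw [hc', hd']

theorem exists_delta_ne_one (h : Move S R x) : ∃ z ∈ zOf R, delta x z ≠ 1 := by
  by_contra hall
  push Not at hall
  refine h.moves (mem_centralizer_iff.mpr fun r hr => ?_)
  obtain ⟨c, -, hcx, hz⟩ := h.split r hr
  have hz' : x * (c⁻¹ * r) = c⁻¹ * r * x := by
    have := hall _ hz
    unfold delta at this
    calc x * (c⁻¹ * r) = x * (c⁻¹ * r) * x⁻¹ * (c⁻¹ * r)⁻¹ * (c⁻¹ * r * x) := by group
      _ = _ := by rw [this, one_mul]
  calc r * x = c * (c⁻¹ * r * x) := by group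
    _ = c * (x * (c⁻¹ * r)) := by rw [hz']
    _ = c * x * (c⁻¹ * r) := by group
    _ = x * c * (c⁻¹ * r) := by rw [hcx]
    _ = x * r := by group

theorem InW.conj_t (h : Move S R x) (hnS : S ≤ normalizer (R : Set G)) {t w : G} (ht : t ∈ S)
    (htR : t ∉ R) (hw : InW R x w) : InW R x (t * w * t⁻¹) := by
  obtain ⟨z, hz, rfl⟩ := hw
  have hu := conj_mem_zOf (hnS ht) hz
  have hu' := conj_mem_zOf (inv_mem h.normalizes) hu
  refine ⟨(x⁻¹ * (t * z * t⁻¹) * x⁻¹⁻¹)⁻¹, inv_mem hu', ?_⟩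
  have e := h.inverts t ht htR z hz
  have hc : x⁻¹ * (t * z * t⁻¹) * x * (t * z * t⁻¹)⁻¹ =
      (t * z * t⁻¹)⁻¹ * (x⁻¹ * (t * z * t⁻¹) * x⁻¹⁻¹) := by
    rw [inv_inv]
    exact zOf_comm (by simpa using inv_mem hu) (by simpa using hu'.1)
  calc t * delta x z * t⁻¹ = t * (x * z * x⁻¹) * t⁻¹ * (t * z * t⁻¹)⁻¹ := by unfold delta; group
    _ = x⁻¹ * (t * z * t⁻¹) * x * (t * z * t⁻¹)⁻¹ := by rw [e]
    _ = _ := by rw [hc]; unfold delta; group

theorem exists_not_commute (h : Move S R x) (hS : IsPGroup 2 S) {t : G} (ht : t ∈ S)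
    (htR : t ∉ R) : ∃ w, InW R x w ∧ t * w ≠ w * t := by
  by_contra hall
  push Not at hall
  obtain ⟨z, hz, hne⟩ := exists_delta_ne_one h
  refine hne (InW.eq_one_of_fixed h hS ⟨z, hz, rfl⟩ ?_)
  set v := delta x z
  have hv : InW R x v := ⟨z, hz, rfl⟩
  have h1 : t * v * t⁻¹ = v := by rw [hall v hv]; group
  have h2 : t * (x * v * x⁻¹) * t⁻¹ = x * v * x⁻¹ := by rw [hall _ (hv.conj_x h)]; group
  have h3 : x * v * x⁻¹ = x⁻¹ * v * x := by
    have e := h.inverts t ht htR v (hv.mem_zOf h)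
    rwa [h1, h2] at e
  have h4 : Commute (x ^ 2) v := by
    rw [commute_iff_eq, pow_two]
    calc x * x * v = x * (x * v * x⁻¹) * x := by group
      _ = x * (x⁻¹ * v * x) * x := by rw [h3]
      _ = v * (x * x) := by group
  obtain ⟨i, hi⟩ := exists_pow_eq_self_of_coprime (x := x) (n := 2) h.odd.coprime_two_left
  have := (h4.pow_left i).eq
  rw [hi] at this
  rw [this]; group

section

variable (hS : IsPGroup 2 S)
  (hcl : ∀ a ∈ S, ∀ b ∈ S, ∀ c ∈ S, c * (a * b * a⁻¹ * b⁻¹) = a * b * a⁻¹ * b⁻¹ * c)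
  (h : Move S R x) (hnS : S ≤ normalizer (R : Set G))

include hcl h

theorem conj_eq_of_not_mem {t u w : G} (ht : t ∈ S) (hu : u ∈ S) (htR : t ∉ R) (huR : u ∉ R)
    (hw : InW R x w) : t * w * t⁻¹ = u * w * u⁻¹ := by
  have huinv : u⁻¹ ∉ R := fun hm => huR (inv_inv u ▸ inv_mem hm)
  have hm := h.index_two u⁻¹ (inv_mem hu) t ht huinv htR
  have := zOf_comm (hw.mem_zOf h) hm
  calc t * w * t⁻¹ = u * (u⁻¹ * t * w) * (u⁻¹ * t)⁻¹ * u⁻¹ := by group
    _ = u * (w * (u⁻¹ * t)) * (u⁻¹ * t)⁻¹ * u⁻¹ := by rw [this]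
    _ = _ := by group

include hS hnS

/-- All elements `[x, z]` are involutions. -/
theorem InW.sq_eq_one {w : G} (hw : InW R x w) : w * w = 1 := by
  obtain ⟨t, ht, htR⟩ := h.nontriv
  -- squares of elements of `W` are fixed by `t`
  have key : ∀ v, InW R x v → t * (v * v) * t⁻¹ = v * v := by
    intro v hv
    set c := t * v * t⁻¹ * v⁻¹ with hc
    have hvS := h.le (hv.mem h)
    have hctv : Commute c t := (hcl t ht v hvS t ht).symm
    have hcv : Commute c v := (hcl t ht v hvS v hvS).symm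
    have ht2 := zOf_comm (hv.mem_zOf h) (h.index_two t ht t ht htR htR)
    have h1 : c * c = 1 := by
      have e1 : t * v * t⁻¹ = c * v := by rw [hc]; group
      have e2 : t * (t * v * t⁻¹) * t⁻¹ = v := by
        calc t * (t * v * t⁻¹) * t⁻¹ = t * t * v * (t * t)⁻¹ := by group
          _ = v * (t * t) * (t * t)⁻¹ := by rw [ht2]
          _ = v := by group
      rw [e1, show t * (c * v) * t⁻¹ = (t * c * t⁻¹) * (t * v * t⁻¹) by group, e1,
        ← hctv.eq, show c * t * t⁻¹ * (c * v) = c * c * v by group] at e2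
      exact mul_eq_right.mp e2
    calc t * (v * v) * t⁻¹ = (t * v * t⁻¹) * (t * v * t⁻¹) := by group
      _ = (c * v) * (c * v) := by rw [hc]; group
      _ = c * c * (v * v) := by rw [mul_assoc c v, ← mul_assoc v c, ← hcv.eq]; group
      _ = v * v := by rw [h1, one_mul]
  refine (hw.mul h hw).eq_one_of_fixed h hS ?_
  have h1 := key w hw
  have h2 := key _ (hw.conj_x h)
  have h3 : x * (w * w) * x⁻¹ = x⁻¹ * (w * w) * x := by
    have e := h.inverts t ht htR _ ((hw.mul h hw).mem_zOf h)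
    rw [h1, show x * (w * w) * x⁻¹ = x * w * x⁻¹ * (x * w * x⁻¹) by group, h2] at e
    rw [← e]; group
  have h4 : Commute (x ^ 2) (w * w) := by
    rw [commute_iff_eq, pow_two]
    calc x * x * (w * w) = x * (x * (w * w) * x⁻¹) * x := by group
      _ = x * (x⁻¹ * (w * w) * x) * x := by rw [h3]
      _ = (w * w) * (x * x) := by group
  obtain ⟨i, hi⟩ := exists_pow_eq_self_of_coprime (x := x) (n := 2) h.odd.coprime_two_left
  have := (h4.pow_left i).eq
  rw [hi] at this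
  rw [this]; group

end

/-- `[Z(R), x]` is not contained in `R'`. -/
def Adj (S R R' : Subgroup G) : Prop := ∃ x w : G, Move S R x ∧ InW R x w ∧ w ∉ R'

variable (hS : IsPGroup 2 S)
  (hcl : ∀ a ∈ S, ∀ b ∈ S, ∀ c ∈ S, c * (a * b * a⁻¹ * b⁻¹) = a * b * a⁻¹ * b⁻¹ * c)

include hS

theorem adj_symm {R' : Subgroup G} {y : G} (h' : Move S R' y) (hadj : Adj S R R') :
    ∃ u, InW R' y u ∧ u ∉ R := by
  obtain ⟨x, w, h, hw, hwR'⟩ := hadj
  obtain ⟨u, hu, hne⟩ := exists_not_commute h' hS (h.le (hw.mem h)) hwR'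
  refine ⟨u, hu, fun huR => hne ?_⟩
  exact (zOf_comm (hw.mem_zOf h) huR).symm

include hcl

/-- A subgroup has at most one neighbour. -/
theorem adj_unique {R₁ R₂ : Subgroup G} {x y₁ y₂ : G} (h : Move S R x) (h₁ : Move S R₁ y₁)
    (h₂ : Move S R₂ y₂) (hn : S ≤ normalizer (R : Set G))
    (hn₁ : S ≤ normalizer (R₁ : Set G)) (hn₂ : S ≤ normalizer (R₂ : Set G))
    (ha₁ : Adj S R R₁) (ha₂ : Adj S R R₂) : R₁ = R₂ := by
  obtain ⟨p₁, hp₁, hp₁R⟩ := adj_symm hS h₁ ha₁
  obtain ⟨p₂, hp₂, hp₂R⟩ := adj_symm hS h₂ ha₂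
  obtain ⟨w₁, hw₁, hw₁n⟩ := adj_symm hS h ⟨y₁, p₁, h₁, hp₁, hp₁R⟩
  obtain ⟨w₂, hw₂, hw₂n⟩ := adj_symm hS h ⟨y₂, p₂, h₂, hp₂, hp₂R⟩
  -- `w` outside both
  obtain ⟨w, hw, hwR₁, hwR₂⟩ : ∃ w, InW R x w ∧ w ∉ R₁ ∧ w ∉ R₂ := by
    by_cases h12 : w₁ ∉ R₂
    · exact ⟨w₁, hw₁, hw₁n, h12⟩
    by_cases h21 : w₂ ∉ R₁
    · exact ⟨w₂, hw₂, h21, hw₂n⟩
    rw [not_not] at h12 h21
    refine ⟨w₁ * w₂, hw₁.mul h hw₂, fun hm => hw₁n ?_, fun hm => hw₂n ?_⟩
    · simpa [mul_assoc] using mul_mem hm (inv_mem h21)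
    · simpa [← mul_assoc] using mul_mem (inv_mem h12) hm
  have hwS := h.le (hw.mem h)
  obtain ⟨u, hu, hune⟩ := exists_not_commute h₁ hS hwS hwR₁
  obtain ⟨v, hv, hvne⟩ := exists_not_commute h₂ hS hwS hwR₂
  have huR : u ∉ R := fun hm => hune (zOf_comm (hw.mem_zOf h) hm).symm
  have hvR : v ∉ R := fun hm => hvne (zOf_comm (hw.mem_zOf h) hm).symm
  have huS := h₁.le (hu.mem h₁)
  have hvS := h₂.le (hv.mem h₂)
  set z := u * w * u⁻¹ * w⁻¹ with hz
  have hzW : InW R x z := (hw.conj_t h hn huS huR).mul h (hw.inv h)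
  have hzne : z ≠ 1 := fun he => hune (by
    calc w * u = z⁻¹ * (u * w) := by rw [hz]; group
      _ = u * w := by rw [he, inv_one, one_mul])
  have hvz : v * w * v⁻¹ * w⁻¹ = z := by rw [conj_eq_of_not_mem hcl h hvS huS hvR huR hw]
  have hzc : ∀ g ∈ S, g * z = z * g := fun g hg => hcl u huS w hwS g hg
  have hw2 : w * w = 1 := InW.sq_eq_one hS hcl h hn hw
  have hu2 : u * u = 1 := InW.sq_eq_one hS hcl h₁ hn₁ hu
  have hv2 : v * v = 1 := InW.sq_eq_one hS hcl h₂ hn₂ hv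
  have hwinv : w⁻¹ = w := inv_eq_of_mul_eq_one_right hw2
  have huinv : u⁻¹ = u := inv_eq_of_mul_eq_one_right hu2
  have huv : u * v ∈ R := h.index_two u huS v hvS huR hvR
  -- `v = u w^a k` with `k ∈ R ∩ R₁`
  have hk : ∀ k ∈ R, k ∈ R₁ → (v = u * k ∨ v = u * w * k) → ∀ κ ∈ R, κ ∈ R₁ → κ * k = k * κ := by
    intro k hkR hkR₁ hve κ hκR hκR₁
    have hκu : κ * u = u * κ := zOf_comm (hu.mem_zOf h₁) hκR₁
    have hκw : κ * w = w * κ := zOf_comm (hw.mem_zOf h) hκR
    set c := κ * k * κ⁻¹ * k⁻¹ with hc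
    have hκv : κ * v * κ⁻¹ * v⁻¹ = c := by
      rcases hve with e | e <;> rw [e]
      · calc κ * (u * k) * κ⁻¹ * (u * k)⁻¹ = (κ * u) * k * κ⁻¹ * k⁻¹ * u⁻¹ := by group
          _ = u * c * u⁻¹ := by rw [hκu, hc]; group
          _ = c := by rw [hc, hcl κ (h.le hκR) k (h.le hkR) u huS]; group
      · calc κ * (u * w * k) * κ⁻¹ * (u * w * k)⁻¹
            = (κ * u) * w * k * κ⁻¹ * k⁻¹ * (u * w)⁻¹ := by group
          _ = u * (κ * w) * k * κ⁻¹ * k⁻¹ * (u * w)⁻¹ := by rw [hκu]; group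
          _ = (u * w) * c * (u * w)⁻¹ := by rw [hκw, hc]; group
          _ = c := by rw [hc, hcl κ (h.le hκR) k (h.le hkR) _ (mul_mem huS hwS)]; group
    have hcW : InW R x c := by
      by_cases hκR₂ : κ ∈ R₂
      · refine ⟨1, one_mem _, ?_⟩
        rw [delta_one, ← hκv, zOf_comm (hv.mem_zOf h₂) hκR₂]; group
      · have e := conj_eq_of_not_mem hcl h₂ (h.le hκR) hwS hκR₂ hwR₂ hv
        have hcz : c = z⁻¹ := by
          rw [← hκv, e, ← hvz]
          calc w * v * w⁻¹ * v⁻¹ = (v * w * v⁻¹ * w⁻¹)⁻¹ := by group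
            _ = _ := rfl
        exact hcz ▸ hzW.inv h
    have := hcW.eq_one_of_fixed h hS (commutator_fixed h hκR hkR)
    calc κ * k = c * (k * κ) := by rw [hc]; group
      _ = k * κ := by rw [this, one_mul]
  by_cases hcase : u⁻¹ * v ∈ R₁
  · -- `v = u k`
    set k := u⁻¹ * v with hkdef
    have hkR : k ∈ R := by rw [hkdef, huinv]; exact huv
    have hve : v = u * k := by rw [hkdef]; group
    have hkc := hk k hkR hcase (Or.inl hve)
    -- both equal the centraliser of `v`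
    have h12 : ∀ r ∈ R₁, r * v = v * r := by
      intro r hr
      have hru : r * u = u * r := zOf_comm (hu.mem_zOf h₁) hr
      have hrk : r * k = k * r := by
        by_cases hrR : r ∈ R
        · exact hkc r hrR hr
        · have hru' : u * r ∈ R := h.index_two u huS r (h₁.le hr) huR hrR
          have h1 := hkc (u * r) hru' (mul_mem (hu.mem h₁) hr)
          have h2 : k * u = u * k := zOf_comm (hu.mem_zOf h₁) hcase
          calc r * k = u⁻¹ * (u * r * k) := by group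
            _ = u⁻¹ * (k * u * r) := by rw [h1]; group
            _ = u⁻¹ * (u * k * r) := by rw [h2]
            _ = k * r := by group
      rw [hve]
      calc r * (u * k) = (r * u) * k := by group
        _ = u * (r * k) := by rw [hru]; group
        _ = u * k * r := by rw [hrk]; group
    refine le_antisymm (fun r hr => ?_) (fun r hr => ?_)
    · by_contra hn'
      obtain e := conj_eq_of_not_mem hcl h₂ (h₁.le hr) hwS hn' hwR₂ hv
      refine hvne ?_
      rw [h12 r hr] at e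
      calc w * v = w * v * w⁻¹ * w := by group
        _ = v * r * r⁻¹ * w := by rw [e]
        _ = v * w := by group
    · by_contra hn'
      obtain e := conj_eq_of_not_mem hcl h₁ (h₂.le hr) hwS hn' hwR₁ hu
      refine hune ?_
      have hrv : r * v = v * r := zOf_comm (hv.mem_zOf h₂) hr
      have hrk : r * k = k * r := by
        -- write `r = w r'` with `r' ∈ R₁`
        have hr' : w * r ∈ R₁ := h₁.index_two w hwS r (h₂.le hr) hwR₁ hn'
        have hwk : w * k = k * w := (zOf_comm (hw.mem_zOf h) hkR).symm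
        have h1 : w * r * k = k * (w * r) := by
          have := h12 (w * r) hr'
          have h2 : w * r * u = u * (w * r) := zOf_comm (hu.mem_zOf h₁) hr'
          rw [hve] at this
          calc w * r * k = u⁻¹ * (w * r * u * k) := by rw [h2]; group
            _ = u⁻¹ * (u * k * (w * r)) := by rw [← this]; group
            _ = k * (w * r) := by group
        calc r * k = w⁻¹ * (w * r * k) := by group
          _ = w⁻¹ * (k * w) * r := by rw [h1]; group
          _ = k * r := by rw [← hwk]; group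
      have hru : r * u = u * r := by
        rw [hve] at hrv
        calc r * u = r * (u * k) * k⁻¹ := by group
          _ = u * (k * r) * k⁻¹ := by rw [hrv]; group
          _ = u * r := by rw [← hrk]; group
      rw [hru] at e
      calc w * u = w * u * w⁻¹ * w := by group
        _ = u * r * r⁻¹ * w := by rw [e]
        _ = u * w := by group
  · -- `v = u w k`
    exfalso
    set k := w⁻¹ * (u⁻¹ * v) with hkdef
    have hk0R : u⁻¹ * v ∈ R := by rw [huinv]; exact huv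
    have hkR : k ∈ R := mul_mem (inv_mem (hw.mem h)) hk0R
    have hkR₁ : k ∈ R₁ := by
      rw [hkdef, hwinv]; exact h₁.index_two w hwS _ (h.le hk0R) hwR₁ hcase
    have hve : v = u * w * k := by rw [hkdef]; group
    have hkc := hk k hkR hkR₁ (Or.inr hve)
    have hkw : k * w = w * k := zOf_comm (hw.mem_zOf h) hkR
    have hku : k * u = u * k := zOf_comm (hu.mem_zOf h₁) hkR₁
    have hkZ : k ∈ zOf R := by
      refine ⟨hkR, mem_centralizer_iff.mpr fun r hr => ?_⟩
      by_cases hr₁ : r ∈ R₁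
      · exact hkc r hr hr₁
      · have hr' : w * r ∈ R₁ := h₁.index_two w hwS r (h.le hr) hwR₁ hr₁
        have h1 := hkc (w * r) (mul_mem (hw.mem h) hr) hr'
        calc r * k = w⁻¹ * (w * r * k) := by group
          _ = w⁻¹ * (k * w) * r := by rw [h1]; group
          _ = k * r := by rw [hkw]; group
    -- `v² = z k²`
    have hzk : z * (k * k) = 1 := by
      have h1 : u * w = z * w * u := by rw [hz]; group
      calc z * (k * k) = u * (w * u) * w * (k * k) := by
            rw [hz, huinv, hwinv]; group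
        _ = u * w * (u * (w * k) * k) := by group
        _ = u * w * (u * (k * w) * k) := by rw [hkw]
        _ = u * w * ((u * k) * w * k) := by group
        _ = u * w * ((k * u) * w * k) := by rw [hku]
        _ = v * v := by rw [hve]; group
        _ = 1 := hv2
    have hdk : delta x k * delta x k = 1 :=
      InW.sq_eq_one hS hcl h hn ⟨k, hkZ, rfl⟩
    have hd1 := congrArg (delta x) hzk
    rw [delta_mul h (hzW.mem_zOf h) (mul_mem hkZ hkZ), delta_mul h hkZ hkZ, hdk, mul_one,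
      delta_one] at hd1
    refine hzne (hzW.eq_one_of_fixed h hS ?_)
    exact mul_inv_eq_one.mp hd1

end Cfsg.Agent.H76.ClassTwoMove
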