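import Cfsg.Agent.PGroups.Critical
import Cfsg.Agent.PGroups.Commutator
import Cfsg.Agent.H62.CoprimeFix

/-!
A characteristic subgroup of exponent p (or 4) detecting p'-automorphisms.
-/

set_option autoImplicit false

namespace Cfsg.Agent.H76

open Subgroup
open scoped commutatorElement

universe u

variable {p : ℕ} [hp : Fact p.Prime]

/-- Every finite `p`-group has a characteristic subgroup of exponent `p` (or `4`) on which every
non-trivial `p'`-automorphism acts non-trivially. -/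
theorem exists_char_small_exponent {R : Type u} [Group R] [Finite R] (hR : IsPGroup p R) :
    ∃ C : Subgroup R, C.Characteristic ∧ (∀ x ∈ C, x ^ p = 1 ∨ p = 2 ∧ x ^ 4 = 1) ∧
      ∀ a : MulAut R, (orderOf a).Coprime p → (∀ x ∈ C, a x = x) → a = 1 := by
  obtain ⟨H, hHc, hfr, hcomm, hC⟩ := PGroups.exists_critical hR
  have hHp : IsPGroup p H := hR.to_subgroup H
  have hz : ∀ x y : H, x⁻¹ * y⁻¹ * x * y ∈ center H := by
    intro x y
    refine Subgroup.mem_center_iff.mpr fun g => Subtype.ext ?_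
    have h1 : ((x : R))⁻¹ * (y : R)⁻¹ * x * y ∈ H ⊓ centralizer (H : Set R) := by
      refine hcomm ?_
      have := commutator_mem_commutator (H₁ := H) (H₂ := (⊤ : Subgroup R))
        (H.inv_mem x.2) (mem_top (y : R)⁻¹)
      rwa [commutatorElement_def, inv_inv, inv_inv] at this
    exact mem_centralizer_iff.mp h1.2 g g.2
  have hpz : ∀ x : H, x ^ p ∈ center H := by
    intro x
    refine Subgroup.mem_center_iff.mpr fun g => Subtype.ext ?_
    exact mem_centralizer_iff.mp (hfr ⟨x ^ p, PGroups.pow_mem_frattini hHp x, rfl⟩) g g.2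
  have hzp : ∀ c u : H, (u⁻¹ * c⁻¹ * u * c) ^ p = 1 := by
    intro c u
    have h : u * c = c * u * (u⁻¹ * c⁻¹ * u * c) := by group
    have h1 := H62.pow_mul_comm_central (hz u c) h p
    rw [(Subgroup.mem_center_iff.mp (hpz u) c).symm, eq_comm, mul_eq_left] at h1
    exact h1
  obtain ⟨e, he, hpe⟩ : ∃ e : ℕ, (e = p ∨ p = 2 ∧ e = 4) ∧ p ∣ e.choose 2 ∧
      (p = 2 → e = 4) := by
    by_cases hp2 : p = 2
    · exact ⟨4, Or.inr ⟨hp2, rfl⟩, by rw [hp2]; decide, fun _ => rfl⟩
    · refine ⟨p, Or.inl rfl, ?_, fun h => absurd h hp2⟩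
      have := PGroups.dvd_choose_two_pow (p := p) hp.out hp2 1
      rwa [pow_one] at this
  obtain ⟨⟨d, hd⟩, h4e⟩ := hpe
  have hmul : ∀ c u : H, c ^ e = 1 → u ^ e = 1 → (c * u) ^ e = 1 := by
    intro c u hc hu
    have h : u * c = c * u * (u⁻¹ * c⁻¹ * u * c) := by group
    rw [H62.mul_pow_class_two (hz u c) h, hc, hu, one_mul, one_mul, hd, pow_mul, hzp, one_pow]
  let C : Subgroup R :=
    { carrier := {x | x ∈ H ∧ x ^ e = 1}
      one_mem' := ⟨one_mem _, one_pow e⟩
      mul_mem' := fun {a b} ha hb => ⟨H.mul_mem ha.1 hb.1,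
        congrArg Subtype.val (hmul ⟨a, ha.1⟩ ⟨b, hb.1⟩ (Subtype.ext ha.2) (Subtype.ext hb.2))⟩
      inv_mem' := fun {a} ha => ⟨H.inv_mem ha.1, by rw [inv_pow, ha.2, inv_one]⟩ }
  refine ⟨C, ?_, fun x hx => ?_, fun a ha hfix => ?_⟩
  · rw [characteristic_iff_le_comap]
    intro φ x hx
    exact ⟨(PGroups.apply_mem_iff_of_characteristic hHc φ).mpr hx.1, by
      rw [← map_pow, hx.2, map_one]⟩
  · rcases he with rfl | ⟨h2, rfl⟩
    · exact Or.inl hx.2
    · exact Or.inr ⟨h2, hx.2⟩
  have hn : H.Normal := normal_of_characteristic (h := hHc) H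
  refine PGroups.mulAut_eq_one_of_fixed hR H hC a ha ?_
  have hmap : H.map (a : R ≃* R).toMonoidHom = H := Subgroup.characteristic_iff_map_eq.mp hHc a
  let b : MulAut H := (a.subgroupMap H).trans (MulEquiv.subgroupCongr hmap)
  have hb : ∀ x : H, (b x : R) = a x := fun x => rfl
  have hbpow : ∀ (k : ℕ) (x : H), ((b ^ k) x : R) = (a ^ k) x := by
    intro k
    induction k with
    | zero => intro x; simp
    | succ k ih =>
      intro x
      rw [pow_succ', pow_succ', MulAut.mul_apply, MulAut.mul_apply, hb, ih]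
  have hb1 : b = 1 := H62.fix_all hHp b ha (MulEquiv.ext fun x => Subtype.ext (by
    rw [hbpow, pow_orderOf_eq_one]; rfl)) (fun x hx => Subtype.ext (by
    rw [hb]
    refine hfix _ ⟨x.2, ?_⟩
    rcases he with rfl | ⟨h2, rfl⟩
    · exact congrArg Subtype.val hx
    · have : x ^ 4 = 1 := by rw [show 4 = p * 2 by omega, pow_mul, hx, one_pow]
      exact congrArg Subtype.val this)) (fun h x hx => Subtype.ext (by
    rw [hb]
    refine hfix _ ⟨x.2, ?_⟩
    rw [h4e h]
    exact congrArg Subtype.val hx))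
  intro x hx
  have := congrArg (fun f : MulAut H => ((f ⟨x, hx⟩ : H) : R)) hb1
  exact (hb ⟨x, hx⟩).symm.trans this

end Cfsg.Agent.H76
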