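import Cfsg.Agent.H76.PrimeCycle

/-!
A primitive group of even permutations of degree 13 containing an 11-cycle.
-/

set_option autoImplicit false

open Equiv Equiv.Perm MulAction
open scoped Pointwise

namespace Cfsg.Agent.H76

variable {α : Type*} [Fintype α] [DecidableEq α] {H : Subgroup (Perm α)}

theorem card_multiple_of_two_transitive {k : ℕ} (hk : IsMultiplyPretransitive H α k) (S : Finset α)
    (hS : Sᶜ.card = k) :
    (Fintype.card α).factorial * Nat.card ↥(H ⊓ fixingSubgroup (Perm α) ((S : Set α)ᶜ)) =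
      Nat.card H * S.card.factorial := by
  have h1 := IsMultiplyPretransitive.index_of_fixingSubgroup_mul hk (s := ((S : Set α)ᶜ))
    (by rw [← Finset.coe_compl, Set.ncard_coe_finset, hS])
  have h2 : fixingSubgroup H ((S : Set α)ᶜ) =
      (H ⊓ fixingSubgroup (Perm α) ((S : Set α)ᶜ)).subgroupOf H := by
    ext ⟨u, hu⟩
    simp [mem_fixingSubgroup_iff, Subgroup.mem_subgroupOf, hu]
  have h3 : Nat.card (fixingSubgroup H ((S : Set α)ᶜ)) =
      Nat.card ↥(H ⊓ fixingSubgroup (Perm α) ((S : Set α)ᶜ)) := by
    rw [h2]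
    exact Nat.card_congr (Subgroup.subgroupOfEquivOfLe inf_le_left).toEquiv
  have h4 : Nat.card α - k = S.card := by
    rw [Nat.card_eq_fintype_card, ← hS, Finset.card_compl]
    have := Finset.card_le_univ S
    omega
  rw [h4, Nat.card_eq_fintype_card] at h1
  rw [← h3, ← h1, mul_comm (Nat.card H), mul_comm (fixingSubgroup H _).index, mul_assoc,
    Subgroup.index_mul_card]

/-- In an abelian `5`-group of permutations of 13 points of order 25 some element moves few points. -/
theorem exists_five_cycle {α : Type*} [Fintype α] [DecidableEq α] (hα : Fintype.card α = 13)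
    {T : Subgroup (Perm α)} (hT : Nat.card T = 5 ^ 2) :
    ∃ w ∈ T, orderOf w = 5 ∧ w.IsCycle := by
  classical
  have := Fact.mk (show Nat.Prime 5 by norm_num)
  have hTp : IsPGroup 5 T := IsPGroup.of_card hT
  have hcomm : ∀ a b : T, a * b = b * a := (IsPGroup.isMulCommutative_of_card_eq_prime_sq hT).is_comm.comm
  have hne : ∃ u : T, u ≠ 1 := by
    have : Nontrivial T := Finite.one_lt_card_iff_nontrivial.mp (by omega)
    exact exists_ne 1
  obtain ⟨u, hu⟩ := hne
  obtain ⟨z, hz⟩ : ∃ z, (u : Perm α) z ≠ z := by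
    by_contra h
    push Not at h
    exact hu (Subtype.ext (Equiv.ext h))
  set O := MulAction.orbit T z with hO
  obtain ⟨e, he⟩ := hTp.card_orbit z
  have hO5 : Nat.card O = 5 := by
    have h13 : Nat.card O ≤ 13 := by
      rw [← hα, ← Nat.card_eq_fintype_card]
      exact Nat.card_le_card_of_injective _ Subtype.val_injective
    have h1 : 1 < Nat.card O := by
      refine Finite.one_lt_card_iff_nontrivial.mpr ⟨⟨z, MulAction.mem_orbit_self z⟩,
        ⟨_, MulAction.mem_orbit z u⟩, fun h => hz (congrArg Subtype.val h).symm⟩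
    rcases e with _ | _ | e
    · rw [pow_zero] at he; change Nat.card O = 1 at he; omega
    · rwa [zero_add, pow_one] at he
    · change Nat.card O = _ at he
      have : 25 ≤ 5 ^ (e + 1 + 1) := by
        calc 25 = 5 ^ 2 := rfl
          _ ≤ _ := Nat.pow_le_pow_right (by norm_num) (by omega)
      omega
  have hstab : Nat.card (MulAction.stabilizer T z) = 5 := by
    have h := (MulAction.stabilizer T z).index_mul_card
    have hi : (MulAction.stabilizer T z).index = 5 := by
      rw [MulAction.index_stabilizer, ← Nat.card_coe_set_eq]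
      exact hO5
    rw [hi, hT] at h
    omega
  obtain ⟨⟨w, hw⟩, hw1⟩ := exists_prime_orderOf_dvd_card' (G := MulAction.stabilizer T z) 5 (by omega)
  have hwo : orderOf (w : Perm α) = 5 := by
    rw [Subgroup.orderOf_coe, ← hw1]; exact (Subgroup.orderOf_mk w hw).symm
  refine ⟨w, w.2, hwo, isCycle_of_prime_order (hwo.symm ▸ by norm_num) ?_⟩
  -- `w` fixes the orbit of `z` pointwise
  have hfix : O.toFinset ⊆ (w : Perm α).supportᶜ := by
    intro v hv
    rw [Set.mem_toFinset] at hv
    obtain ⟨g, rfl⟩ := hv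
    rw [Finset.mem_compl, notMem_support]
    show (w : Perm α) ((g : Perm α) z) = (g : Perm α) z
    have hg := congrArg Subtype.val (hcomm w g)
    rw [Subgroup.coe_mul, Subgroup.coe_mul] at hg
    rw [← Perm.mul_apply, hg, Perm.mul_apply]
    exact congrArg _ hw
  have h5 : 5 ≤ (w : Perm α).supportᶜ.card := by
    refine le_trans (le_of_eq ?_) (Finset.card_le_card hfix)
    rw [← Set.ncard_eq_toFinset_card', ← Nat.card_coe_set_eq]
    exact hO5.symm
  rw [Finset.card_compl] at h5
  omega

/-- The order 1716 case is impossible. -/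
theorem false_of_card_1716 (hα : Fintype.card α = 13) (h3 : IsMultiplyPretransitive H α 3)
    {x : Perm α} (hx : x.IsCycle) (hx11 : x.support.card = 11) (hxH : x ∈ H)
    (hcard : Nat.card H = 1716)
    (hKP : ∀ u ∈ H, (∀ z ∉ x.support, u z = z) → u ∈ Subgroup.zpowers x) : False := by
  have hxo : orderOf x = 11 := hx11 ▸ hx.orderOf
  obtain ⟨a, b, hab, hcompl⟩ := Finset.card_eq_two.mp
    (show x.supportᶜ.card = 2 by rw [Finset.card_compl]; omega)
  have hfixab : ∀ z, x z = z ↔ z = a ∨ z = b := by
    intro z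
    rw [← notMem_support, ← Finset.mem_compl, hcompl, Finset.mem_insert, Finset.mem_singleton]
  have hnot : ∀ z, z ∉ x.support ↔ z = a ∨ z = b := fun z => notMem_support.trans (hfixab z)
  have htr : IsPretransitive H α := is_one_pretransitive_iff.mp
    (isMultiplyPretransitive_of_le (n := 3) (by norm_num) (by simp [hα]))
  have h2t : IsMultiplyPretransitive H α 2 :=
    isMultiplyPretransitive_of_le (n := 3) (by norm_num) (by simp [hα])
  set J := MulAction.stabilizer H a with hJ
  have hJcard : Nat.card J = 132 := by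
    have h := J.index_mul_card
    rw [hJ, index_stabilizer_of_transitive H a, Nat.card_eq_fintype_card, hα, hcard] at h
    rw [hJ]; omega
  set xJ : J := ⟨⟨x, hxH⟩, (hfixab a).mpr (Or.inl rfl)⟩ with hxJ
  have hxJo : orderOf xJ = 11 := by
    rw [← Subgroup.orderOf_coe, ← Subgroup.orderOf_coe]; exact hxo
  -- many elements of order 11
  have hg : ∀ c : {c : α // c ≠ a}, ∃ g : J, ((g : H) : Perm α) b = c := by
    rintro ⟨c, hc⟩
    obtain ⟨g, hg1, hg2⟩ := (is_two_pretransitive_iff.mp h2t) hab.symm hc
    exact ⟨⟨g, hg2⟩, hg1⟩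
  choose g hg using hg
  let F : {c : α // c ≠ a} × Fin 10 → {u : J // orderOf u = 11} := fun ci =>
    ⟨g ci.1 * xJ ^ (ci.2.val + 1) * (g ci.1)⁻¹, by
      have h1 := orderOf_injective (MulAut.conj (g ci.1)).toMonoidHom (MulEquiv.injective _)
        (xJ ^ (ci.2.val + 1))
      simp only [MulEquiv.coe_toMonoidHom, MulAut.conj_apply] at h1
      rw [h1, Nat.Coprime.orderOf_pow, hxJo]
      rw [hxJo, (show Nat.Prime 11 by norm_num).coprime_iff_not_dvd]
      intro hd
      have := Nat.le_of_dvd (by omega) hd
      omega⟩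
  have hga : ∀ c, ((g c : H) : Perm α) a = a := fun c => (g c).2
  have hF : Function.Injective F := by
    rintro ⟨c, i⟩ ⟨c', i'⟩ h
    have h' : ((g c : H) : Perm α) * x ^ (i.val + 1) * ((g c : H) : Perm α)⁻¹ =
        ((g c' : H) : Perm α) * x ^ (i'.val + 1) * ((g c' : H) : Perm α)⁻¹ :=
      congrArg (fun u : {u : J // orderOf u = 11} => ((u.1 : H) : Perm α)) h
    have hndvd : ∀ j : Fin 10, ¬ 11 ∣ j.val + 1 := fun j hd => by
      have := Nat.le_of_dvd (by omega) hd
      omega
    have hcb : (c : α) = c' := by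
      have e1 : (((g c : H) : Perm α) * x ^ (i.val + 1) * ((g c : H) : Perm α)⁻¹) c = c := by
        rw [Perm.mul_apply, Perm.mul_apply, ← hg c, Perm.inv_def, Equiv.symm_apply_apply,
          Perm.pow_apply_eq_self_of_apply_eq_self ((hfixab b).mpr (Or.inr rfl))]
      rw [h', Perm.mul_apply, Perm.mul_apply, Perm.inv_def, ← Equiv.eq_symm_apply] at e1
      have e2 := pow_apply_eq_self_imp (show Nat.Prime 11 by norm_num) hxo (hndvd i') e1
      rcases (hfixab _).mp e2 with e3 | e3
      · exfalso
        apply c.2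
        rw [Equiv.symm_apply_eq] at e3
        rw [e3, hga]
      · rw [Equiv.symm_apply_eq, hg c'] at e3
        exact e3
    have hcc : c = c' := Subtype.ext hcb
    subst hcc
    have h2 : x ^ (i.val + 1) = x ^ (i'.val + 1) := mul_left_cancel (mul_right_cancel h')
    have := pow_injOn_Iio_orderOf (x := x) (by rw [hxo]; exact Set.mem_Iio.mpr (by omega))
      (by rw [hxo]; exact Set.mem_Iio.mpr (by omega)) h2
    exact Prod.ext rfl (Fin.ext (show i.val = i'.val by omega))
  have h11 : 120 ≤ Nat.card {u : J // orderOf u = 11} := by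
    refine le_trans (le_of_eq ?_) (Nat.card_le_card_of_injective F hF)
    rw [Nat.card_prod, Nat.card_eq_fintype_card (α := {c : α // c ≠ a}), Fintype.card_subtype_compl,
      Fintype.card_subtype_eq, hα, Nat.card_fin]
  -- few Sylow 3-subgroups
  have := Fact.mk Nat.prime_three
  have hS3 : ∀ P : Sylow 3 J, Nat.card (P : Subgroup J) = 3 := by
    intro P
    rw [Sylow.card_eq_multiplicity, hJcard]
    have h1 : (132 : ℕ).factorization 3 = 1 := by
      rw [show (132 : ℕ) = 3 ^ 1 * 44 from rfl, Nat.factorization_mul (by norm_num) (by norm_num),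
        Nat.Prime.factorization_pow Nat.prime_three]
      simp [Nat.factorization_eq_zero_of_not_dvd (show ¬ 3 ∣ 44 by norm_num)]
    rw [h1, pow_one]
  have hgen : ∀ P : Sylow 3 J, ∀ u : J, u ∈ (P : Subgroup J) → u ≠ 1 →
      orderOf u = 3 ∧ Subgroup.zpowers u = P := by
    intro P u hu hu1
    have ho : orderOf u = 3 := by
      have h1 : orderOf u ∣ 3 := by
        rw [← hS3 P, ← Subgroup.orderOf_mk u hu]; exact orderOf_dvd_natCard _
      exact (Nat.prime_three.eq_one_or_self_of_dvd _ h1).resolve_left
        (fun h => hu1 (orderOf_eq_one_iff.mp h))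
    exact ⟨ho, Subgroup.eq_of_le_of_card_ge (Subgroup.zpowers_le.mpr hu)
      (by rw [Nat.card_zpowers, ho, hS3 P])⟩
  let F3 : (Σ P : Sylow 3 J, {u : (P : Subgroup J) // u ≠ 1}) → {u : J // orderOf u = 3} := fun Pu =>
    ⟨(Pu.2.1 : J), (hgen Pu.1 _ Pu.2.1.2 fun h => Pu.2.2 (Subtype.ext h)).1⟩
  have hF3 : Function.Injective F3 := by
    rintro ⟨P, ⟨⟨u, huP⟩, hu1⟩⟩ ⟨Q, ⟨⟨v, hvQ⟩, hv1⟩⟩ h
    have huv : u = v := congrArg Subtype.val h
    subst huv
    have e1 := (hgen P u huP fun h => hu1 (Subtype.ext h)).2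
    have e2 := (hgen Q u hvQ fun h => hv1 (Subtype.ext h)).2
    have hPQ : P = Q := Sylow.ext (e1.symm.trans e2)
    subst hPQ
    rfl
  have hn3 : Nat.card (Sylow 3 J) ≤ 5 := by
    have h := Nat.card_le_card_of_injective F3 hF3
    have e : Nat.card (Σ P : Sylow 3 J, {u : (P : Subgroup J) // u ≠ 1}) = Nat.card (Sylow 3 J) * 2 := by
      have := Fintype.ofFinite (Sylow 3 J)
      rw [Nat.card_sigma, Finset.sum_const_nat (m := 2), Finset.card_univ, Nat.card_eq_fintype_card]
      intro P _
      have h1 := Set.ncard_add_ncard_compl ({1} : Set (P : Subgroup J))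
      rw [Set.ncard_singleton, hS3 P] at h1
      calc Nat.card {u : (P : Subgroup J) // u ≠ 1}
          = ({1} : Set (P : Subgroup J))ᶜ.ncard := (Nat.card_coe_set_eq _)
        _ = 2 := by omega
    rw [e] at h
    have hsum : ({u : J | orderOf u = 11} ∪ {u : J | orderOf u = 3}).ncard ≤ ({1} : Set J)ᶜ.ncard := by
      refine Set.ncard_le_ncard ?_
      rintro u hu rfl
      simp at hu
    rw [Set.ncard_union_eq (Set.disjoint_left.mpr fun u h1 h2 => by simp_all)] at hsum
    have h1 := Set.ncard_add_ncard_compl ({1} : Set J)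
    rw [Set.ncard_singleton, hJcard] at h1
    have e11 : Nat.card {u : J // orderOf u = 11} = {u : J | orderOf u = 11}.ncard := Nat.card_coe_set_eq _
    have e3 : Nat.card {u : J // orderOf u = 3} = {u : J | orderOf u = 3}.ncard := Nat.card_coe_set_eq _
    omega
  -- `x` fixes a Sylow 3-subgroup and so centralises it
  obtain ⟨P⟩ : Nonempty (Sylow 3 J) := inferInstance
  have hfixP : xJ • P = P := by
    have h1 : orderOf (MulAction.toPermHom J (Sylow 3 J) xJ) ∣ 11 := hxJo ▸ orderOf_map_dvd _ _
    have h2 : orderOf (MulAction.toPermHom J (Sylow 3 J) xJ) ∣ (Nat.card (Sylow 3 J)).factorial := by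
      rw [← Nat.card_perm]; exact orderOf_dvd_natCard _
    have h3 : orderOf (MulAction.toPermHom J (Sylow 3 J) xJ) = 1 := by
      refine ((show Nat.Prime 11 by norm_num).eq_one_or_self_of_dvd _ h1).resolve_right fun h => ?_
      rw [h, (show Nat.Prime 11 by norm_num).dvd_factorial] at h2
      omega
    have h4 := Equiv.congr_fun (orderOf_eq_one_iff.mp h3) P
    simpa using h4
  obtain ⟨⟨u, huP⟩, hu1⟩ : ∃ u : (P : Subgroup J), u ≠ 1 := by
    have : Nontrivial (P : Subgroup J) := Finite.one_lt_card_iff_nontrivial.mp (by rw [hS3]; norm_num)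
    exact exists_ne 1
  obtain ⟨huo, huz⟩ := hgen P u huP fun h => hu1 (Subtype.ext h)
  have hconj : ∀ v ∈ (P : Subgroup J), xJ * v * xJ⁻¹ ∈ (P : Subgroup J) := by
    intro v hv
    have h := congrArg Sylow.toSubgroup hfixP
    rw [← h]
    exact Subgroup.smul_mem_pointwise_smul _ _ _ hv
  -- conjugation by `x` is an automorphism of `⟨u⟩` of odd order
  obtain ⟨r, hr⟩ : ∃ r : ℕ, xJ * u * xJ⁻¹ = u ^ r := by
    have := hconj u huP
    rw [← huz] at this
    obtain ⟨r, hr⟩ := (Submonoid.mem_powers_iff _ _).mp (mem_powers_iff_mem_zpowers.mpr this)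
    exact ⟨r, hr.symm⟩
  have hpow : ∀ k : ℕ, xJ ^ k * u * (xJ ^ k)⁻¹ = u ^ (r ^ k) := by
    intro k
    induction k with
    | zero => simp
    | succ k ih =>
      rw [pow_succ', pow_succ', mul_inv_rev]
      calc xJ * xJ ^ k * u * ((xJ ^ k)⁻¹ * xJ⁻¹) = xJ * (xJ ^ k * u * (xJ ^ k)⁻¹) * xJ⁻¹ := by group
        _ = u ^ (r * r ^ k) := by rw [ih, ← conj_pow, hr, ← pow_mul]
  have h1 := hpow 11
  rw [← hxJo, pow_orderOf_eq_one, one_mul, inv_one, mul_one, hxJo] at h1
  have hr1 : r % 3 = 1 := by
    have h2 : u ^ (r ^ 11) = u ^ 1 := by rw [← h1, pow_one]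
    rw [pow_inj_mod, huo] at h2
    have hm : r ^ 11 % 3 = (r % 3) ^ 11 % 3 := Nat.pow_mod _ _ _
    have : r % 3 = 0 ∨ r % 3 = 1 ∨ r % 3 = 2 := by omega
    rcases this with h | h | h <;> rw [h] at hm <;> simp at hm <;> omega
  have hcomm : Commute xJ u := by
    have : u ^ r = u := by rw [← pow_mod_orderOf, huo, hr1, pow_one]
    rw [this] at hr
    exact mul_inv_eq_iff_eq_mul.mp hr
  -- `u` fixes `b`
  have hub : ((u : H) : Perm α) b = b := by
    have h : x (((u : H) : Perm α) b) = ((u : H) : Perm α) b := by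
      have hc := congrArg (fun v : J => ((v : H) : Perm α) b) hcomm.eq
      simp only [Subgroup.coe_mul, Perm.mul_apply] at hc
      change x (((u : H) : Perm α) b) = ((u : H) : Perm α) (x b) at hc
      rwa [(hfixab b).mpr (Or.inr rfl)] at hc
    rcases (hfixab _).mp h with h | h
    · exfalso
      have ha : ((u : H) : Perm α) a = a := u.2
      exact hab.symm (((u : H) : Perm α).injective (h.trans ha.symm))
    · exact h
  have hmem := hKP _ (u : H).2 (fun z hz => by
    rcases (hnot z).mp hz with rfl | rfl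
    · exact u.2
    · exact hub)
  have h11' : orderOf ((u : H) : Perm α) ∣ 11 := hxo ▸ orderOf_dvd_of_mem_zpowers hmem
  rw [Subgroup.orderOf_coe, Subgroup.orderOf_coe, huo] at h11'
  omega

/-- Degree 13: 11-cycle and 13-element. -/
theorem eq_alternating_thirteen (hα : Fintype.card α = 13) {x : Perm α} (hx : x.IsCycle)
    (hx11 : x.support.card = 11) (hxH : x ∈ H) (hHA : H ≤ alternatingGroup α)
    (hG : IsPreprimitive H α) : alternatingGroup α ≤ H := by
  have h3 := isMultiplyPretransitive_of_cycle hG hx (by rw [hx11]; norm_num) hxH (by omega)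
  rw [hx11, hα] at h3
  have := Fact.mk (show Nat.Prime 5 by norm_num)
  have hxo : orderOf x = 11 := hx11 ▸ hx.orderOf
  by_cases h5 : 5 ∣ Nat.card H
  · have hcyc : ∀ w ∈ H, orderOf w = 5 → w.IsCycle → alternatingGroup α ≤ H := by
      intro w hw ho hc
      have : w.support.card = 5 := hc.orderOf ▸ ho
      exact alternatingGroup_le_of_cycle hG hc (this ▸ by norm_num) hw (by omega)
    by_cases h25 : 5 ^ 2 ∣ Nat.card H
    · obtain ⟨T, hT⟩ := Sylow.exists_subgroup_card_pow_prime 5 h25
      have hT' : Nat.card (T.map H.subtype) = 5 ^ 2 := by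
        rw [Subgroup.card_map_of_injective H.subtype_injective, hT]
      obtain ⟨w, hw, ho, hc⟩ := exists_five_cycle hα hT'
      exact hcyc w (Subgroup.map_subtype_le T hw) ho hc
    · obtain ⟨⟨t, htH⟩, hto⟩ := exists_prime_orderOf_dvd_card' (G := H) 5 h5
      rw [Subgroup.orderOf_mk] at hto
      obtain ⟨n, hn⟩ := cycleType_prime_order (σ := t) (hto.symm ▸ by norm_num)
      have hsum := t.sum_cycleType
      rw [hn, Multiset.sum_replicate, hto, smul_eq_mul] at hsum
      have hle : t.support.card ≤ 13 := hα ▸ t.support.card_le_univ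
      have : n = 0 ∨ n = 1 := by omega
      rcases this with rfl | rfl
      · exact hcyc t htH hto (isCycle_of_prime_order (hto.symm ▸ by norm_num) (by omega))
      · obtain ⟨c, hc, hc3⟩ := exists_threeCycle_of_prime htH hto (m := 2 * 5) (k := 3)
          (by norm_num) (fun c hc z hz => pow_fix_of_commute_double (by norm_num) hto (by omega) hc hz)
          (by rw [Finset.card_compl]; omega) le_rfl
          (by convert h3 using 1)
          (fun h => h25 (h.trans (Subgroup.card_dvd_of_le inf_le_left)))
        exact alternatingGroup_le_of_isPreprimitive_of_isThreeCycle_mem hG hc3 hc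
  exfalso
  have := Fact.mk (show Nat.Prime 11 by norm_num)
  set K := H ⊓ fixingSubgroup (Perm α) ((x.support : Set α)ᶜ) with hK
  have hmemK : ∀ u : Perm α, u ∈ K ↔ u ∈ H ∧ ∀ z ∉ x.support, u z = z := by
    intro u
    simp [hK, mem_fixingSubgroup_iff]
  have hxK : x ∈ K := (hmemK x).mpr ⟨hxH, fun z hz => notMem_support.mp hz⟩
  have h2t : IsMultiplyPretransitive H α 2 :=
    isMultiplyPretransitive_of_le (n := 3) (by norm_num) (by simp [hα])
  have hcardH : Nat.card H = 156 * Nat.card K := by
    have h := card_multiple_of_two_transitive h2t x.support (by rw [Finset.card_compl]; omega)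
    rw [hα, hx11, ← hK, show Nat.factorial 13 = 156 * Nat.factorial 11 by decide] at h
    have := Nat.factorial_pos 11
    exact Nat.eq_of_mul_eq_mul_right this (by rw [← h]; ring)
  set P : Subgroup K := Subgroup.zpowers ⟨x, hxK⟩ with hP
  have hPcard : Nat.card P = 11 := by rw [hP, Nat.card_zpowers, Subgroup.orderOf_mk, hxo]
  have hK11 : ¬ 11 ^ 2 ∣ Nat.card K := fun h => not_sq_dvd_factorial (show Nat.Prime 11 by norm_num) (by
    rw [show Nat.factorial 11 = x.support.card.factorial by rw [hx11], ← card_fixing_compl x.support]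
    exact h.trans (Subgroup.card_dvd_of_le inf_le_right))
  have hfac : (Nat.card K).factorization 11 = 1 := by
    have h1 : 11 ∣ Nat.card K := hPcard ▸ Subgroup.card_subgroup_dvd_card P
    have h3 := (show Nat.Prime 11 by norm_num).factorization_pos_of_dvd Nat.card_pos.ne' h1
    have h4 : (Nat.card K).factorization 11 < 2 := by
      by_contra hcon
      exact hK11 (((show Nat.Prime 11 by norm_num).pow_dvd_iff_le_factorization
        Nat.card_pos.ne').mpr (by omega))
    omega
  let S : Sylow 11 K := Sylow.ofCard P (by rw [hPcard, hfac, pow_one])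
  have hN : Subgroup.normalizer ((S : Subgroup K) : Set K) ≤
      Subgroup.centralizer ((S : Subgroup K) : Set K) := by
    rintro ⟨n, hnK⟩ hn
    obtain ⟨hnH, hnfix⟩ := (hmemK n).mp hnK
    obtain ⟨r, hr⟩ : ∃ r : ℕ, n * x * n⁻¹ = x ^ r := by
      have h := (Subgroup.mem_normalizer_iff.mp hn ⟨x, hxK⟩).mp (Subgroup.mem_zpowers _)
      obtain ⟨r, hr⟩ := (Submonoid.mem_powers_iff _ _).mp (mem_powers_iff_mem_zpowers.mpr h)
      exact ⟨r, (congrArg Subtype.val hr).symm⟩
    have hpow : ∀ k : ℕ, n ^ k * x * (n ^ k)⁻¹ = x ^ (r ^ k) := by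
      intro k
      induction k with
      | zero => simp
      | succ k ih =>
        rw [pow_succ', pow_succ', mul_inv_rev]
        calc n * n ^ k * x * ((n ^ k)⁻¹ * n⁻¹) = n * (n ^ k * x * (n ^ k)⁻¹) * n⁻¹ := by group
          _ = x ^ (r * r ^ k) := by rw [ih, ← conj_pow, hr, ← pow_mul]
    have hr1 : (r : ZMod 11) ^ orderOf n = 1 := by
      have h := hpow (orderOf n)
      rw [pow_orderOf_eq_one, one_mul, inv_one, mul_one] at h
      have h' : x ^ 1 = x ^ (r ^ orderOf n) := by rw [pow_one]; exact h
      rw [pow_inj_mod, hxo] at h'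
      have h'' : ((r ^ orderOf n : ℕ) : ZMod 11) = ((1 : ℕ) : ZMod 11) :=
        (ZMod.natCast_eq_natCast_iff' _ _ _).mpr h'.symm
      simpa using h''
    have hr0 : (r : ZMod 11) ≠ 0 := fun h => by
      rw [h, zero_pow (orderOf_pos n).ne'] at hr1
      exact zero_ne_one hr1
    have hr2 : (r : ZMod 11) ^ 2 = 1 := by
      have h10 := ZMod.pow_card_sub_one_eq_one hr0
      have hd : orderOf (r : ZMod 11) ∣ 2 := by
        have d1 := orderOf_dvd_of_pow_eq_one hr1
        have d2 : orderOf (r : ZMod 11) ∣ 2 * 5 := orderOf_dvd_of_pow_eq_one h10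
        refine Nat.Coprime.dvd_of_dvd_mul_right ?_ d2
        apply Nat.Coprime.coprime_dvd_left d1
        rw [Nat.coprime_comm, (show Nat.Prime 5 by norm_num).coprime_iff_not_dvd]
        intro hd5
        exact h5 (hd5.trans (by rw [← Subgroup.orderOf_mk n hnH]; exact orderOf_dvd_natCard _))
      exact orderOf_dvd_iff_pow_eq_one.mp hd
    have hfactor : ((r : ZMod 11) - 1) * ((r : ZMod 11) + 1) = 0 := by
      linear_combination hr2
    rcases mul_eq_zero.mp hfactor with h | h
    · -- centralising
      have hx1 : x ^ r = x := by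
        conv_rhs => rw [← pow_one x]
        rw [pow_inj_mod, hxo]
        exact (ZMod.natCast_eq_natCast_iff' r 1 11).mp (by simpa using sub_eq_zero.mp h)
      rw [hx1, mul_inv_eq_iff_eq_mul] at hr
      rw [Subgroup.mem_centralizer_iff]
      rintro v ⟨k, rfl⟩
      exact ((show Commute (⟨n, hnK⟩ : K) ⟨x, hxK⟩ from Subtype.ext hr).zpow_right k).symm.eq
    · -- inverting: then `n` is odd
      exfalso
      have hxinv : n * x * n⁻¹ = x⁻¹ := by
        rw [hr, eq_inv_iff_mul_eq_one, ← pow_succ, ← orderOf_dvd_iff_pow_eq_one, hxo,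
          ← ZMod.natCast_eq_zero_iff]; simpa using h
      have hzinv : ∀ k : ℤ, n * x ^ k * n⁻¹ = x ^ (-k) := fun k => by
        rw [← conj_zpow, hxinv, inv_zpow']
      have hnsupp : ∀ z ∈ x.support, n z ∈ x.support := fun z hz => by
        by_contra hcon
        exact hcon ((n.injective (hnfix _ hcon)).symm ▸ hz)
      obtain ⟨z0, hz0⟩ := hx.nonempty_support
      obtain ⟨i, hi⟩ := hx.sameCycle (mem_support.mp hz0) (mem_support.mp (hnsupp z0 hz0))
      have hnz : ∀ k : ℤ, n ((x ^ k) z0) = (x ^ (i - k)) z0 := by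
        intro k
        have hk := congrArg (fun v : Perm α => v (n z0)) (hzinv k)
        simp only [Perm.mul_apply, Perm.inv_def, Equiv.symm_apply_apply] at hk
        rw [hk, ← hi, ← Perm.mul_apply, ← zpow_add]
        congr 2
        ring
      have hsq : n * n = 1 := by
        ext z
        rw [Perm.mul_apply, Perm.one_apply]
        by_cases hz : z ∈ x.support
        · obtain ⟨k, rfl⟩ := hx.sameCycle (mem_support.mp hz0) (mem_support.mp hz)
          rw [hnz, hnz, sub_sub_cancel]
        · rw [hnfix z hz, hnfix z hz]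
      -- the unique fixed point in the support
      have hfixiff : ∀ k : ℤ, n ((x ^ k) z0) = (x ^ k) z0 ↔ (11 : ℤ) ∣ i - 2 * k := by
        intro k
        rw [hnz, show (i : ℤ) - k = (i - 2 * k) + k by ring, add_comm, zpow_add, Perm.mul_apply,
          Equiv.apply_eq_iff_eq]
        constructor
        · intro he
          by_contra hcon
          have hj : ¬ 11 ∣ ((i - 2 * k) % 11).toNat := by
            intro hd
            have := Int.emod_lt_of_pos (i - 2 * k) (show (0 : ℤ) < 11 by norm_num)
            have := Int.emod_nonneg (i - 2 * k) (show (11 : ℤ) ≠ 0 by norm_num)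
            omega
          refine mem_support.mp hz0 (pow_apply_eq_self_imp (show Nat.Prime 11 by norm_num) hxo hj ?_)
          rw [← zpow_natCast, Int.toNat_of_nonneg (Int.emod_nonneg _ (by norm_num)),
            show (11 : ℤ) = (orderOf x : ℕ) by rw [hxo]; rfl, zpow_mod_orderOf]
          exact he
        · intro hd
          rw [show x ^ (i - 2 * k) = 1 from orderOf_dvd_iff_zpow_eq_one.mp (by rw [hxo]; exact_mod_cast hd),
            Perm.one_apply]
      set w := (x ^ (6 * i)) z0 with hw
      have hsupp : n.support = x.support.erase w := by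
        ext z
        rw [mem_support, Finset.mem_erase]
        by_cases hz : z ∈ x.support
        · simp only [hz, and_true]
          obtain ⟨k, rfl⟩ := hx.sameCycle (mem_support.mp hz0) (mem_support.mp hz)
          rw [not_iff_not, hfixiff]
          constructor
          · intro hd
            rw [hw]
            have h11 : x ^ k = x ^ (6 * i) := by
              rw [← mul_inv_eq_one, ← zpow_neg, ← zpow_add, ← orderOf_dvd_iff_zpow_eq_one, hxo]
              omega
            rw [h11]
          · intro he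
            rw [← hfixiff, he, hw, hfixiff]
            omega
        · simp [hz, hnfix z hz]
      have hcard : n.support.card = 10 := by
        rw [hsupp, Finset.card_erase_of_mem, hx11]
        exact zpow_apply_mem_support.mpr hz0
      have := Fact.mk Nat.prime_two
      have hct := cycleType_of_pow_prime_eq_one (p := 2) (σ := n) (by rw [pow_two, hsq])
      have hs := n.sum_cycleType
      rw [hct, Multiset.sum_replicate, smul_eq_mul, hcard] at hs
      have hsign : Perm.sign n = 1 := hHA hnH
      rw [sign_of_cycleType, n.sum_cycleType, hcard] at hsign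
      have hc5 : Multiset.card n.cycleType = 5 := by omega
      rw [hc5] at hsign
      exact absurd hsign (by decide)
  have hc := MonoidHom.ker_transferSylow_isComplement' S hN
  set M := (MonoidHom.transferSylow S hN).ker with hM
  have hMcard : Nat.card M * 11 = Nat.card K := by rw [← hPcard]; exact hc.card_mul_card
  have hMfix : ∀ m ∈ M, ∀ z ∈ x.support, ((m : K) : Perm α) z = z := by
    intro m hm z hz
    set Sz := MulAction.stabilizer K z with hSz
    have hKsupp : ∀ v : K, (v : Perm α) z ∈ x.support := fun v => by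
      by_contra hcon
      exact hcon (((v : Perm α).injective (((hmemK _).mp v.2).2 _ hcon)).symm ▸ hz)
    have horb : MulAction.orbit K z = (x.support : Set α) := by
      ext w
      constructor
      · rintro ⟨v, rfl⟩
        exact hKsupp v
      · intro hw
        obtain ⟨k, hk⟩ := hx.sameCycle (mem_support.mp hz) (mem_support.mp hw)
        exact ⟨(⟨x, hxK⟩ : K) ^ k, by simpa [Subgroup.smul_def] using hk⟩
    have hi : Sz.index = 11 := by
      rw [hSz, MulAction.index_stabilizer, horb, Set.ncard_coe_finset, hx11]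
    have hcard := Sz.index_mul_card
    rw [hi] at hcard
    have hndvd : ¬ 11 ∣ Nat.card Sz := fun hd => hK11 (by
      rw [← hcard, pow_two]; exact Nat.mul_dvd_mul_left 11 hd)
    have hle : Sz ≤ M := by
      intro v hv
      rw [hM, MonoidHom.mem_ker, ← orderOf_eq_one_iff]
      have d1 : orderOf (MonoidHom.transferSylow S hN v) ∣ Nat.card Sz :=
        (orderOf_map_dvd _ v).trans (by rw [← Subgroup.orderOf_mk v hv]; exact orderOf_dvd_natCard _)
      have d2 : orderOf (MonoidHom.transferSylow S hN v) ∣ 11 :=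
        (orderOf_dvd_natCard _).trans (dvd_of_eq hPcard)
      exact ((show Nat.Prime 11 by norm_num).eq_one_or_self_of_dvd _ d2).resolve_right
        (fun h => hndvd (h ▸ d1))
    have heq : Sz = M := Subgroup.eq_of_le_of_card_ge hle (le_of_eq (by omega))
    have := heq.ge hm
    exact this
  have hMbot : M = ⊥ := by
    rw [eq_bot_iff]
    intro m hm
    rw [Subgroup.mem_bot]
    refine Subtype.ext (Equiv.ext fun z => ?_)
    by_cases hz : z ∈ x.support
    · exact hMfix m hm z hz
    · exact ((hmemK _).mp m.2).2 z hz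
  rw [hMbot, Subgroup.card_bot, one_mul] at hMcard
  refine false_of_card_1716 hα (by convert h3 using 1) hx hx11 hxH (by omega) fun u hu hufix => ?_
  have hPtop : P = ⊤ := Subgroup.eq_top_of_card_eq _ (by omega)
  have : (⟨u, (hmemK u).mpr ⟨hu, hufix⟩⟩ : K) ∈ P := hPtop ▸ Subgroup.mem_top _
  obtain ⟨k, hk⟩ := this
  exact ⟨k, congrArg Subtype.val hk⟩

end Cfsg.Agent.H76
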