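import Mathlib
import Cfsg.Agent.PGroups.Extraspecial

/-!
Coordinates on the quotient of an extraspecial group of order p^3 by its centre.
-/

set_option autoImplicit false

namespace Cfsg.Agent.H76.EC

open Subgroup
open scoped commutatorElement

variable {Q : Type*} [Group Q] {p : ℕ} [hp : Fact p.Prime]

/-- A homomorphism out of `ZMod p` given by an element of order dividing `p`. -/
def powHom (x : Q) (hx : x ^ p = 1) : Multiplicative (ZMod p) →* Q :=
  AddMonoidHom.toMultiplicativeLeft (ZMod.lift p ⟨zmultiplesHom (Additive Q) (Additive.ofMul x), by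
    rw [zmultiplesHom_apply, natCast_zsmul, ← ofMul_pow, hx]; rfl⟩)

theorem powHom_natCast (x : Q) (hx : x ^ p = 1) (n : ℕ) :
    powHom x hx (Multiplicative.ofAdd ((n : ℕ) : ZMod p)) = x ^ n := by
  change Additive.toMul (ZMod.lift p _ ((n : ℕ) : ZMod p)) = x ^ n
  rw [show ((n : ℕ) : ZMod p) = ((n : ℤ) : ZMod p) by simp, ZMod.lift_coe]
  change Additive.toMul ((n : ℤ) • Additive.ofMul x) = x ^ n
  rw [natCast_zsmul, ← ofMul_pow, toMul_ofMul]

theorem powHom_apply (x : Q) (hx : x ^ p = 1) (t : ZMod p) :
    powHom x hx (Multiplicative.ofAdd t) = x ^ t.val := by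
  conv_lhs => rw [← ZMod.natCast_zmod_val t]
  rw [powHom_natCast]

theorem powHom_bijective (x : Q) (hx : x ^ p = 1) (hx1 : x ≠ 1) : Function.Injective (powHom x hx) := by
  have ho : orderOf x = p := orderOf_eq_prime hx hx1
  rw [injective_iff_map_eq_one]
  intro t ht
  rw [show t = Multiplicative.ofAdd (Multiplicative.toAdd t) from rfl, powHom_apply,
    ← orderOf_dvd_iff_pow_eq_one, ho] at ht
  have hlt := ZMod.val_lt (Multiplicative.toAdd t)
  have h0 : (Multiplicative.toAdd t).val = 0 := Nat.eq_zero_of_dvd_of_lt ht hlt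
  rw [ZMod.val_eq_zero] at h0
  exact congrArg Multiplicative.ofAdd h0

/-- The coordinates: a surjection onto `(ZMod p)^2` with central kernel, such that commutation is the
determinant. -/
theorem exists_coord [Finite Q] (hE : Cfsg.IsExtraspecial p Q) (hcard : Nat.card Q = p ^ 3) :
    ∃ (z : Q) (κ : Q →* Multiplicative (Fin 2 → ZMod p)), z ∈ center Q ∧ z ≠ 1 ∧
      Function.Surjective κ ∧ κ.ker = center Q ∧
      ∀ g h : Q, ⁅g, h⁆ = z ^ (Multiplicative.toAdd (κ g) 0 * Multiplicative.toAdd (κ h) 1 -
        Multiplicative.toAdd (κ g) 1 * Multiplicative.toAdd (κ h) 0).val := by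
  have hc := PGroups.isSpecial_commutator_le hE.1
  obtain ⟨a, b, hab⟩ := PGroups.isExtraspecial_exists_ne hE
  set z : Q := ⁅a, b⁆ with hz
  have hzc : z ∈ center Q := PGroups.commutatorElement_mem_center hc a b
  have hzp : z ^ p = 1 := PGroups.isSpecial_center_pow hE.1 hzc
  let zc : center Q := ⟨z, hzc⟩
  have hzcp : zc ^ p = 1 := Subtype.ext (by simpa [zc] using hzp)
  have hzc1 : zc ≠ 1 := fun h => hab (congrArg Subtype.val h)
  let ζ := powHom zc hzcp
  have hζ : Function.Bijective ζ := by
    have h1 := powHom_bijective zc hzcp hzc1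
    refine (Nat.bijective_iff_injective_and_card ζ).mpr ⟨h1, ?_⟩
    rw [hE.2, Nat.card_congr Multiplicative.toAdd, Nat.card_zmod]
  let e := MulEquiv.ofBijective ζ hζ
  let χ : Q → Q → ZMod p := fun x g => Multiplicative.toAdd (e.symm (PGroups.commutatorHom hc x g))
  have hχmul : ∀ x g h, χ x (g * h) = χ x g + χ x h := fun x g h => by
    simp only [χ, map_mul, toAdd_mul]
  have hχ : ∀ x g, ⁅g, x⁆ = z ^ (χ x g).val := fun x g => by
    have h1 : e (e.symm (PGroups.commutatorHom hc x g)) = PGroups.commutatorHom hc x g :=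
      e.apply_symm_apply _
    have h2 : e (Multiplicative.ofAdd (χ x g)) = zc ^ (χ x g).val := powHom_apply zc hzcp _
    simp only [χ, ofAdd_toAdd] at h2
    rw [h1] at h2
    have h3 := congrArg Subtype.val h2
    rw [Subgroup.coe_pow] at h3
    exact h3
  let κ : Q →* Multiplicative (Fin 2 → ZMod p) :=
    MonoidHom.mk' (fun g => Multiplicative.ofAdd ![χ b g, -χ a g]) fun g h => by
      rw [← ofAdd_add]
      congr 1
      funext i
      fin_cases i <;> simp [hχmul]; ring
  have hχ0 : ∀ x g, χ x g = 0 → Commute g x := fun x g h => by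
    have := hχ x g
    rw [h, ZMod.val_zero, pow_zero] at this
    exact commutatorElement_eq_one_iff_commute.mp this
  have hker : κ.ker ≤ center Q := by
    intro g hg
    obtain ⟨hdec, hidx, -⟩ := PGroups.centralizer_pair hc hE.2 hab
    have hCZ : centralizer ({a, b} : Set Q) = center Q := by
      have hle : center Q ≤ centralizer ({a, b} : Set Q) := fun w hw =>
        Subgroup.mem_centralizer_iff.mpr fun s _ => Subgroup.mem_center_iff.mp hw s
      refine (Subgroup.eq_of_le_of_card_ge hle ?_).symm
      have := Subgroup.card_mul_index (centralizer ({a, b} : Set Q))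
      rw [hidx, hcard, show p ^ 3 = p * p ^ 2 by ring] at this
      rw [hE.2]
      exact (Nat.eq_of_mul_eq_mul_right (pow_pos hp.out.pos 2) this).le
    rw [← hCZ]
    have h := congrArg Multiplicative.toAdd (MonoidHom.mem_ker.mp hg)
    have h0 := congrFun h 0
    have h1 := congrFun h 1
    simp only [κ, MonoidHom.mk'_apply, toAdd_ofAdd, toAdd_one, Pi.zero_apply, Matrix.cons_val_zero,
      Matrix.cons_val_one, neg_eq_zero] at h0 h1
    exact PGroups.mem_centralizer_pair.mpr ⟨commutatorElement_eq_one_iff_commute.mpr (hχ0 _ _ h1),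
      commutatorElement_eq_one_iff_commute.mpr (hχ0 _ _ h0)⟩
  have hker' : κ.ker = center Q := by
    refine le_antisymm hker fun w hw => ?_
    have : ∀ x, χ x w = 0 := fun x => by
      have : PGroups.commutatorHom hc x w = 1 := Subtype.ext (by
        rw [PGroups.commutatorHom_apply]
        exact commutatorElement_eq_one_iff_commute.mpr (Subgroup.mem_center_iff.mp hw x).symm)
      simp only [χ, this, map_one, toAdd_one]
    rw [MonoidHom.mem_ker]
    refine Multiplicative.toAdd.injective (funext fun i => ?_)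
    fin_cases i <;> simp [κ, this]
  have hsurj : Function.Surjective κ := by
    rw [← MonoidHom.range_eq_top]
    refine Subgroup.eq_top_of_card_eq _ ?_
    have h1 : κ.ker.index = Nat.card κ.range := Subgroup.index_ker κ
    have h2 := Subgroup.card_mul_index κ.ker
    rw [hker', hE.2, hcard, show p ^ 3 = p * p ^ 2 by ring] at h2
    rw [← h1, hker', Nat.eq_of_mul_eq_mul_left hp.out.pos h2, Nat.card_congr Multiplicative.toAdd,
      Nat.card_fun, Nat.card_zmod, Nat.card_fin]
  refine ⟨z, κ, hzc, hab, hsurj, hker', fun g h => ?_⟩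
  -- decompose both elements along the two generators
  set u := Multiplicative.toAdd (κ g) with hu
  set v := Multiplicative.toAdd (κ h) with hv
  have hpow : ∀ (x y : Q) (n : ℕ), χ x (y ^ n) = n * χ x y := by
    intro x y n
    induction n with
    | zero => simp [χ]
    | succ n ih => rw [pow_succ, hχmul, ih]; push_cast; ring
  have hzero : ∀ y w : Q, ⁅y, w⁆ = 1 → χ w y = 0 := by
    intro y w hyw
    have : PGroups.commutatorHom hc w y = 1 := Subtype.ext hyw
    simp only [χ, this, map_one, toAdd_one]
  have hba : χ b a = 1 := by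
    have : PGroups.commutatorHom hc b a = ζ (Multiplicative.ofAdd ((1 : ℕ) : ZMod p)) := by
      rw [powHom_natCast, pow_one]; exact Subtype.ext rfl
    simp only [χ]
    rw [show e.symm (PGroups.commutatorHom hc b a) = Multiplicative.ofAdd ((1 : ℕ) : ZMod p) from
      e.injective (by rw [e.apply_symm_apply, this]; rfl)]
    simp
  have hab' : χ a b = -1 := by
    have h1 : PGroups.commutatorHom hc a b = (PGroups.commutatorHom hc b a)⁻¹ := Subtype.ext (by
      simp only [PGroups.commutatorHom_apply, Subgroup.coe_inv]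
      exact (commutatorElement_inv a b).symm)
    simp only [χ] at hba ⊢
    rw [h1, map_inv, toAdd_inv, hba]
  have haa : χ a a = 0 := hzero a a (commutatorElement_self a)
  have hbb : χ b b = 0 := hzero b b (commutatorElement_self b)
  -- the element a^(u 0) * b^(u 1) has the coordinates of g
  have hrep : ∀ w : Fin 2 → ZMod p, κ (a ^ (w 0).val * b ^ (w 1).val) = Multiplicative.ofAdd w := by
    intro w
    refine Multiplicative.toAdd.injective (funext fun i => ?_)
    fin_cases i <;> simp [κ, hχmul, hpow, hba, hab', haa, hbb]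
  have hg : g * (a ^ (u 0).val * b ^ (u 1).val)⁻¹ ∈ center Q := by
    rw [← hker', MonoidHom.mem_ker, map_mul, map_inv, hrep, hu, ofAdd_toAdd, mul_inv_cancel]
  have hh : h * (a ^ (v 0).val * b ^ (v 1).val)⁻¹ ∈ center Q := by
    rw [← hker', MonoidHom.mem_ker, map_mul, map_inv, hrep, hv, ofAdd_toAdd, mul_inv_cancel]
  have hk : χ h g = u 0 * v 1 - u 1 * v 0 := by
    have hg0 : χ h g = χ h (a ^ (u 0).val * b ^ (u 1).val) := by
      have := hχmul h (g * (a ^ (u 0).val * b ^ (u 1).val)⁻¹) (a ^ (u 0).val * b ^ (u 1).val)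
      rw [inv_mul_cancel_right, hzero _ h (commutatorElement_eq_one_iff_commute.mpr
        (Subgroup.mem_center_iff.mp hg h).symm), zero_add] at this
      exact this
    have hanti : ∀ x y, χ x y = -χ y x := fun x y => by
      have h1 : PGroups.commutatorHom hc x y = (PGroups.commutatorHom hc y x)⁻¹ := Subtype.ext (by
        simp only [PGroups.commutatorHom_apply, Subgroup.coe_inv]
        exact (commutatorElement_inv x y).symm)
      simp only [χ]
      rw [h1, map_inv, toAdd_inv]
    have hcoord : ∀ x, χ x h = χ x (a ^ (v 0).val * b ^ (v 1).val) := fun x => by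
      have := hχmul x (h * (a ^ (v 0).val * b ^ (v 1).val)⁻¹) (a ^ (v 0).val * b ^ (v 1).val)
      rw [inv_mul_cancel_right, hzero _ x (commutatorElement_eq_one_iff_commute.mpr
        (Subgroup.mem_center_iff.mp hh x).symm), zero_add] at this
      exact this
    rw [hg0, hχmul, hpow, hpow, hanti h a, hanti h b, hcoord a, hcoord b, hχmul, hχmul, hpow, hpow, hpow, hpow,
      haa, hbb, hba, hab', ZMod.natCast_zmod_val, ZMod.natCast_zmod_val, ZMod.natCast_zmod_val,
      ZMod.natCast_zmod_val]
    ring
  rw [hχ h g, hk]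

end Cfsg.Agent.H76.EC
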