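import Mathlib

/-!
Elements of the form g⁻¹β(g) and fixed points of β.
-/

set_option autoImplicit false

namespace Cfsg.Agent.H76

variable {G : Type*} [Group G] [Finite G]

theorem card_range_mul_card_eqLocus (β : G →* G) :
    Nat.card (Set.range fun g : G => g⁻¹ * β g) * Nat.card (β.eqLocus (MonoidHom.id G)) =
      Nat.card G := by
  have key : ∀ (c : β.eqLocus (MonoidHom.id G)) (g : G),
      ((c : G) * g)⁻¹ * β ((c : G) * g) = g⁻¹ * β g := by
    intro c g
    have hc : β (c : G) = c := c.2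
    rw [map_mul, hc]; group
  let s : (Set.range fun g : G => g⁻¹ * β g) → G := fun t => t.2.choose
  have hs : ∀ t : (Set.range fun g : G => g⁻¹ * β g), (s t)⁻¹ * β (s t) = t.1 :=
    fun t => t.2.choose_spec
  rw [← Nat.card_prod]
  refine Nat.card_congr (Equiv.ofBijective (fun a => (a.2 : G) * s a.1) ⟨?_, ?_⟩)
  · rintro ⟨t, c⟩ ⟨t', c'⟩ h
    have ht : t = t' := by
      apply Subtype.ext
      rw [← hs t, ← hs t', ← key c (s t), ← key c' (s t')]
      simp only at h
      rw [h]
    subst ht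
    obtain rfl : c = c' := Subtype.ext (mul_right_cancel h)
    rfl
  · intro g
    set t : (Set.range fun g : G => g⁻¹ * β g) := ⟨g⁻¹ * β g, g, rfl⟩
    have h1 : (s t)⁻¹ * β (s t) = g⁻¹ * β g := hs t
    refine ⟨(t, ⟨g * (s t)⁻¹, ?_⟩), by simp⟩
    show β (g * (s t)⁻¹) = g * (s t)⁻¹
    rw [map_mul, map_inv]
    have h2 : β g = g * ((s t)⁻¹ * β (s t)) := by rw [h1]; group
    rw [h2]; group

end Cfsg.Agent.H76
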