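import Mathlib
import Cfsg.Prelude.Def_OddOrderLocal

/-!
A Hall subgroup which is a TI subgroup contains every π-subgroup up to conjugacy (Wielandt).
-/

set_option autoImplicit false

namespace Cfsg.Agent.H76

/-- Lower bound for the union of the conjugates of a self-normalising TI subgroup. -/
theorem index_mul_le_ncard_conj {K : Type*} [Group K] [Finite K] (U : Subgroup K)
    (hU : ∀ k : K, ∀ u ∈ U, u ≠ 1 → k * u * k⁻¹ ∈ U → k ∈ U) :
    U.index * (Nat.card U - 1) ≤ {z : K | z ≠ 1 ∧ ∃ k : K, k⁻¹ * z * k ∈ U}.ncard := by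
  classical
  let D := {u : K | u ∈ U ∧ u ≠ 1}
  let F : (K ⧸ U) × D → {z : K | z ≠ 1 ∧ ∃ k : K, k⁻¹ * z * k ∈ U} := fun qu =>
    ⟨qu.1.out * (qu.2 : K) * qu.1.out⁻¹,
      fun h => qu.2.2.2 (conj_eq_one_iff.mp h), qu.1.out, by
        have := qu.2.2.1
        group
        exact this⟩
  have hF : Function.Injective F := by
    rintro ⟨q, u⟩ ⟨q', u'⟩ h
    have h' : q.out * (u : K) * q.out⁻¹ = q'.out * (u' : K) * q'.out⁻¹ := congrArg Subtype.val h
    have h1 : (q'.out⁻¹ * q.out) * (u : K) * (q'.out⁻¹ * q.out)⁻¹ = u' := by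
      calc (q'.out⁻¹ * q.out) * (u : K) * (q'.out⁻¹ * q.out)⁻¹
          = q'.out⁻¹ * (q.out * (u : K) * q.out⁻¹) * q'.out := by group
        _ = q'.out⁻¹ * (q'.out * (u' : K) * q'.out⁻¹) * q'.out := by rw [h']
        _ = u' := by group
    have hk : q'.out⁻¹ * q.out ∈ U := hU _ u u.2.1 u.2.2 (by rw [h1]; exact u'.2.1)
    have hq : q' = q := by
      have := QuotientGroup.eq.mpr hk
      simpa using this
    subst hq
    have : (u : K) = u' := by simpa using h1
    simp [Subtype.ext this]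
  have hD : Nat.card D = Nat.card U - 1 := by
    have h0 : D = (U : Set K) \ {1} := by ext; simp [D]
    rw [Nat.card_coe_set_eq, h0, Set.ncard_sdiff_singleton_of_mem U.one_mem]
    rfl
  have := Nat.card_le_card_of_injective F hF
  rw [Nat.card_prod, hD, Nat.card_coe_set_eq] at this
  exact this

variable {G : Type*} [Group G] [Finite G]

omit [Finite G] in
/-- Two conjugates of a TI subgroup sharing a non-identity element are equal. -/
theorem ti_conj_unique {H : Subgroup G} (hTI : Cfsg.IsTISubset (H : Set G)) {a b x : G}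
    (hx : x ≠ 1) (ha : a⁻¹ * x * a ∈ H) (hb : b⁻¹ * x * b ∈ H) :
    a⁻¹ * b ∈ Subgroup.normalizer (H : Set G) := by
  by_contra hn
  apply hx
  have h2 := hTI (a⁻¹ * b) hn (b⁻¹ * x * b) hb (by
    have : a⁻¹ * b * (b⁻¹ * x * b) * (a⁻¹ * b)⁻¹ = a⁻¹ * x * a := by group
    rw [this]; exact ha)
  calc x = b * (b⁻¹ * x * b) * b⁻¹ := by group
    _ = 1 := by rw [h2]; group

/-- An element normalising `H` of order prime to `[N(H) : H]` lies in `H`. -/
theorem mem_of_mem_normalizer_of_coprime {H : Subgroup G} {y : G}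
    (hy : y ∈ Subgroup.normalizer (H : Set G))
    (hcop : (orderOf y).Coprime (H.subgroupOf (Subgroup.normalizer (H : Set G))).index) :
    y ∈ H := by
  set N := Subgroup.normalizer (H : Set G)
  have h1 : orderOf (QuotientGroup.mk' (H.subgroupOf N) ⟨y, hy⟩) ∣ orderOf y := by
    refine (orderOf_map_dvd _ _).trans ?_
    rw [← Subgroup.orderOf_coe]
  have h2 : orderOf (QuotientGroup.mk' (H.subgroupOf N) ⟨y, hy⟩) ∣ (H.subgroupOf N).index :=
    orderOf_dvd_natCard _
  have h3 := Nat.eq_one_of_dvd_coprimes hcop h1 h2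
  rw [orderOf_eq_one_iff, QuotientGroup.mk'_apply, QuotientGroup.eq_one_iff] at h3
  exact h3

/-- If all primes of `m` divide `n` and `n` is coprime to `k`, then `m` is coprime to `k`. -/
theorem coprime_of_primes_dvd {m n k : ℕ} (h : ∀ q : ℕ, q.Prime → q ∣ m → q ∣ n)
    (hnk : n.Coprime k) : m.Coprime k :=
  Nat.coprime_of_dvd fun q hq h1 h2 => Nat.not_coprime_of_dvd_of_dvd hq.one_lt (h q hq h1) h2 hnk

/-- **Wielandt**: a Hall TI subgroup dominates all π-subgroups. -/
theorem ti_hall_dominates {H : Subgroup G} (hHall : (Nat.card H).Coprime H.index)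
    (hTI : Cfsg.IsTISubset (H : Set G)) (K : Subgroup G)
    (hK : ∀ q : ℕ, q.Prime → q ∣ Nat.card K → q ∣ Nat.card H) :
    ∃ g : G, ∀ y ∈ K, g⁻¹ * y * g ∈ H := by
  induction hn : Nat.card K using Nat.strong_induction_on generalizing K with
  | _ n ih => ?_
  subst hn
  replace ih : ∀ L : Subgroup G, L < K → ∃ g : G, ∀ y ∈ L, g⁻¹ * y * g ∈ H := fun L hL =>
    ih _ (lt_of_le_of_ne (Subgroup.card_le_of_le hL.le)
        (fun h => hL.ne (Subgroup.eq_of_le_of_card_ge hL.le h.ge))) L
      (fun q hq h => hK q hq (h.trans (Subgroup.card_dvd_of_le hL.le))) rfl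
  -- p-groups
  by_cases hpg : ∃ p : ℕ, p.Prime ∧ IsPGroup p K
  · obtain ⟨p, hp, hKp⟩ := hpg
    have := Fact.mk hp
    by_cases hK1 : K = ⊥
    · exact ⟨1, by simp [hK1]⟩
    have hpH : p ∣ Nat.card H := by
      refine hK p hp ?_
      obtain ⟨k, hk⟩ := hKp.exists_card_eq
      rcases Nat.eq_zero_or_pos k with rfl | hk0
      · exact absurd (Subgroup.eq_bot_of_card_eq K (by simpa using hk)) hK1
      · rw [hk]; exact dvd_pow_self p hk0.ne'
    obtain ⟨S⟩ : Nonempty (Sylow p H) := inferInstance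
    have hS : Nat.card (S.1.map H.subtype) = p ^ (Nat.card G).factorization p := by
      rw [Subgroup.card_map_of_injective (Subgroup.subtype_injective _), Sylow.card_eq_multiplicity]
      congr 1
      rw [← Subgroup.card_mul_index H, Nat.factorization_mul Nat.card_pos.ne'
        Subgroup.index_ne_zero_of_finite]
      have : ¬ p ∣ H.index := fun h => Nat.not_coprime_of_dvd_of_dvd hp.one_lt hpH h hHall
      simp [Nat.factorization_eq_zero_of_not_dvd this]
    obtain ⟨Q, hQ⟩ := hKp.exists_le_sylow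
    obtain ⟨g, hg⟩ := MulAction.exists_smul_eq G (Sylow.ofCard _ hS) Q
    refine ⟨g, fun y hy => ?_⟩
    have := hQ hy
    rw [← hg] at this
    obtain ⟨z, hz, rfl⟩ := this
    have hzH : z ∈ H := Subgroup.map_subtype_le _ hz
    convert hzH using 1
    simp [MulAut.conj_apply, mul_assoc]
  -- main case
  by_contra hno
  have hne : K ≠ ⊥ := fun h => hpg ⟨2, Nat.prime_two, by rw [h]; exact IsPGroup.of_bot⟩
  have hcop : ∀ y ∈ K, (orderOf y).Coprime
      (H.subgroupOf (Subgroup.normalizer (H : Set G))).index := fun y hy =>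
    coprime_of_primes_dvd (fun q hq h => hK q hq (h.trans (by
        rw [← Subgroup.orderOf_mk y hy]; exact orderOf_dvd_natCard _)))
      (hHall.coprime_dvd_right (Subgroup.relIndex_dvd_index_of_le Subgroup.le_normalizer))
  -- an element of `K` normalising a conjugate of `H` lies in it
  have hnorm : ∀ (a y : G), y ∈ K → a⁻¹ * y * a ∈ Subgroup.normalizer (H : Set G) →
      a⁻¹ * y * a ∈ H := by
    intro a y hy hay
    apply mem_of_mem_normalizer_of_coprime hay
    have : orderOf (a⁻¹ * y * a) = orderOf y := by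
      simpa using orderOf_injective (MulAut.conj a⁻¹).toMonoidHom (MulEquiv.injective _) y
    rw [this]
    exact hcop y hy
  -- every element of `K` lies in a conjugate of `H`
  have hall : ∀ y ∈ K, y ≠ 1 → ∃ a : G, a⁻¹ * y * a ∈ H := by
    intro y hy _
    rcases (Subgroup.zpowers_le.mpr hy).lt_or_eq with h | h
    · obtain ⟨g, hg⟩ := ih _ h
      exact ⟨g, hg y (Subgroup.mem_zpowers y)⟩
    · exfalso
      obtain ⟨p, hp, hpd⟩ := Nat.exists_prime_and_dvd (n := orderOf y)
        (fun h0 => hne (by rw [← h, orderOf_eq_one_iff.mp h0, Subgroup.zpowers_one_eq_bot]))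
      have := Fact.mk hp
      set z := y ^ (orderOf y / p) with hz
      have hzord : orderOf z = p := orderOf_pow_orderOf_div (orderOf_pos y).ne' hpd
      have hzK : Subgroup.zpowers z < K := by
        refine lt_of_le_of_ne (Subgroup.zpowers_le.mpr (pow_mem hy _)) fun he => hpg ⟨p, hp, ?_⟩
        rw [← he]
        exact IsPGroup.of_card (n := 1) (by rw [Nat.card_zpowers, hzord, pow_one])
      obtain ⟨a, ha⟩ := ih _ hzK
      refine hno ⟨a, fun w hw => hnorm a w hw ?_⟩
      have hz1 : z ≠ 1 := fun h0 => hp.one_lt.ne' (hzord.symm.trans (by rw [h0, orderOf_one]))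
      have haz := ha z (Subgroup.mem_zpowers z)
      have hcomm : Commute w z := by
        rw [← h] at hw
        obtain ⟨k, rfl⟩ := Subgroup.mem_zpowers_iff.mp hw
        exact (Commute.zpow_self y k).pow_right _
      have h3 : (w⁻¹ * a)⁻¹ * z * (w⁻¹ * a) ∈ H := by
        have : (w⁻¹ * a)⁻¹ * z * (w⁻¹ * a) = a⁻¹ * (w * z * w⁻¹) * a := by group
        rw [this, hcomm.eq, mul_inv_cancel_right]
        exact ha z (Subgroup.mem_zpowers z)
      have := ti_conj_unique hTI hz1 haz h3
      have h4 : a⁻¹ * (w⁻¹ * a) = (a⁻¹ * w * a)⁻¹ := by group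
      rw [h4, inv_mem_iff] at this
      exact this
  let U : G → Subgroup K := fun a => (H.map (MulAut.conj a).toMonoidHom).subgroupOf K
  have hmemU : ∀ (a : G) (y : K), y ∈ U a ↔ a⁻¹ * (y : G) * a ∈ H := by
    intro a y
    simp only [U, Subgroup.mem_subgroupOf]
    constructor
    · rintro ⟨z, hz, hzy⟩
      rw [← hzy]
      simpa [MulAut.conj_apply, mul_assoc] using hz
    · intro h
      exact ⟨_, h, by simp [MulAut.conj_apply, mul_assoc]⟩
  -- elements relating two `U`s by conjugation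
  have hrel : ∀ (a b : G) (k u : K), u ≠ 1 → u ∈ U a → k * u * k⁻¹ ∈ U b →
      b⁻¹ * ((k : G) * a) ∈ Subgroup.normalizer (H : Set G) := by
    intro a b k u hu ha hb
    rw [hmemU] at ha hb
    refine ti_conj_unique hTI (x := (k : G) * u * (k : G)⁻¹) ?_ (by simpa using hb) ?_
    · simpa [conj_eq_one_iff] using hu
    · have : ((k : G) * a)⁻¹ * ((k : G) * u * (k : G)⁻¹) * ((k : G) * a) = a⁻¹ * u * a := by group
      rw [this]; exact ha
  have hTIU : ∀ a : G, ∀ k : K, ∀ u ∈ U a, u ≠ 1 → k * u * k⁻¹ ∈ U a → k ∈ U a := by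
    intro a k u hu hu1 hk
    have h := hrel a a k u hu1 hu hk
    rw [hmemU]
    refine hnorm a k k.2 ?_
    simpa [mul_assoc] using h
  have hUlt : ∀ a : G, U a ≠ ⊤ := by
    intro a h
    exact hno ⟨a, fun y hy => (hmemU a ⟨y, hy⟩).mp (h ▸ Subgroup.mem_top _)⟩
  have hidx : ∀ a : G, 2 ≤ (U a).index := fun a =>
    Subgroup.one_lt_index_of_ne_top (hUlt a)
  let S : G → Set K := fun a => {z : K | z ≠ 1 ∧ ∃ k : K, k⁻¹ * z * k ∈ U a}
  have hS : ∀ a : G, ∀ y : K, y ≠ 1 → y ∈ U a → Nat.card K ≤ 2 * (S a).ncard := by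
    intro a y hy hya
    have h1 := index_mul_le_ncard_conj (U a) (hTIU a)
    have h2 : 2 ≤ Nat.card (U a) := by
      by_contra hc
      have := Subgroup.eq_bot_of_card_le (U a) (by omega)
      rw [this, Subgroup.mem_bot] at hya
      exact hy hya
    calc Nat.card K = (U a).index * Nat.card (U a) := (Subgroup.index_mul_card _).symm
      _ ≤ (U a).index * (2 * (Nat.card (U a) - 1)) := Nat.mul_le_mul_left _ (by omega)
      _ = 2 * ((U a).index * (Nat.card (U a) - 1)) := by ring
      _ ≤ 2 * (S a).ncard := Nat.mul_le_mul_left 2 h1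
  have hSsub : ∀ a : G, S a ⊆ ({1} : Set K)ᶜ := fun a z hz => hz.1
  obtain ⟨x, hxK, hx1⟩ := K.bot_or_exists_ne_one.resolve_left hne
  obtain ⟨a, ha⟩ := hall x hxK hx1
  have hxa : (⟨x, hxK⟩ : K) ∈ U a := (hmemU a _).mpr ha
  -- the conjugates of `U a` miss some element
  obtain ⟨x', hx'1, hx'S⟩ : ∃ x' : K, x' ≠ 1 ∧ x' ∉ S a := by
    obtain ⟨x', hx'⟩ : ∃ x' : K, ∀ k : K, k⁻¹ * x' * k ∉ U a := by
      by_contra hcon
      push Not at hcon
      refine hUlt a (?_ : U a = ⊤)
      by_contra htop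
      -- conjugates of a proper subgroup do not cover
      have hcov : ({1} : Set K)ᶜ ⊆ {z : K | z ≠ 1 ∧ ∃ k : K, k⁻¹ * z * k ∈ U a} :=
        fun z hz => ⟨hz, hcon z⟩
      have hle : {z : K | z ≠ 1 ∧ ∃ k : K, k⁻¹ * z * k ∈ U a}.ncard ≤
          (U a).index * (Nat.card (U a) - 1) := by
        classical
        let F : (K ⧸ U a) × {u : K | u ∈ U a ∧ u ≠ 1} → K := fun qu =>
          qu.1.out * (qu.2 : K) * qu.1.out⁻¹
        have hsub : {z : K | z ≠ 1 ∧ ∃ k : K, k⁻¹ * z * k ∈ U a} ⊆ Set.range F := by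
          rintro z ⟨hz1, k, hk⟩
          obtain ⟨n, hn⟩ := QuotientGroup.mk_out_eq_mul (U a) k
          refine ⟨⟨QuotientGroup.mk k, ⟨(QuotientGroup.mk k : K ⧸ U a).out⁻¹ * z *
            (QuotientGroup.mk k : K ⧸ U a).out, ?_, ?_⟩⟩, ?_⟩
          · rw [hn]
            have := (U a).mul_mem ((U a).mul_mem ((U a).inv_mem n.2) hk) n.2
            simpa [mul_assoc] using this
          · intro h0
            apply hz1
            have := congrArg (fun t => (QuotientGroup.mk k : K ⧸ U a).out * t *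
              (QuotientGroup.mk k : K ⧸ U a).out⁻¹) h0
            simpa [mul_assoc] using this
          · simp [F, mul_assoc]
        refine (Set.ncard_le_ncard hsub).trans ?_
        rw [← Nat.card_coe_set_eq]
        refine (Finite.card_range_le F).trans (le_of_eq ?_)
        rw [Nat.card_prod, Nat.card_coe_set_eq]
        congr 1
        have h0 : {u : K | u ∈ U a ∧ u ≠ 1} = (U a : Set K) \ {1} := by ext; simp
        rw [h0, Set.ncard_sdiff_singleton_of_mem (U a).one_mem]
        rfl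
      have h5 := (Set.ncard_le_ncard hcov).trans hle
      have h6 := Set.ncard_add_ncard_compl ({1} : Set K)
      rw [Set.ncard_singleton, ← Subgroup.index_mul_card (U a)] at h6
      have h7 := hidx a
      have h8 : 1 ≤ Nat.card (U a) := Nat.card_pos
      rw [Nat.mul_sub, mul_one] at h5
      have h9 : (U a).index ≤ (U a).index * Nat.card (U a) := Nat.le_mul_of_pos_right _ h8
      omega
    refine ⟨x', fun h => hx' 1 (by simp [h]), fun h => ?_⟩
    obtain ⟨k, hk⟩ := h.2
    exact hx' k hk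
  obtain ⟨b, hb⟩ := hall x' x'.2 (by simpa using hx'1)
  have hxb : x' ∈ U b := (hmemU b _).mpr hb
  have hdisj : Disjoint (S a) (S b) := by
    rw [Set.disjoint_left]
    rintro z ⟨hz1, k, hk⟩ ⟨-, l, hl⟩
    apply hx'S
    refine ⟨hx'1, l⁻¹ * k, ?_⟩
    have h := hrel a b (l⁻¹ * k) (k⁻¹ * z * k)
      (fun h0 => hz1 (by have := congrArg (fun t => k * t * k⁻¹) h0; simpa [mul_assoc] using this)) hk
      (by simpa [mul_assoc] using hl)
    rw [hmemU]
    simp only [Subgroup.coe_mul, Subgroup.coe_inv] at h ⊢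
    have := (Subgroup.mem_normalizer_iff''.mp h (b⁻¹ * (x' : G) * b)).mp hb
    simpa [mul_assoc] using this
  have h1 := hS a _ (fun h => hx1 (congrArg Subtype.val h)) hxa
  have h2 := hS b _ hx'1 hxb
  have h3 := Set.ncard_le_ncard (Set.union_subset (hSsub a) (hSsub b))
  rw [Set.ncard_union_eq hdisj] at h3
  have h4 := Set.ncard_add_ncard_compl ({1} : Set K)
  rw [Set.ncard_singleton] at h4
  omega

end Cfsg.Agent.H76
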