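import Cfsg.Agent.H76.ClassTwoControl
import Cfsg.Agent.Thompson.NormalPComplement
import Cfsg.Agent.Cores.Residual
import Cfsg.Agent.Fusion.PComplement
import Cfsg.Agent.FusionSys.Alperin
import Cfsg.Agent.FusionSys.Group
import Cfsg.Agent.Coprime.External
import Cfsg.Agent.H25.Transfer

/-!
The equivariant theorem of Deskins, Janko and Thompson: if the group `G` has a maximal
`A`-invariant subgroup that is nilpotent with Sylow `2`-subgroups of class at most two (`A` of odd
order, coprime to `G`, solvable), then `G` is solvable.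
-/

set_option autoImplicit false

namespace Cfsg.Agent.H76.InvariantDJT

open Subgroup Cfsg

universe u v

/-- Triple commutators of `2`-elements of `M` vanish. -/
def TwoClassTwo {G : Type u} [Group G] (M : Subgroup G) : Prop :=
  ∀ a ∈ M, ∀ b ∈ M, ∀ c ∈ M, (∃ i, a ^ 2 ^ i = 1) → (∃ i, b ^ 2 ^ i = 1) → (∃ i, c ^ 2 ^ i = 1) →
    c * (a * b * a⁻¹ * b⁻¹) = a * b * a⁻¹ * b⁻¹ * c

/-- The hypotheses. -/
structure Hyp {G : Type u} [Group G] {A : Type v} [Group A] (φ : A →* MulAut G)
    (M : Subgroup G) : Prop where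
  oddA : Odd (Nat.card A)
  solA : Group.IsSolvable A
  coprime : (Nat.card A).Coprime (Nat.card G)
  ne_top : M ≠ ⊤
  inv : ∀ a : A, ∀ m ∈ M, φ a m ∈ M
  maximal : ∀ H : Subgroup G, M ≤ H → H ≠ ⊤ → (∀ a : A, ∀ h ∈ H, φ a h ∈ H) → H = M
  nil : Group.IsNilpotent M
  two : TwoClassTwo M

variable {G : Type u} [Group G] [Finite G] {A : Type v} [Group A] [Finite A] {φ : A →* MulAut G}
  {M : Subgroup G}

theorem normalizer_inv {X : Subgroup G} (hX : ∀ a : A, ∀ x ∈ X, φ a x ∈ X) :
    ∀ a : A, ∀ g ∈ normalizer (X : Set G), φ a g ∈ normalizer (X : Set G) := by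
  intro a g hg
  rw [mem_normalizer_iff] at hg ⊢
  intro y
  obtain ⟨z, rfl⟩ := (φ a).surjective y
  have hiff : ∀ w, φ a w ∈ X ↔ w ∈ X := fun w => ⟨fun h => by
    have := hX a⁻¹ _ h
    rwa [map_inv, MulAut.inv_apply_self] at this, hX a w⟩
  rw [← map_inv, ← map_mul, ← map_mul, hiff, hiff]
  exact hg z

theorem Hyp.hnorm (h : Hyp φ M) (hcore : M.normalCore = ⊥) : ∀ X : Subgroup G, X ≠ ⊥ → X ≤ M →
    M ≤ normalizer (X : Set G) → (∀ a : A, ∀ x ∈ X, φ a x ∈ X) →
    normalizer (X : Set G) = M := by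
  intro X hX hXM hle hinv
  refine h.maximal _ hle (fun htop => ?_) (normalizer_inv hinv)
  haveI : X.Normal := normalizer_eq_top_iff.mp htop
  exact hX (le_bot_iff.mp (hcore ▸ normal_le_normalCore.mpr hXM))

/-- The Sylow `p`-subgroup of `M` has a normal complement in `G`. -/
theorem Hyp.complement (h : Hyp φ M) (hcore : M.normalCore = ⊥) {p : ℕ} [Fact p.Prime]
    (hp : p ∣ Nat.card M) : Cfsg.HasNormalPComplement p G := by
  classical
  haveI := h.nil
  have hnorm := h.hnorm hcore
  obtain ⟨Q⟩ : Nonempty (Sylow p M) := inferInstance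
  set P := (Q : Subgroup M).map M.subtype with hP
  have hPM : P ≤ M := map_subtype_le _
  have hPp : IsPGroup p P := Q.isPGroup'.map _
  have hPne : P ≠ ⊥ := by
    rw [hP, Ne, map_eq_bot_iff_of_injective _ M.subtype_injective]
    exact fun h => Q.ne_bot_of_dvd_card hp h
  haveI hQn : (Q : Subgroup M).Normal :=
    (Group.isNilpotent_of_finite_tfae.out 0 3 rfl rfl).mp h.nil p ‹_› Q
  have hMP : M ≤ normalizer (P : Set G) := (normal_subgroupOf_iff_le_normalizer hPM).mp (by
    rw [hP, subgroupOf, comap_map_eq_self_of_injective M.subtype_injective]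
    infer_instance)
  have hQmem : ∀ x : M, (∃ i, (x : G) ^ p ^ i = 1) → x ∈ (Q : Subgroup M) := by
    rintro x ⟨i, hi⟩
    obtain ⟨Q', hQ'⟩ := (IsPGroup.of_card (p := p) (n := (Nat.dvd_prime_pow (Fact.out)).mp
      (orderOf_dvd_of_pow_eq_one (x := x) (Subtype.ext (by simpa using hi))) |>.choose)
      (G := zpowers x) (by
        rw [Nat.card_zpowers]
        exact ((Nat.dvd_prime_pow (Fact.out)).mp
          (orderOf_dvd_of_pow_eq_one (x := x) (Subtype.ext (by simpa using hi)))).choose_spec.2)
      ).exists_le_sylow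
    letI : Unique (Sylow p M) := Sylow.unique_of_normal Q hQn
    rw [Subsingleton.elim Q Q']
    exact hQ' (mem_zpowers x)
  have hPpow : ∀ x ∈ P, ∃ i, x ^ p ^ i = 1 := fun x hx => by
    obtain ⟨i, hi⟩ := hPp ⟨x, hx⟩
    exact ⟨i, congrArg Subtype.val hi⟩
  have hPinv : ∀ a : A, ∀ x ∈ P, φ a x ∈ P := by
    intro a x hx
    obtain ⟨i, hi⟩ := hPpow x hx
    exact ⟨⟨φ a x, h.inv a x (hPM hx)⟩, hQmem _ ⟨i, by rw [← map_pow, hi, map_one]⟩, rfl⟩
  have hPiff : ∀ (a : A) (x : G), φ a x ∈ P ↔ x ∈ P := fun a x => ⟨fun hx => by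
    have := hPinv a⁻¹ _ hx
    rwa [map_inv, MulAut.inv_apply_self] at this, hPinv a x⟩
  have hNP : normalizer (P : Set G) = M := hnorm P hPne hPM hMP hPinv
  obtain ⟨S, hS⟩ := hPp.exists_le_sylow
  have hSP : (S : Subgroup G) = P := by
    by_contra hne
    haveI := S.isPGroup'.isNilpotent
    have hne' : P.subgroupOf (S : Subgroup G) ≠ ⊤ := fun h =>
      hne (le_antisymm (subgroupOf_eq_top.mp h) hS)
    obtain ⟨x, hxN, hxP⟩ := SetLike.exists_of_lt
      (normalizerCondition_of_isNilpotent (G := (S : Subgroup G)) _ hne'.lt_top)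
    have hxM : (x : G) ∈ M := by
      rw [← hNP, mem_normalizer_iff]
      intro y
      constructor
      · intro hy
        exact ((mem_normalizer_iff.mp hxN ⟨y, hS hy⟩).mp hy : _)
      · intro hy
        have hyS : y ∈ (S : Subgroup G) := by
          have h := Subgroup.mul_mem _ (Subgroup.mul_mem _ (inv_mem x.2) (hS hy)) x.2
          simpa [mul_assoc] using h
        exact (mem_normalizer_iff.mp hxN ⟨y, hyS⟩).mpr hy
    obtain ⟨i, hi⟩ := S.isPGroup' x
    exact hxP ⟨⟨(x : G), hxM⟩, hQmem _ ⟨i, congrArg Subtype.val hi⟩, rfl⟩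
  by_cases hp2 : p = 2
  · subst hp2
    have hodd : ∀ m ∈ M, Odd (orderOf m) → ∀ s ∈ P, s * m = m * s := by
      intro m hm hmo s hs
      obtain ⟨i, hi⟩ := hPpow s hs
      exact congrArg Subtype.val (H25.commute_of_coprime_orderOf (G := M) ⟨s, hPM hs⟩ ⟨m, hm⟩ (by
        rw [Subgroup.orderOf_mk, Subgroup.orderOf_mk]
        exact Nat.Coprime.coprime_dvd_left (orderOf_dvd_of_pow_eq_one hi)
          ((Nat.coprime_two_left.mpr hmo).pow_left i)))
    have hset : ClassTwoMove.Setting φ M S := by
      refine ⟨h.oddA, hSP ▸ hPM, hSP ▸ hPne, ?_, fun a s => by rw [hSP]; exact hPiff a s,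
        hSP ▸ hodd, ?_, fun X h1 h2 h3 h4 => hnorm X h1 h2 h3 h4⟩
      · rw [hSP]
        intro a ha b hb c hc
        exact h.two a (hPM ha) b (hPM hb) c (hPM hc) (hPpow a ha) (hPpow b hb) (hPpow c hc)
      · intro m hm
        obtain ⟨x, y, hx, hy, hxy, ⟨k, hk⟩, hcop, -, -⟩ := H75.exists_split m Nat.prime_two
        rw [← hxy, hSP]
        refine mul_mem (mem_sup_left ?_) (mem_sup_right (mem_centralizer_iff.mpr fun s hs =>
          hodd y (zpowers_le.mpr hm hy) (Nat.coprime_two_right.mp hcop) s hs))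
        exact ⟨⟨x, zpowers_le.mpr hm hx⟩, hQmem _ ⟨k, hk ▸ pow_orderOf_eq_one x⟩, rfl⟩
    have hSpg : IsPGroup 2 (S : Subgroup G) := S.isPGroup'
    have hle : groupFusionSystem (S : Subgroup G) ≤ innerFusionSystem (S : Subgroup G) := by
      refine FusionSys.le_of_autGroup_centricRadical hSpg (FusionSys.isSaturated_group S)
        fun R _ hcen _ α hα => ?_
      obtain ⟨hRS, hC⟩ := hcen
      have hC := hC R (FusionSys.isConj_refl _ hRS)
      rw [FusionSys.autGroup_group hRS, FusionSys.mem_autInducedBy] at hα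
      obtain ⟨g, -, hg, rfl⟩ := hα
      obtain ⟨t, ht, c, hc, rfl⟩ := ClassTwoMove.mem_sup_centralizer
        (hset.le_normalizer_of_centric hRS hC) (hset.normalizer_le hRS hC hg)
      rw [FusionSys.mem_autGroup_iff hRS, FusionSys.isMap_inner_iff]
      refine ⟨hRS, t, ht, fun y hy => ?_⟩
      rw [FusionSys.autMap_conjAut hg hy]
      show (t * c) * y * (t * c)⁻¹ = t * y * t⁻¹
      have h1 : c * y * c⁻¹ = y := by
        rw [← mem_centralizer_iff.mp hc y hy, mul_inv_cancel_right]
      calc (t * c) * y * (t * c)⁻¹ = t * (c * y * c⁻¹) * t⁻¹ := by group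
        _ = t * y * t⁻¹ := by rw [h1]
    refine Fusion.hasNormalPComplement_of_self_controls S fun x hx g hg => ?_
    have hmap : FusionSys.IsMap (groupFusionSystem (S : Subgroup G)) (zpowers x)
        (fun y => g * y * g⁻¹) := by
      refine FusionSys.isMap_group_iff.mpr ⟨zpowers_le.mpr hx, g, fun y hy => ⟨?_, rfl⟩⟩
      obtain ⟨k, rfl⟩ := mem_zpowers_iff.mp hy
      rw [← conj_zpow]
      exact zpow_mem hg k
    obtain ⟨-, t, ht, h'⟩ := FusionSys.isMap_inner_iff.mp (FusionSys.le_iff_isMap.mp hle _ _ hmap)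
    exact ⟨t, ht, (h' x (mem_zpowers x)).symm⟩
  rw [Thompson.hasNormalPComplement_iff_zjay hp2 (Or.inr rfl) S, hSP]
  have hle : M ≤ normalizer (Thompson.zjay p P : Set G) :=
    hNP.ge.trans ((Thompson.normalizer_le_normalizer_jay p P).trans
      (Thompson.normalizer_jay_le_normalizer_zjay p P))
  have hzinv : ∀ a : A, ∀ x ∈ Thompson.zjay p P, φ a x ∈ Thompson.zjay p P := by
    intro a x hx
    have hPmap : P.map (φ a).toMonoidHom = P := by
      refine eq_of_le_of_card_ge (fun y hy => ?_) ?_
      · obtain ⟨z, hz, rfl⟩ := hy; exact hPinv a z hz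
      · exact (card_map_of_injective (K := P) (φ a).injective).ge
    have := Thompson.zjay_map (e := p) (P := P) (φ a).toMonoidHom (φ a).injective
    rw [hPmap] at this
    rw [this]
    exact mem_map_of_mem _ hx
  have hZ := hnorm _ (Thompson.zjay_ne_bot hPp hPne (Or.inr rfl)) (Thompson.zjay_le.trans hPM) hle
    hzinv
  rw [hZ]
  exact Fusion.hasNormalPComplement_of_isNilpotent

theorem TwoClassTwo.map {H : Type*} [Group H] (hM : TwoClassTwo M) (f : G →* H) :
    TwoClassTwo (M.map f) := by
  intro a ha b hb c hc ha2 hb2 hc2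
  have lift : ∀ v ∈ M.map f, (∃ i, v ^ 2 ^ i = 1) → ∃ u ∈ M, (∃ i, u ^ 2 ^ i = 1) ∧ f u = v := by
    rintro _ ⟨m, hm, rfl⟩ ⟨i, hi⟩
    obtain ⟨x, y, hx, hy, hxy, ⟨k, hk⟩, hcop, -, -⟩ := H75.exists_split m Nat.prime_two
    refine ⟨x, zpowers_le.mpr hm hx, ⟨k, hk ▸ pow_orderOf_eq_one x⟩, ?_⟩
    obtain ⟨j, hj⟩ := mem_zpowers_iff.mp hy
    have h1 : f y ^ 2 ^ i = 1 := by
      rw [← hj, map_zpow, ← zpow_natCast, ← zpow_mul, mul_comm, zpow_mul, zpow_natCast, hi, one_zpow]
    have h2 : f y = 1 := orderOf_eq_one_iff.mp (Nat.eq_one_of_dvd_coprimes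
      (hcop.pow_right i) (orderOf_map_dvd f y) (orderOf_dvd_of_pow_eq_one h1))
    rw [← hxy, map_mul, h2, mul_one]
  obtain ⟨a', ha', ha2', rfl⟩ := lift a ha ha2
  obtain ⟨b', hb', hb2', rfl⟩ := lift b hb hb2
  obtain ⟨c', hc', hc2', rfl⟩ := lift c hc hc2
  simpa only [map_mul, map_inv] using congrArg f (hM a' ha' b' hb' c' hc' ha2' hb2' hc2')

theorem aux (A : Type v) [Group A] [Finite A] : ∀ (n : ℕ) (G : Type u) [Group G] [Finite G],
    Nat.card G ≤ n → ∀ (φ : A →* MulAut G) (M : Subgroup G), Hyp φ M → Group.IsSolvable G := by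
  intro n
  induction n with
  | zero => intro G _ _ h; exact absurd h (not_le.mpr Nat.card_pos)
  | succ n IH =>
  intro G _ _ hcard φ M h
  haveI := h.nil
  haveI := h.solA
  by_cases hcore : M.normalCore = ⊥
  swap
  · set N := M.normalCore with hN
    have hNM : N ≤ M := normalCore_le M
    haveI : N.Normal := normalCore_normal M
    have hNinv : ∀ a : A, N.map (φ a).toMonoidHom = N := by
      intro a
      refine eq_of_le_of_card_ge ?_ ?_
      · haveI : (N.map (φ a).toMonoidHom).Normal :=
          Subgroup.Normal.map inferInstance _ (φ a).surjective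
        refine normal_le_normalCore.mpr ?_
        rintro _ ⟨x, hx, rfl⟩
        exact h.inv a x (hNM hx)
      · rw [card_map_of_injective (φ a).injective]
    let ψ : A →* MulAut (G ⧸ N) :=
      { toFun := fun a => QuotientGroup.congr N N (φ a) (hNinv a)
        map_one' := by
          ext x
          induction x using QuotientGroup.induction_on with
          | H g =>
            show ((φ 1 g : G) : G ⧸ N) = (g : G ⧸ N)
            rw [map_one, MulAut.one_apply]
        map_mul' := fun a b => by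
          ext x
          induction x using QuotientGroup.induction_on with
          | H g =>
            show ((φ (a * b) g : G) : G ⧸ N) = ((φ a (φ b g) : G) : G ⧸ N)
            rw [map_mul, MulAut.mul_apply] }
    have hψ : ∀ (a : A) (g : G), ψ a (QuotientGroup.mk' N g) = QuotientGroup.mk' N (φ a g) :=
      fun a g => rfl
    have hπ : Function.Surjective (QuotientGroup.mk' N) := QuotientGroup.mk'_surjective N
    have hlt : Nat.card (G ⧸ N) ≤ n := by
      have h1 := N.card_mul_index
      rw [index_eq_card] at h1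
      have h2 := (one_lt_card_iff_ne_bot N).mpr hcore
      have h3 := Nat.card_pos (α := G ⧸ N)
      nlinarith
    have hself : (M.map (QuotientGroup.mk' N)).comap (QuotientGroup.mk' N) = M :=
      comap_map_eq_self (by rwa [QuotientGroup.ker_mk'])
    haveI hs : Group.IsSolvable (G ⧸ N) := IH (G ⧸ N) hlt ψ (M.map (QuotientGroup.mk' N))
      ⟨h.oddA, h.solA, h.coprime.coprime_dvd_right (card_quotient_dvd_card N),
        fun he => h.ne_top (by rw [← hself, he, comap_top]),
        by
          rintro a _ ⟨m, hm, rfl⟩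
          exact ⟨φ a m, h.inv a m hm, (hψ a m).symm⟩,
        fun H hMH hH hinv => by
          have := h.maximal (H.comap (QuotientGroup.mk' N)) (hself ▸ comap_mono hMH)
            (fun he => hH (by
              rw [← map_comap_eq_self_of_surjective hπ H, he, map_top_of_surjective _ hπ]))
            (fun a g hg => by
              show QuotientGroup.mk' N (φ a g) ∈ H
              rw [← hψ]; exact hinv a _ hg)
          rw [← this, map_comap_eq_self_of_surjective hπ],
        Group.nilpotent_of_surjective ((QuotientGroup.mk' N).subgroupMap M)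
          ((QuotientGroup.mk' N).subgroupMap_surjective M),
        h.two.map _⟩
    haveI : Group.IsSolvable N :=
      Group.isSolvable_of_isSolvable_injective (f := inclusion hNM) (inclusion_injective hNM)
    exact Group.isSolvable_of_ker_le_range N.subtype (QuotientGroup.mk' N)
      (by rw [QuotientGroup.ker_mk', range_subtype])
  letI act : MulDistribMulAction A G := MulDistribMulAction.compHom G φ
  have hsmul : ∀ (a : A) (g : G), a • g = φ a g := fun _ _ => rfl
  by_cases hM : M = ⊥
  · by_cases hG : ∀ g : G, g = 1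
    · exact Group.isSolvable_of_comm fun a b => by rw [hG a, hG b]
    push Not at hG
    obtain ⟨g, hg⟩ := hG
    obtain ⟨q, hq, hqd⟩ := Nat.exists_prime_and_dvd (mt orderOf_eq_one_iff.mp hg)
    haveI : Fact q.Prime := ⟨hq⟩
    obtain ⟨P, hP⟩ := Coprime.exists_invariant_sylow' (A := A) (G := G) h.coprime (Or.inl h.solA) q
    have htop : (P : Subgroup G) = ⊤ := by
      by_contra hne
      have hbot : (P : Subgroup G) = M :=
        h.maximal _ (hM ▸ bot_le) hne fun a x hx => hsmul a x ▸ hP a x hx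
      rw [hM] at hbot
      exact P.ne_bot_of_dvd_card (hqd.trans (orderOf_dvd_natCard g)) hbot
    haveI : Group.IsNilpotent (⊤ : Subgroup G) := htop ▸ P.isPGroup'.isNilpotent
    haveI : Group.IsNilpotent G := Group.nilpotent_of_surjective
      (Subgroup.topEquiv (G := G)).toMonoidHom (Subgroup.topEquiv (G := G)).surjective
    infer_instance
  set K := ⨅ p : (Nat.card M).primeFactors, Cfsg.pResidual (p : ℕ) G with hK
  haveI : K.Normal := normal_iInf_normal fun _ => inferInstance
  have hcop : (Nat.card M).Coprime (Nat.card K) := by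
    by_contra hnc
    obtain ⟨p, hp, hpM, hpK⟩ := Nat.Prime.not_coprime_iff_dvd.mp hnc
    haveI : Fact p.Prime := ⟨hp⟩
    have hmem : p ∈ (Nat.card M).primeFactors :=
      Nat.mem_primeFactors.mpr ⟨hp, hpM, Nat.card_pos.ne'⟩
    have hle : K ≤ Cfsg.pResidual p G :=
      iInf_le (fun q : (Nat.card M).primeFactors => Cfsg.pResidual (q : ℕ) G) ⟨p, hmem⟩
    exact (hp.coprime_iff_not_dvd.mp ((Cores.hasNormalPComplement_iff_coprime.mp
      (h.complement hcore hpM)).coprime_dvd_left (card_dvd_of_le hle)).symm) hpK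
  have hKinv : ∀ a : A, ∀ x ∈ K, φ a x ∈ K := by
    intro a x hx
    rw [hK, mem_iInf]
    intro p
    exact Cores.pResidual_map_le (φ a).toMonoidHom ⟨x, (mem_iInf.mp hx) p, rfl⟩
  have hK0 : K ≠ ⊥ := by
    intro hb
    haveI : ∀ p : (Nat.card M).primeFactors, Group.IsNilpotent (G ⧸ Cfsg.pResidual (p : ℕ) G) :=
      fun p => by
        haveI : Fact (p : ℕ).Prime := ⟨Nat.prime_of_mem_primeFactors p.2⟩
        exact IsPGroup.isNilpotent Cores.isPGroup_quotient_pResidual
    let f : G →* ∀ p : (Nat.card M).primeFactors, G ⧸ Cfsg.pResidual (p : ℕ) G :=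
      Pi.monoidHom fun p => QuotientGroup.mk' _
    have hf : Function.Injective f := by
      rw [← MonoidHom.ker_eq_bot_iff, eq_bot_iff, ← hb]
      intro x hx
      rw [hK, mem_iInf]
      exact fun p => (QuotientGroup.eq_one_iff x).mp (congrFun (MonoidHom.mem_ker.mp hx) p)
    haveI : Group.IsNilpotent f.range := inferInstance
    haveI : Group.IsNilpotent G := Group.nilpotent_of_surjective
      (MonoidHom.ofInjective hf).symm.toMonoidHom (MonoidHom.ofInjective hf).symm.surjective
    have h1 : normalizer (M : Set G) = M :=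
      h.hnorm hcore M hM le_rfl le_normalizer h.inv
    have h2 : normalizerCondition_of_isNilpotent (G := G) M h.ne_top.lt_top =
        normalizerCondition_of_isNilpotent (G := G) M h.ne_top.lt_top := rfl
    exact (normalizerCondition_of_isNilpotent (G := G) M h.ne_top.lt_top).ne h1.symm
  obtain ⟨q, hq, hqK⟩ := Nat.exists_prime_and_dvd ((one_lt_card_iff_ne_bot K).mpr hK0).ne'
  haveI : Fact q.Prime := ⟨hq⟩
  -- an invariant Sylow subgroup in the semidirect product
  let E := Coprime.Ext A G
  let M' : Subgroup E := M.map SemidirectProduct.inl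
  let K' : Subgroup E := K.map SemidirectProduct.inl
  let MA : Subgroup E := M' ⊔ Coprime.extA
  have hAM : (Coprime.extA : Subgroup E) ≤ normalizer (M' : Set E) :=
    Coprime.extA_le_normalizer_map.mpr fun a x hx => (hsmul a x).symm ▸ h.inv a x hx
  have hMK : MA ≤ normalizer (K' : Set E) := by
    refine sup_le ?_ (Coprime.extA_le_normalizer_map.mpr fun a x hx =>
      (hsmul a x).symm ▸ hKinv a x hx)
    rintro _ ⟨m, -, rfl⟩
    refine Coprime.mem_normalizer_of_map_conj ?_
    rw [Coprime.map_conj_inl, Coprime.map_conj_eq]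
    rw [normalizer_eq_top]
    exact mem_top _
  have hMA : Nat.card MA ∣ Nat.card M * Nat.card A := by
    set N := normalizer (M' : Set E) with hN
    have h1 : M' ≤ N := le_normalizer
    haveI : (M'.subgroupOf N).Normal := (normal_subgroupOf_iff_le_normalizer h1).mpr le_rfl
    have h2 := Cores.card_sup_mul_card_inf (Coprime.extA.subgroupOf N) (M'.subgroupOf N)
    rw [← subgroupOf_sup hAM h1, Nat.card_congr (subgroupOfEquivOfLe hAM).toEquiv,
      Nat.card_congr (subgroupOfEquivOfLe h1).toEquiv,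
      Nat.card_congr (subgroupOfEquivOfLe (sup_le hAM h1)).toEquiv, Coprime.card_extA,
      Coprime.card_map_inl, sup_comm] at h2
    exact ⟨_, by rw [mul_comm (Nat.card M)]; exact h2.symm⟩
  have hcop' : (Nat.card MA).Coprime (Nat.card K') := by
    refine Nat.Coprime.coprime_dvd_left hMA ?_
    rw [Coprime.card_map_inl]
    exact hcop.mul_left (h.coprime.coprime_dvd_right (card_subgroup_dvd_card K))
  have hsolMA : Group.IsSolvable MA := by
    set N := M'.subgroupOf MA with hN
    haveI : N.Normal := (normal_subgroupOf_iff_le_normalizer le_sup_left).mpr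
      (sup_le le_normalizer hAM)
    haveI : Group.IsSolvable N := by
      let f : M →* N := ((SemidirectProduct.inl.comp M.subtype).codRestrict MA
        fun m => mem_sup_left (mem_map_of_mem _ m.2)).codRestrict N fun m => mem_map_of_mem _ m.2
      refine Group.isSolvable_of_surjective (f := f) fun y => ?_
      obtain ⟨m, hm, he⟩ := mem_subgroupOf.mp y.2
      exact ⟨⟨m, hm⟩, Subtype.ext (Subtype.ext he)⟩
    haveI : Group.IsSolvable (MA ⧸ N) := by
      let f : A →* MA := (SemidirectProduct.inr : A →* E).codRestrict MA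
        fun a => mem_sup_right ⟨a, rfl⟩
      refine Group.isSolvable_of_surjective (f := (QuotientGroup.mk' N).comp f) fun y => ?_
      induction y using QuotientGroup.induction_on with
      | H z =>
        have hz : (z : E) ∈ M' ⊔ Coprime.extA := z.2
        rw [← SetLike.mem_coe, coe_mul_of_right_le_normalizer_left _ _ hAM] at hz
        obtain ⟨m, hm, b, ⟨a, rfl⟩, he⟩ := Set.mem_mul.mp hz
        refine ⟨a, ?_⟩
        show ((f a : MA) : MA ⧸ N) = (z : MA ⧸ N)
        refine QuotientGroup.eq.mpr (mem_subgroupOf.mpr ?_)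
        show (SemidirectProduct.inr a : E)⁻¹ * (z : E) ∈ M'
        rw [← he]
        have := (mem_normalizer_iff.mp (hAM (inv_mem ⟨a, rfl⟩)) m).mp hm
        simpa [mul_assoc] using this
    exact Group.isSolvable_of_ker_le_range N.subtype (QuotientGroup.mk' N)
      (by rw [QuotientGroup.ker_mk', range_subtype])
  obtain ⟨Q, hQ⟩ := Coprime.exists_invariant_sylow hMK hcop' (Or.inl hsolMA) q
  set R' := (Q : Subgroup K').map K'.subtype with hR'
  set R := R'.comap (SemidirectProduct.inl : G →* E) with hR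
  have hR'K : R' ≤ K' := map_subtype_le _
  have hRmap : R.map SemidirectProduct.inl = R' :=
    map_comap_eq_self (hR'K.trans (map_le_range _ _))
  have hRK : R ≤ K := fun x hx => Coprime.inl_mem_map.mp (hR'K hx)
  have hRne : R ≠ ⊥ := by
    intro hb
    have hR'b : R' = ⊥ := by rw [← hRmap, hb, Subgroup.map_bot]
    rw [hR', map_eq_bot_iff_of_injective _ K'.subtype_injective] at hR'b
    exact Q.ne_bot_of_dvd_card (by rw [Coprime.card_map_inl]; exact hqK) hR'b
  have hRp : IsPGroup q R :=
    (Q.isPGroup'.map K'.subtype).comap_of_injective _ SemidirectProduct.inl_injective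
  have hRinv : ∀ a : A, ∀ x ∈ R, φ a x ∈ R := by
    have h0 : (Coprime.extA : Subgroup E) ≤
        normalizer ((R.map SemidirectProduct.inl : Subgroup E) : Set E) := by
      rw [hRmap]; exact le_sup_right.trans hQ
    have := Coprime.extA_le_normalizer_map.mp h0
    exact fun a x hx => hsmul a x ▸ this a x hx
  have hRnorm : M ≤ normalizer (R : Set G) := by
    intro m hm
    rw [mem_normalizer_iff]
    intro y
    have h1 := mem_normalizer_iff.mp (hQ (mem_sup_left (mem_map_of_mem SemidirectProduct.inl hm)))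
      (SemidirectProduct.inl y)
    rwa [← map_inv, ← map_mul, ← map_mul] at h1
  have hRM : ¬ R ≤ M := fun hle => hRne (le_bot_iff.mp (by
    have := inf_eq_bot_of_coprime hcop
    exact (le_inf hle hRK).trans this.le))
  have htop : normalizer (R : Set G) = ⊤ := by
    by_contra hne
    exact hRM (le_normalizer.trans (h.maximal _ hRnorm hne (normalizer_inv hRinv)).le)
  haveI : R.Normal := normalizer_eq_top_iff.mp htop
  haveI : Group.IsNilpotent R := hRp.isNilpotent
  have hsup : R ⊔ M = ⊤ := by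
    by_contra hne
    refine hRM (le_sup_left.trans (h.maximal _ le_sup_right hne fun a x hx => ?_).le)
    have : (R ⊔ M).map (φ a).toMonoidHom ≤ R ⊔ M := by
      rw [Subgroup.map_sup]
      exact sup_le_sup (map_le_iff_le_comap.mpr (hRinv a)) (map_le_iff_le_comap.mpr (h.inv a))
    exact this (mem_map_of_mem _ hx)
  haveI : Group.IsSolvable (G ⧸ R) := by
    refine Group.isSolvable_of_surjective (f := (QuotientGroup.mk' R).comp M.subtype) ?_
    intro y
    induction y using QuotientGroup.induction_on with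
    | H x =>
      obtain ⟨r, hr, m, hm, rfl⟩ := mem_sup_of_normal_left.mp (hsup ▸ mem_top x)
      refine ⟨⟨m, hm⟩, ?_⟩
      show ((m : G) : G ⧸ R) = ((r * m : G) : G ⧸ R)
      rw [QuotientGroup.mk_mul, (QuotientGroup.eq_one_iff r).mpr hr, one_mul]
  exact Group.isSolvable_of_ker_le_range R.subtype (QuotientGroup.mk' R)
    (by rw [QuotientGroup.ker_mk', range_subtype])

/-- The equivariant Deskins–Janko–Thompson theorem, given the odd order theorem. -/
theorem isSolvable_of_invariant_maximal {G : Type u} [Group G] [Finite G] {A : Type v} [Group A]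
    [Finite A] (hoddG : ∀ (K : Type u) [Group K] [Finite K], Odd (Nat.card K) → Group.IsSolvable K)
    (hoddA : ∀ (K : Type v) [Group K] [Finite K], Odd (Nat.card K) → Group.IsSolvable K)
    (φ : A →* MulAut G) (hcop : (Nat.card A).Coprime (Nat.card G))
    (M : Subgroup G) (hMtop : M ≠ ⊤) (hMinv : ∀ a : A, ∀ m : G, m ∈ M → φ a m ∈ M)
    (hMmax : ∀ H : Subgroup G, M ≤ H → H ≠ ⊤ → (∀ a : A, ∀ h : G, h ∈ H → φ a h ∈ H) → H = M)
    (hnil : Group.IsNilpotent M)
    (h2 : ∀ S : Sylow 2 M, Group.nilpotencyClass ↥(S : Subgroup M) ≤ 2) : Group.IsSolvable G := by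
  rcases Nat.even_or_odd (Nat.card G) with hev | hodd
  swap
  · exact hoddG G hodd
  have hAodd : Odd (Nat.card A) := by
    rcases Nat.even_or_odd (Nat.card A) with he | ho
    · exact absurd (Nat.dvd_gcd he.two_dvd hev.two_dvd) (by rw [hcop.gcd_eq_one]; decide)
    · exact ho
  refine aux A _ G le_rfl φ M ⟨hAodd, hoddA A hAodd, hcop, hMtop, hMinv, hMmax, hnil, ?_⟩
  intro a ha b hb c hc ha2 hb2 hc2
  obtain ⟨S⟩ : Nonempty (Sylow 2 M) := inferInstance
  haveI hSn : (S : Subgroup M).Normal :=
    (Group.isNilpotent_of_finite_tfae.out 0 3 rfl rfl).mp hnil 2 ⟨Nat.prime_two⟩ S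
  have hmem : ∀ v : M, (∃ i, (v : G) ^ 2 ^ i = 1) → v ∈ (S : Subgroup M) := by
    rintro v ⟨i, hi⟩
    obtain ⟨e, -, he⟩ := (Nat.dvd_prime_pow Nat.prime_two).mp
      (orderOf_dvd_of_pow_eq_one (x := v) (Subtype.ext (by simpa using hi)))
    obtain ⟨S', hS'⟩ := (IsPGroup.of_card (p := 2) (n := e) (G := zpowers v)
      (by rw [Nat.card_zpowers, he])).exists_le_sylow
    letI : Unique (Sylow 2 M) := Sylow.unique_of_normal S hSn
    rw [Subsingleton.elim S S']
    exact hS' (mem_zpowers v)
  haveI := (S.isPGroup').isNilpotent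
  have key : (⟨⟨a, ha⟩, hmem _ ha2⟩ : (S : Subgroup M)) * ⟨⟨b, hb⟩, hmem _ hb2⟩ *
      (⟨⟨a, ha⟩, hmem _ ha2⟩ : (S : Subgroup M))⁻¹ *
      (⟨⟨b, hb⟩, hmem _ hb2⟩ : (S : Subgroup M))⁻¹ ∈ center (S : Subgroup M) := by
    rw [← Subgroup.upperCentralSeries_one]
    refine (Subgroup.mem_upperCentralSeries_succ_iff.mp ?_) _
    rw [Subgroup.upperCentralSeries_eq_top_iff_nilpotencyClass_le.mpr (h2 S)]
    exact mem_top _
  exact congrArg (fun v : (S : Subgroup M) => ((v : M) : G))
    (mem_center_iff.mp key ⟨⟨c, hc⟩, hmem _ hc2⟩)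

end Cfsg.Agent.H76.InvariantDJT
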