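import Cfsg.Agent.H76.LocallyS3Basic
import Cfsg.Agent.H66.PermLift
import Cfsg.Agent.Components.TTCore
import Cfsg.Agent.Components.TTZStar

set_option autoImplicit false

/-!
Twins inside `D_x` for a class of 3-transpositions: they exclude commuting pairs in `D_x`.
-/

namespace Cfsg.Agent.H76.LocalTwins

open LocallyS3 (nb cj cj_cj cj_injective commute_cj_iff perm_five_center perm_five_orbits)

variable {G : Type*} [Group G]

/-- The common neighbours of `x` and `a`. -/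
def M (D : Set G) (x a : G) : Set G := nb D x ∩ nb D a

/-- `a` and `b` are twins among the members commuting with `x`. -/
def Tw (D : Set G) (x a b : G) : Prop := a ∈ nb D x ∧ b ∈ nb D x ∧ M D x a = M D x b

/-- The hypotheses: a 3-transposition set, closed under conjugation, with distinct members having
distinct neighbourhoods. -/
structure IsRigid (D : Set G) : Prop where
  tt : Cfsg.IsThreeTranspositionSet D
  conj : ∀ g : G, ∀ d ∈ D, g * d * g⁻¹ ∈ D
  inj : ∀ u ∈ D, ∀ v ∈ D, nb D u ⊆ nb D v → u = v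

theorem isRigid_of_class [Finite G] {D : Set G} (hD : Cfsg.IsThreeTranspositionClass D)
    (hsol : ∀ N : Subgroup G, N.Normal → Group.IsSolvable ↥N → N = ⊥) : IsRigid D := by
  have hinv : ∀ g : G, ∀ d ∈ D, g * d * g⁻¹ ∈ D := by
    obtain ⟨-, ⟨d₀, hd₀, hD₀⟩, -⟩ := hD
    intro g d hd
    rw [hD₀] at hd ⊢
    exact IsConj.trans hd (isConj_iff.2 ⟨g, rfl⟩)
  refine ⟨hD.1, hinv, fun u hu v hv h => ?_⟩
  obtain ⟨g, hg⟩ : ∃ g : G, g * u * g⁻¹ = v := by
    obtain ⟨-, ⟨d₀, hd₀, hD₀⟩, -⟩ := hD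
    rw [hD₀] at hu hv
    exact isConj_iff.1 ((show IsConj d₀ u from hu).symm.trans hv)
  have hc : (nb D v).ncard ≤ (nb D u).ncard := by
    refine Set.ncard_le_ncard_of_injOn (cj g⁻¹) (fun y hy => ?_) ((cj_injective _).injOn) (Set.toFinite _)
    have hu' : cj g⁻¹ v = u := by rw [← hg]; simp only [cj]; group
    refine ⟨hinv _ _ hy.1, fun e => hy.2.1 (cj_injective g⁻¹ (e.trans hu'.symm)), ?_⟩
    rw [← hu']
    exact commute_cj_iff.2 hy.2.2
  have he : nb D u = nb D v := Set.eq_of_subset_of_ncard_le h hc (Set.toFinite _)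
  have h3 := Components.sameNb_mul_mem_pCore_three Components.zStarTheorem hD hu hv he
  have : Fact (Nat.Prime 3) := ⟨Nat.prime_three⟩
  have : (Cfsg.pCore 3 G).Normal := Cfsg.pCore_normal 3 G
  have : Group.IsNilpotent ↥(Cfsg.pCore 3 G) := Cores.pCore_isPGroup.isNilpotent
  rw [hsol (Cfsg.pCore 3 G) inferInstance inferInstance, Subgroup.mem_bot] at h3
  rw [eq_inv_of_mul_eq_one_left h3, H29.tt_inv hD.1 hv]

variable {D : Set G} (H : IsRigid D)

theorem nb_symm {d a : G} (hd : d ∈ D) (ha : a ∈ nb D d) : d ∈ nb D a :=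
  ⟨hd, ha.2.1.symm, ha.2.2.symm⟩

theorem ne_of_not_commute {a b : G} (h : ¬ Commute a b) : a ≠ b := fun e => h (e ▸ Commute.refl a)

theorem cj_eq_self {g x : G} (h : Commute g x) : cj g x = x := by
  rw [cj, h.eq, mul_inv_cancel_right]

theorem commute_of_cj_eq {g x : G} (h : cj g x = x) : Commute g x :=
  mul_inv_eq_iff_eq_mul.1 h

theorem Tw.not_commute {x a b : G} (h : Tw D x a b) (hab : a ≠ b) : ¬ Commute a b := by
  intro hc
  have hm : b ∈ M D x a := ⟨h.2.1, h.2.1.1, hab.symm, hc⟩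
  rw [h.2.2] at hm
  exact hm.2.2.1 rfl

theorem Tw.commute {x a b c : G} (h : Tw D x a b) (hc : c ∈ nb D x) (hca : c ≠ a)
    (hac : Commute a c) : c ∈ M D x b := by
  rw [← h.2.2]; exact ⟨hc, hc.1, hca, hac⟩

theorem Tw.symm {x a b : G} (h : Tw D x a b) : Tw D x b a := ⟨h.2.1, h.1, h.2.2.symm⟩

theorem Tw.trans {x a b c : G} (h : Tw D x a b) (h' : Tw D x b c) : Tw D x a c :=
  ⟨h.1, h'.2.1, h.2.2.trans h'.2.2⟩

include H

theorem mem_cj {d : G} (g : G) (hd : d ∈ D) : cj g d ∈ D := H.conj g d hd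

theorem inv' {d : G} (hd : d ∈ D) : d⁻¹ = d := H29.tt_inv H.tt hd

theorem sq {d : G} (hd : d ∈ D) : d * d = 1 := H29.tt_sq H.tt hd

theorem cube {u v : G} (hu : u ∈ D) (hv : v ∈ D) (huv : ¬ Commute u v) : (u * v) ^ 3 = 1 := by
  rcases H.tt.2 u hu v hv with h2 | h3
  · refine absurd ?_ huv
    have h4 : u * v = (u * v)⁻¹ := by rw [eq_inv_iff_mul_eq_one, ← pow_two, h2]
    rwa [mul_inv_rev, inv' H hu, inv' H hv] at h4
  · exact h3

theorem braid {a b : G} (ha : a ∈ D) (hb : b ∈ D) (h : ¬ Commute a b) : cj a b = cj b a := by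
  simp only [cj, inv' H ha, inv' H hb]; exact H29.tt_braid H.tt ha hb h

theorem cj_nb {d a : G} (g : G) (ha : a ∈ nb D d) : cj g a ∈ nb D (cj g d) :=
  ⟨mem_cj H g ha.1, fun h => ha.2.1 (cj_injective g h), commute_cj_iff.2 ha.2.2⟩

theorem cj_M (g x a : G) : M D (cj g x) (cj g a) = cj g '' M D x a := by
  ext y
  constructor
  · rintro ⟨h1, h2⟩
    refine ⟨cj g⁻¹ y, ⟨?_, ?_⟩, by simp only [cj]; group⟩
    · have h := cj_nb H g⁻¹ h1
      rwa [show cj g⁻¹ (cj g x) = x by simp only [cj]; group] at h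
    · have h := cj_nb H g⁻¹ h2
      rwa [show cj g⁻¹ (cj g a) = a by simp only [cj]; group] at h
  · rintro ⟨c, hc, rfl⟩
    exact ⟨cj_nb H g hc.1, cj_nb H g hc.2⟩

theorem Tw.conj {x a b : G} (g : G) (h : Tw D x a b) : Tw D (cj g x) (cj g a) (cj g b) :=
  ⟨cj_nb H g h.1, cj_nb H g h.2.1, by rw [cj_M H, cj_M H, h.2.2]⟩

theorem Tw.conj' {x a b g : G} (h : Tw D x a b) (hg : Commute g x) :
    Tw D x (cj g a) (cj g b) := by
  have h' := Tw.conj H g h
  rwa [cj_eq_self hg] at h'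

/-- The member separating two twins. -/
theorem exists_sep {x a b : G} (h : Tw D x a b) (hab : a ≠ b) :
    ∃ e ∈ nb D a, ¬ Commute e b ∧ ¬ Commute e x := by
  have hn : ¬ nb D a ⊆ nb D b := fun hs => hab (H.inj a h.1.1 b h.2.1.1 hs)
  obtain ⟨e, he, heb⟩ := Set.not_subset.1 hn
  have hneb : e ≠ b := fun e' => Tw.not_commute h hab (e' ▸ he.2.2)
  have hcb : ¬ Commute e b := fun hc => heb ⟨he.1, hneb, hc.symm⟩
  refine ⟨e, he, hcb, fun hcx => ?_⟩
  have hex : e ≠ x := fun e' => hcb (e' ▸ h.2.1.2.2)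
  exact hcb (Tw.commute h ⟨he.1, hex, hcx.symm⟩ he.2.1 he.2.2).2.2.2.symm

omit H in
theorem perm_five_facts :
    (Equiv.swap (0 : Fin 5) 4) = (Equiv.swap 2 4 * Equiv.swap 0 1) *
        (Equiv.swap 1 2) * (Equiv.swap 2 4 * Equiv.swap 0 1)⁻¹ := by
  decide

open Equiv in
/-- The symmetric group on five points from a chain `x, e, b, a`. -/
theorem exists_hom {x e b a : G} (hx : x ∈ D) (he : e ∈ D) (hb : b ∈ D) (ha : a ∈ D)
    (hxe : ¬ Commute x e) (heb : ¬ Commute e b) (hba : ¬ Commute b a) (hxb : Commute x b)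
    (hxa : Commute x a) (hea : Commute e a) :
    ∃ φ : Perm (Fin 5) →* G, φ (swap 0 1) = x ∧ φ (swap 1 2) = e ∧ φ (swap 2 3) = b ∧
      φ (swap 3 4) = a := by
  have comm2 : ∀ {u v : G}, u ∈ D → v ∈ D → Commute u v → (u * v) ^ 2 = 1 := by
    intro u v hu hv huv
    rw [huv.mul_pow, pow_two, pow_two, sq H hu, sq H hv, one_mul]
  obtain ⟨φ, hφ⟩ := H66.exists_perm_hom 4
    (fun i : ℕ => if i = 0 then x else if i = 1 then e else if i = 2 then b else a)
    (by
      intro i hi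
      interval_cases i <;> norm_num
      exacts [sq H hx, sq H he, sq H hb, sq H ha])
    (by
      intro i hi
      have : i ≤ 2 := by omega
      interval_cases i <;> norm_num
      exacts [cube H hx he hxe, cube H he hb heb, cube H hb ha hba])
    (by
      intro i j hij hj
      have : i ≤ 1 := by omega
      interval_cases i <;> interval_cases j <;> norm_num
      exacts [comm2 hx hb hxb, comm2 hx ha hxa, comm2 he ha hea])
  refine ⟨φ, ?_, ?_, ?_, ?_⟩
  · have h := hφ 0 (by omega); rwa [H66.adjSwap_of_lt (by omega : 0 < 4)] at h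
  · have h := hφ 1 (by omega); rwa [H66.adjSwap_of_lt (by omega : 1 < 4)] at h
  · have h := hφ 2 (by omega); rwa [H66.adjSwap_of_lt (by omega : 2 < 4)] at h
  · have h := hφ 3 (by omega); rwa [H66.adjSwap_of_lt (by omega : 3 < 4)] at h

open Equiv in
/-- The member separating two twins commutes with their common neighbours. -/
theorem sep_commute {x a b c e : G} (hx : x ∈ D) (h : Tw D x a b) (hab : a ≠ b)
    (hc : c ∈ M D x a) (he : e ∈ nb D a) (heb : ¬ Commute e b) (hex : ¬ Commute e x) :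
    Commute e c := by
  by_contra hec
  obtain ⟨φ, h0, h1, h2, h3⟩ := exists_hom H hx he.1 h.2.1.1 h.1.1 (fun q => hex q.symm) heb
    (Tw.not_commute h.symm hab.symm) h.2.1.2.2 h.1.2.2 he.2.2.symm
  have hcb : Commute c b := (Tw.commute h hc.1 hc.2.2.1 hc.2.2.2).2.2.2.symm
  have hca : Commute c a := hc.2.2.2.symm
  have hcx : Commute c x := hc.1.2.2.symm
  have key : ∀ g : Perm (Fin 5), Commute c (φ g) → ∀ s, Commute c (φ (g * s * g⁻¹)) ↔
      Commute c (φ s) := by
    intro g hg s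
    have e1 : φ (g * s * g⁻¹) = cj (φ g) (φ s) := by simp [cj]
    rw [e1]
    conv_lhs => rw [← cj_eq_self hg.symm]
    exact commute_cj_iff
  have hg : Commute c (φ (swap 2 4 * swap 0 1)) := by
    rw [show swap (2 : Fin 5) 4 * swap 0 1 = swap 2 3 * swap 3 4 * swap 2 3 * swap 0 1 by decide,
      map_mul, map_mul, map_mul, h0, h2, h3]
    exact ((hcb.mul_right hca).mul_right hcb).mul_right hcx
  have h04 : ¬ Commute c (φ (swap 0 4)) := by
    rw [perm_five_facts, key _ hg, h1]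
    exact fun q => hec q.symm
  -- a permutation moving the triple (01, 23, 34) to (23, 40, 01)
  obtain ⟨v, hv01, hv23, hv34⟩ : ∃ v : Perm (Fin 5), v * swap 0 1 * v⁻¹ = swap 2 3 ∧
      v * swap 2 3 * v⁻¹ = swap 0 4 ∧ v * swap 3 4 * v⁻¹ = swap 0 1 :=
    ⟨finRotate 5 * finRotate 5, by decide, by decide, by decide⟩
  set f := cj (φ v⁻¹) c with hf
  have hback : ∀ s, Commute (φ s) f ↔ Commute c (φ (v * s * v⁻¹)) := by
    intro s
    rw [← commute_cj_iff (g := φ v), hf, cj_cj, ← map_mul, mul_inv_cancel, map_one,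
      show cj (1 : G) c = c by simp [cj], show cj (φ v) (φ s) = φ (v * s * v⁻¹) by simp [cj]]
    exact ⟨Commute.symm, Commute.symm⟩
  have hfD : f ∈ D := mem_cj H _ hc.1.1
  have hfb : ¬ Commute b f := by
    rw [← h2, hback, hv23]; exact h04
  have hfx : Commute x f := by rw [← h0, hback, hv01, h2]; exact hcb
  have hfa : Commute a f := by rw [← h3, hback, hv34, h0]; exact hcx
  have hfx' : f ≠ x := fun q => hfb (q ▸ h.2.1.2.2.symm)
  have hfa' : f ≠ a := by
    intro q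
    apply hc.1.2.1
    have q' := congrArg (cj (φ v)) q
    rw [hf, cj_cj, ← map_mul, mul_inv_cancel, map_one, show cj (1 : G) c = c by simp [cj], ← h3,
      show cj (φ v) (φ (swap 3 4)) = φ (v * swap 3 4 * v⁻¹) by simp [cj], hv34, h0] at q'
    exact q'
  exact hfb (Tw.commute h ⟨hfD, hfx', hfx⟩ hfa' hfa).2.2.2

omit H in
theorem rank_three {c s t : G} (hc : c * c = 1) (hs : s * s = 1) (ht : t * t = 1)
    (hu : (c * s) ^ 3 = 1) (hv : (c * t) ^ 3 = 1) (huv : (c * s * (c * t)) ^ 3 = 1) :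
    Commute (s * t) (c * (s * t) * c) := by
  set u := c * s with hu'
  set v := c * t with hv'
  have hci : c⁻¹ = c := inv_eq_of_mul_eq_one_left hc
  have hsi : s⁻¹ = s := inv_eq_of_mul_eq_one_left hs
  have hti : t⁻¹ = t := inv_eq_of_mul_eq_one_left ht
  have e1 : s * t = u⁻¹ * v := by
    rw [hu', hv', mul_inv_rev, hci, hsi, show s * c * (c * t) = s * (c * c) * t by group, hc, mul_one]
  have huu : u⁻¹ * u⁻¹ = u := by
    have : u * u * u = 1 := by rw [← hu]; simp [pow_succ]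
    calc u⁻¹ * u⁻¹ = (u * u * u) * (u⁻¹ * u⁻¹) := by rw [this, one_mul]
      _ = u := by group
  have hvv : v⁻¹ * v⁻¹ = v := by
    have : v * v * v = 1 := by rw [← hv]; simp [pow_succ]
    calc v⁻¹ * v⁻¹ = (v * v * v) * (v⁻¹ * v⁻¹) := by rw [this, one_mul]
      _ = v := by group
  have hvuv : v * u * v = u⁻¹ * v⁻¹ * u⁻¹ := by
    have h : u * (v * u * v) * (u * v) = 1 := by rw [← huv]; simp [pow_succ, mul_assoc]
    calc v * u * v = u⁻¹ * (u * (v * u * v) * (u * v)) * v⁻¹ * u⁻¹ := by group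
      _ = u⁻¹ * v⁻¹ * u⁻¹ := by rw [h, mul_one]
  have e2 : c * (s * t) * c = u * v⁻¹ := by
    rw [e1]
    have : c * u⁻¹ * c = u := by
      rw [hu', mul_inv_rev, hci, hsi, show c * (s * c) * c = c * s * (c * c) by group, hc, mul_one]
    have h' : c * v * c = v⁻¹ := by
      rw [hv', mul_inv_rev, hci, hti, show c * (c * t) * c = (c * c) * t * c by group, hc, one_mul]
    calc c * (u⁻¹ * v) * c = (c * u⁻¹ * c) * (c * v * c) := by
          rw [show c * u⁻¹ * c * (c * v * c) = c * u⁻¹ * (c * c) * v * c by group, hc]; group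
      _ = u * v⁻¹ := by rw [this, h']
  rw [e2, e1]
  show u⁻¹ * v * (u * v⁻¹) = u * v⁻¹ * (u⁻¹ * v)
  calc u⁻¹ * v * (u * v⁻¹) = u⁻¹ * (v * u * v) * (v⁻¹ * v⁻¹) := by group
    _ = (u⁻¹ * u⁻¹) * v⁻¹ * u⁻¹ * (v⁻¹ * v⁻¹) := by rw [hvuv]; group
    _ = u * v⁻¹ * (u⁻¹ * v) := by rw [huu, hvv]; group

end Cfsg.Agent.H76.LocalTwins
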