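import Cfsg.Agent.H76.LocalTwinsMain

set_option autoImplicit false

/-!
A noncentral odd core of `⟨D_x⟩` gives twins among the members commuting with each member.
-/

namespace Cfsg.Agent.H76.LocalTwins

open LocallyS3 (nb cj cj_cj cj_injective commute_cj_iff)

variable {G : Type*} [Group G] {D : Set G}

theorem exists_twin_pair [Finite G] (H : IsRigid D) {x : G}
    (h : ¬ Cfsg.oddCore ↥(Subgroup.closure (nb D x)) ≤ Subgroup.center ↥(Subgroup.closure (nb D x))) :
    ∃ a b, b ≠ a ∧ Tw D x a b := by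
  set K := Subgroup.closure (nb D x) with hK
  set O := Cfsg.oddCore ↥K with hO
  obtain ⟨o, ho, hoc⟩ := SetLike.not_le_iff_exists.1 h
  obtain ⟨a, ha, hoa⟩ : ∃ a ∈ nb D x, ¬ Commute (o : G) a := by
    by_contra hcon
    push Not at hcon
    apply hoc
    rw [Subgroup.mem_center_iff]
    intro k
    refine Subtype.ext ?_
    have hle : K ≤ Subgroup.centralizer ({(o : G)} : Set G) := by
      refine (Subgroup.closure_le _).2 ?_
      exact fun y hy => Subgroup.mem_centralizer_singleton_iff.2 (hcon y hy).eq.symm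
    exact Subgroup.mem_centralizer_singleton_iff.1 (hle k.2)
  have hox : Commute (o : G) x := by
    have hle : K ≤ Subgroup.centralizer ({x} : Set G) := by
      refine (Subgroup.closure_le _).2 ?_
      exact fun y hy => Subgroup.mem_centralizer_singleton_iff.2 hy.2.2.eq.symm
    exact Subgroup.mem_centralizer_singleton_iff.1 (hle o.2)
  set b := cj (o : G) a with hb
  have hbn : b ∈ nb D x := by
    have h := cj_nb H (o : G) ha
    rwa [cj_eq_self hox] at h
  have hba : b ≠ a := fun h => hoa (commute_of_cj_eq h)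
  have : O.Normal := Cfsg.pPrimeCore_normal 2 ↥K
  have hodd : Odd (Nat.card O) := Cores.odd_card_oddCore
  set a' : ↥K := ⟨a, Subgroup.subset_closure ha⟩ with ha'
  set b' : ↥K := ⟨b, Subgroup.subset_closure hbn⟩ with hb'
  have hbo : b' = o * a' * o⁻¹ := Subtype.ext rfl
  have hab : QuotientGroup.mk' O a' = QuotientGroup.mk' O b' := by
    have h1 : QuotientGroup.mk' O o = 1 := (QuotientGroup.eq_one_iff o).2 ho
    rw [hbo, map_mul, map_mul, map_inv, h1, inv_one, one_mul, mul_one]
  have small : ∀ u : ↥K, u ^ 2 = 1 → QuotientGroup.mk' O u = 1 → u = 1 := by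
    intro u h2 hu
    have hmem : u ∈ O := (QuotientGroup.eq_one_iff _).1 hu
    have hg := Nat.dvd_gcd (orderOf_dvd_of_pow_eq_one h2) (Subgroup.orderOf_dvd_natCard _ hmem)
    rw [(Nat.coprime_two_left.2 hodd).gcd_eq_one] at hg
    exact orderOf_eq_one_iff.1 (Nat.dvd_one.1 hg)
  have hnab : ¬ Commute a b := by
    intro hc
    have h2 : (b' * a') ^ 2 = 1 := Subtype.ext (by
      show (b * a) ^ 2 = 1
      rw [hc.symm.mul_pow, pow_two, pow_two, sq H hbn.1, sq H ha.1, one_mul])
    have hm : QuotientGroup.mk' O (b' * a') = 1 := by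
      rw [map_mul, ← hab, ← map_mul]
      have : a' * a' = 1 := Subtype.ext (sq H ha.1)
      rw [this, map_one]
    have h1 : b * a = 1 := congrArg Subtype.val (small _ h2 hm)
    exact hba ((eq_inv_of_mul_eq_one_left h1).trans (inv' H ha.1))
  have key : ∀ p : G, ∀ hp : p ∈ nb D x, ∀ r : G, ∀ hr : r ∈ nb D x,
      ∀ c : G, ∀ hc : c ∈ nb D x,
      QuotientGroup.mk' O (⟨p, Subgroup.subset_closure hp⟩ : ↥K) =
        QuotientGroup.mk' O ⟨r, Subgroup.subset_closure hr⟩ →
      c ≠ p → Commute c p → Commute c r := by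
    intro p hp r hr c hc hpr hcp hcomm
    by_contra hcr
    set c' : ↥K := ⟨c, Subgroup.subset_closure hc⟩
    set p' : ↥K := ⟨p, Subgroup.subset_closure hp⟩
    set r' : ↥K := ⟨r, Subgroup.subset_closure hr⟩
    have h2 : (c' * p') ^ 2 = 1 := Subtype.ext (by
      show (c * p) ^ 2 = 1
      rw [hcomm.mul_pow, pow_two, pow_two, sq H hc.1, sq H hp.1, one_mul])
    have h3 : (c' * r') ^ 3 = 1 := Subtype.ext (by
      show (c * r) ^ 3 = 1
      exact cube H hc.1 hr.1 hcr)
    have e : QuotientGroup.mk' O (c' * p') = QuotientGroup.mk' O (c' * r') := by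
      rw [map_mul, map_mul, hpr]
    have hm : QuotientGroup.mk' O (c' * p') = 1 := by
      have q2 : QuotientGroup.mk' O (c' * p') ^ 2 = 1 := by rw [← map_pow, h2, map_one]
      have q3 : QuotientGroup.mk' O (c' * p') ^ 3 = 1 := by rw [e, ← map_pow, h3, map_one]
      rwa [pow_succ, q2, one_mul] at q3
    have h1' := small _ h2 hm
    have : c * p = 1 := congrArg Subtype.val h1'
    exact hcp ((eq_inv_of_mul_eq_one_left this).trans (inv' H hp.1))
  refine ⟨a, b, hba, ha, hbn, ?_⟩
  ext c
  constructor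
  · rintro ⟨h1, -, h2, h3⟩
    refine ⟨h1, h1.1, fun e => hnab ?_, (key a ha b hbn c h1 hab h2 h3.symm).symm⟩
    subst e
    exact h3
  · rintro ⟨h1, -, h2, h3⟩
    refine ⟨h1, h1.1, fun e => hnab ?_, (key b hbn a ha c h1 hab.symm h2 h3.symm).symm⟩
    subst e
    exact h3.symm

end Cfsg.Agent.H76.LocalTwins
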