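import Cfsg.Agent.H29.ThreeTransp
import Mathlib

set_option autoImplicit false

/-!
3-transposition sets in which the set of members commuting with a given member generates `S₃`:
basic lemmas, and the case where the commuting graph has a Petersen component.
-/

namespace Cfsg.Agent.H76.LocallyS3

variable {G : Type*} [Group G]

/-- The members of `D` commuting with, and different from, `d`. -/
def nb (D : Set G) (d : G) : Set G := {y : G | y ∈ D ∧ y ≠ d ∧ Commute d y}

/-- Conjugation of `x` by `g`. -/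
abbrev cj (g x : G) : G := g * x * g⁻¹

theorem cj_cj (g h x : G) : cj g (cj h x) = cj (g * h) x := by
  simp only [cj]; group

theorem cj_injective (g : G) : Function.Injective (cj g) := fun x y h => by simpa [cj] using h

theorem commute_cj_iff {g x y : G} : Commute (cj g x) (cj g y) ↔ Commute x y :=
  ⟨fun h => (MulAut.conj g).injective (by simpa [MulAut.conj_apply] using h.eq),
    fun h => h.map (MulAut.conj g)⟩

theorem perm_three_facts :
    ∀ x : Equiv.Perm (Fin 3), x * x = 1 → x ≠ 1 → ∀ y : Equiv.Perm (Fin 3), y * y = 1 → y ≠ 1 →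
      x ≠ y → x * y ≠ y * x ∧
        ∀ z : Equiv.Perm (Fin 3), z * z = 1 → z ≠ 1 → z ≠ x → z ≠ y → z = x * y * x := by
  decide

theorem perm_three_center : ∀ z : Equiv.Perm (Fin 3),
    (∀ w : Equiv.Perm (Fin 3), z * w = w * z) → z = 1 := by
  decide

theorem perm_five_center : ∀ g : Equiv.Perm (Fin 5),
    g * Equiv.swap 0 1 = Equiv.swap 0 1 * g → g * Equiv.swap 1 2 = Equiv.swap 1 2 * g →
    g * Equiv.swap 2 3 = Equiv.swap 2 3 * g → g * Equiv.swap 3 4 = Equiv.swap 3 4 * g →
      g = 1 := by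
  decide +kernel

theorem perm_five_orbits : ∀ i j : Fin 5, i ≠ j →
    Equiv.swap i j = Equiv.swap 0 1 ∨
      ∃ g : Equiv.Perm (Fin 5), g * Equiv.swap 0 1 * g⁻¹ = Equiv.swap 0 1 ∧
        (g * Equiv.swap i j * g⁻¹ = Equiv.swap 1 2 ∨
          g * Equiv.swap i j * g⁻¹ = Equiv.swap 2 3) := by
  decide +kernel

/-- The hypotheses on `D`. -/
structure IsLocS3 (D : Set G) : Prop where
  tt : Cfsg.IsThreeTranspositionSet D
  conj : ∀ g : G, ∀ d ∈ D, g * d * g⁻¹ ∈ D
  loc : ∀ d ∈ D, Nonempty (↥(Subgroup.closure (nb D d)) ≃* Equiv.Perm (Fin 3))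

variable {D : Set G} (H : IsLocS3 D)

theorem nb_symm {d a : G} (hd : d ∈ D) (ha : a ∈ nb D d) : d ∈ nb D a :=
  ⟨hd, ha.2.1.symm, ha.2.2.symm⟩

include H

theorem cj_mem {d : G} (g : G) (hd : d ∈ D) : cj g d ∈ D := H.conj g d hd

theorem ne_one {d : G} (hd : d ∈ D) : d ≠ 1 := fun h => by
  have := H.tt.1 d hd; simp [h] at this

theorem sq {d : G} (hd : d ∈ D) : d * d = 1 := H29.tt_sq H.tt hd

theorem inv' {d : G} (hd : d ∈ D) : d⁻¹ = d := H29.tt_inv H.tt hd

theorem cj_self {d : G} (hd : d ∈ D) (x : G) : cj d x = d * x * d := by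
  rw [cj, inv' H hd]

theorem braid {a b : G} (ha : a ∈ D) (hb : b ∈ D) (h : ¬ Commute a b) :
    cj a b = cj b a := by
  rw [cj_self H ha, cj_self H hb]; exact H29.tt_braid H.tt ha hb h

theorem cj_nb {d a : G} (g : G) (ha : a ∈ nb D d) : cj g a ∈ nb D (cj g d) :=
  ⟨cj_mem H g ha.1, fun h => ha.2.1 (cj_injective g h), commute_cj_iff.2 ha.2.2⟩

theorem nb_cj (g d : G) : nb D (cj g d) = cj g '' nb D d := by
  ext y
  constructor
  · intro hy
    refine ⟨cj g⁻¹ y, ?_, by simp only [cj]; group⟩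
    have := cj_nb H g⁻¹ hy
    rwa [show cj g⁻¹ (cj g d) = d by simp only [cj]; group] at this
  · rintro ⟨a, ha, rfl⟩
    exact cj_nb H g ha

theorem image_facts {d a : G} (hd : d ∈ D) (ha : a ∈ nb D d)
    (e : ↥(Subgroup.closure (nb D d)) ≃* Equiv.Perm (Fin 3)) :
    e ⟨a, Subgroup.subset_closure ha⟩ * e ⟨a, Subgroup.subset_closure ha⟩ = 1 ∧
      e ⟨a, Subgroup.subset_closure ha⟩ ≠ 1 := by
  refine ⟨?_, ?_⟩
  · rw [← map_mul, ← e.map_one]
    exact congrArg e (Subtype.ext (sq H ha.1))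
  · intro h
    exact ne_one H ha.1 (congrArg Subtype.val (e.map_eq_one_iff.1 h))

/-- Distinct members commuting with `d` do not commute. -/
theorem nb_noncomm {d a b : G} (hd : d ∈ D) (ha : a ∈ nb D d) (hb : b ∈ nb D d) (hab : a ≠ b) :
    ¬ Commute a b := by
  obtain ⟨e⟩ := H.loc d hd
  obtain ⟨h1, h2⟩ := image_facts H hd ha e
  obtain ⟨h3, h4⟩ := image_facts H hd hb e
  intro hc
  refine (perm_three_facts _ h1 h2 _ h3 h4
    (fun h => hab (congrArg Subtype.val (e.injective h)))).1 ?_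
  rw [← map_mul, ← map_mul]
  exact congrArg e (Subtype.ext hc.eq)

/-- There are no triangles of commuting members. -/
theorem no_triangle {d a b : G} (hd : d ∈ D) (ha : a ∈ nb D d) (hb : b ∈ nb D a) :
    b ∉ nb D d := fun hb' => nb_noncomm H hd ha hb' hb.2.1.symm hb.2.2

theorem nb_third {d a b c : G} (hd : d ∈ D) (ha : a ∈ nb D d) (hb : b ∈ nb D d)
    (hc : c ∈ nb D d) (hab : a ≠ b) (hca : c ≠ a) (hcb : c ≠ b) : c = cj a b := by
  obtain ⟨e⟩ := H.loc d hd
  obtain ⟨h1, h2⟩ := image_facts H hd ha e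
  obtain ⟨h3, h4⟩ := image_facts H hd hb e
  obtain ⟨h5, h6⟩ := image_facts H hd hc e
  have h := (perm_three_facts _ h1 h2 _ h3 h4
    (fun h => hab (congrArg Subtype.val (e.injective h)))).2 _ h5 h6
    (fun h => hca (congrArg Subtype.val (e.injective h)))
    (fun h => hcb (congrArg Subtype.val (e.injective h)))
  rw [← map_mul, ← map_mul] at h
  rw [cj_self H ha.1]
  exact congrArg Subtype.val (e.injective h)

theorem third_mem {d a b : G} (hd : d ∈ D) (ha : a ∈ nb D d) (hb : b ∈ nb D d) :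
    cj a b ∈ nb D d := by
  have h := cj_nb H a hb
  rwa [show cj a d = d by
    rw [cj, ← ha.2.2.eq, mul_inv_cancel_right]] at h

theorem nb_eq {d a b : G} (hd : d ∈ D) (ha : a ∈ nb D d) (hb : b ∈ nb D d) (hab : a ≠ b) :
    nb D d = {a, b, cj a b} := by
  ext c
  simp only [Set.mem_insert_iff, Set.mem_singleton_iff]
  constructor
  · intro hc
    by_cases hca : c = a
    · exact Or.inl hca
    by_cases hcb : c = b
    · exact Or.inr (Or.inl hcb)
    exact Or.inr (Or.inr (nb_third H hd ha hb hc hab hca hcb))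
  · rintro (rfl | rfl | rfl)
    · exact ha
    · exact hb
    · exact third_mem H hd ha hb

theorem exists_pair {d : G} (hd : d ∈ D) : ∃ a ∈ nb D d, ∃ b ∈ nb D d, a ≠ b := by
  obtain ⟨e⟩ := H.loc d hd
  by_contra hcon
  push Not at hcon
  have hcomm : ∀ x y : ↥(Subgroup.closure (nb D d)), x * y = y * x := by
    intro x y
    apply Subtype.ext
    have h : ∀ u ∈ nb D d, ∀ v ∈ nb D d, u * v = v * u := fun u hu v hv => by
      rw [hcon u hu v hv]
    exact (Subgroup.isMulCommutative_closure h).is_comm.comm x y |> congrArg Subtype.val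
  have h2 : ∀ x y : Equiv.Perm (Fin 3), x * y = y * x := fun x y => by
    obtain ⟨u, rfl⟩ := e.surjective x
    obtain ⟨v, rfl⟩ := e.surjective y
    rw [← map_mul, ← map_mul, hcomm]
  exact absurd (h2 (Equiv.swap 0 1) (Equiv.swap 1 2)) (by decide)

/-- Two commuting members not commuting with `d` map `d` into the members commuting with it. -/
theorem sigma_mem {x y d : G} (hx : x ∈ D) (hy : y ∈ nb D x) (hd : d ∈ D)
    (hdx : ¬ Commute d x) (hdy : ¬ Commute d y) : cj (x * y) d ∈ nb D d := by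
  refine ⟨cj_mem H _ hd, ?_, ?_⟩
  · intro h
    have hc : Commute d (x * y) := by
      have h' : x * y * d = d * (x * y) := by
        rw [← mul_inv_eq_iff_eq_mul]; exact h
      exact h'.symm
    exact hdx (H29.tt_commute_pair H.tt hx hy.1 hd hy.2.1.symm hc).1
  · have h1 : Commute (cj d x) (cj d y) := commute_cj_iff.2 hy.2.2
    rw [braid H hd hx hdx, braid H hd hy.1 hdy] at h1
    have h2 := (commute_cj_iff (g := x)).2 h1
    rw [cj_cj x x, cj_cj x y, sq H hx] at h2
    simpa [cj] using h2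

/-- A common neighbour of two members commuting with `d` forces equal neighbourhoods. -/
theorem nb_eq_of_common {d a b e : G} (hd : d ∈ D) (ha : a ∈ nb D d) (hb : b ∈ nb D d)
    (hea : e ∈ nb D a) (heb : e ∈ nb D b) (hed : e ≠ d) : nb D a = nb D b := by
  rw [nb_eq H ha.1 (nb_symm hd ha) hea hed.symm, nb_eq H hb.1 (nb_symm hd hb) heb hed.symm]

end Cfsg.Agent.H76.LocallyS3
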