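import Cfsg.Agent.H76.LocallyS3Basic
import Cfsg.Agent.H66.PermLift

set_option autoImplicit false

/-!
Locally `S₃` 3-transposition sets: a Petersen component is everything, and gives `S₅`.
-/

namespace Cfsg.Agent.H76.LocallyS3

variable {G : Type*} [Group G] {D : Set G}

open Equiv in
theorem petersen (H : IsLocS3 D) {d a b : G} (hd : d ∈ D) (ha : a ∈ nb D d) (hb : b ∈ nb D d)
    (hab : a ≠ b) (hne : nb D a ≠ nb D b) :
    Nonempty (↥(Subgroup.closure D) ≃* Equiv.Perm (Fin 5)) := by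
  classical
  have hnab : ¬ Commute a b := nb_noncomm H hd ha hb hab
  have hdb : d ∈ nb D b := nb_symm hd hb
  obtain ⟨e, heb, hed⟩ : ∃ e ∈ nb D b, e ≠ d := by
    obtain ⟨u, hu, v, hv, huv⟩ := exists_pair H hb.1
    by_cases h : u = d
    · exact ⟨v, hv, fun h' => huv (h.trans h'.symm)⟩
    · exact ⟨u, hu, h⟩
  have hea : e ≠ a := fun h => hnab (h ▸ heb.2.2).symm
  have hnea : ¬ Commute a e := fun h => hne
    (nb_eq_of_common H hd ha hb ⟨heb.1, hea, h⟩ heb hed)
  have hnde : ¬ Commute d e := fun h =>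
    no_triangle H hd hb heb ⟨heb.1, hed, h⟩
  -- the homomorphism from the symmetric group
  obtain ⟨φ, hφ⟩ := H66.exists_perm_hom 4
    (fun i : ℕ => if i = 0 then d else if i = 1 then e else if i = 2 then a else b)
    (by
      intro i hi
      interval_cases i <;> simp only [show (1:ℕ) ≠ 0 by omega, show (2:ℕ) ≠ 0 by omega,
        show (2:ℕ) ≠ 1 by omega, show (3:ℕ) ≠ 0 by omega, show (3:ℕ) ≠ 1 by omega,
        show (3:ℕ) ≠ 2 by omega, if_true, if_false]
      exacts [sq H hd, sq H heb.1, sq H ha.1, sq H hb.1])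
    (by
      intro i hi
      have key : ∀ {u v : G}, u ∈ D → v ∈ D → ¬ Commute u v → (u * v) ^ 3 = 1 := by
        intro u v hu hv huv
        rcases H.tt.2 u hu v hv with h2 | h3
        · refine absurd ?_ huv
          have h4 : u * v = (u * v)⁻¹ := by rw [eq_inv_iff_mul_eq_one, ← pow_two, h2]
          rwa [mul_inv_rev, inv' H hu, inv' H hv] at h4
        · exact h3
      have : i ≤ 2 := by omega
      interval_cases i <;> norm_num
      exacts [key hd heb.1 hnde, key heb.1 ha.1 fun h => hnea h.symm, key ha.1 hb.1 hnab])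
    (by
      intro i j hij hj
      have key : ∀ {u v : G}, u ∈ D → v ∈ D → Commute u v → (u * v) ^ 2 = 1 := by
        intro u v hu hv huv
        rw [huv.mul_pow, pow_two, pow_two, sq H hu, sq H hv, one_mul]
      have : i ≤ 1 := by omega
      interval_cases i <;> interval_cases j <;> norm_num
      exacts [key hd ha.1 ha.2.2, key hd hb.1 hb.2.2, key heb.1 hb.1 heb.2.2.symm])
  have hφ0 : φ (swap 0 1) = d := by
    have h := hφ 0 (by omega); rwa [H66.adjSwap_of_lt (by omega : 0 < 4)] at h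
  have hφ1 : φ (swap 1 2) = e := by
    have h := hφ 1 (by omega); rwa [H66.adjSwap_of_lt (by omega : 1 < 4)] at h
  have hφ2 : φ (swap 2 3) = a := by
    have h := hφ 2 (by omega); rwa [H66.adjSwap_of_lt (by omega : 2 < 4)] at h
  have hφ3 : φ (swap 3 4) = b := by
    have h := hφ 3 (by omega); rwa [H66.adjSwap_of_lt (by omega : 3 < 4)] at h
  have hswapconj : ∀ s : Equiv.Perm (Fin 5), s.IsSwap →
      ∃ g : Equiv.Perm (Fin 5), g * swap 0 1 * g⁻¹ = s := by
    rintro s ⟨i, j, hij, rfl⟩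
    obtain ⟨c, hc⟩ := isConj_iff.1 (Equiv.Perm.isConj_swap (show (0 : Fin 5) ≠ 1 by decide) hij)
    exact ⟨c, hc⟩
  -- the component
  set T : Set G := {y : G | ∃ g : Equiv.Perm (Fin 5), cj (φ g) d = y} with hT
  have hTD : ∀ t ∈ T, t ∈ D := by rintro t ⟨g, rfl⟩; exact cj_mem H _ hd
  have hTswap : ∀ s : Equiv.Perm (Fin 5), s.IsSwap → φ s ∈ T := by
    intro s hs
    obtain ⟨g, rfl⟩ := hswapconj s hs
    exact ⟨g, by simp [cj, hφ0]⟩
  have hTinv : ∀ g : Equiv.Perm (Fin 5), ∀ t ∈ T, cj (φ g) t ∈ T := by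
    rintro g t ⟨k, rfl⟩
    exact ⟨g * k, by rw [map_mul, cj_cj]⟩
  have hab' : cj a b ∈ T := by
    have h : cj a b = φ (swap 2 3 * swap 3 4 * (swap 2 3)⁻¹) := by simp only [cj, map_mul, map_inv, hφ2, hφ3]
    rw [h, show swap (2 : Fin 5) 3 * swap 3 4 * (swap 2 3)⁻¹ = swap 2 4 by decide]
    exact hTswap _ ⟨2, 4, by decide, rfl⟩
  have hnbd : nb D d ⊆ T := by
    rw [nb_eq H hd ha hb hab]
    rintro y (rfl | rfl | rfl)
    · rw [← hφ2]; exact hTswap _ ⟨2, 3, by decide, rfl⟩
    · rw [← hφ3]; exact hTswap _ ⟨3, 4, by decide, rfl⟩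
    · exact hab'
  have hclosed : ∀ t ∈ T, nb D t ⊆ T := by
    rintro t ⟨g, rfl⟩ y hy
    rw [nb_cj H] at hy
    obtain ⟨z, hz, rfl⟩ := hy
    exact hTinv g z (hnbd hz)
  -- everything lies in the component
  have hall : ∀ x ∈ D, x ∈ T := by
    intro x hx
    by_contra hxT
    have hnc : ∀ x' ∈ D, x' ∉ T → ∀ t ∈ T, ¬ Commute x' t := by
      intro x' hx' hx'T t ht hc
      exact hx'T (hclosed t ht ⟨hx', fun h => hx'T (h ▸ ht), hc.symm⟩)
    have hout : ∀ g : Equiv.Perm (Fin 5), ∀ x', x' ∉ T → cj (φ g) x' ∉ T := by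
      intro g x' hx' h
      have := hTinv g⁻¹ _ h
      rw [cj_cj, ← map_mul, inv_mul_cancel, map_one] at this
      exact hx' (by simpa [cj] using this)
    have hnbout : ∀ x' ∈ D, x' ∉ T → ∀ i j k l : Fin 5, i ≠ j → k ≠ l →
        swap i j * swap k l = swap k l * swap i j → φ (swap k l) ≠ φ (swap i j) →
        cj (φ (swap i j * swap k l)) x' ∈ nb D x' := by
      intro x' hx' hx'T i j k l hij hkl hcm hne'
      rw [map_mul]
      refine sigma_mem H (hTD _ (hTswap _ ⟨i, j, hij, rfl⟩))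
        ⟨hTD _ (hTswap _ ⟨k, l, hkl, rfl⟩), hne', ?_⟩ hx'
        (hnc x' hx' hx'T _ (hTswap _ ⟨i, j, hij, rfl⟩))
        (hnc x' hx' hx'T _ (hTswap _ ⟨k, l, hkl, rfl⟩))
      exact (show Commute (swap i j) (swap k l) from hcm).map φ
    have hne1 : φ (swap 2 3) ≠ φ (swap 0 1) := by rw [hφ2, hφ0]; exact ha.2.1
    have hne2 : φ (swap 1 3) ≠ φ (swap 0 2) := by
      intro h
      apply hne1
      have h' := congrArg (cj (φ (swap 1 2))) h
      simp only [cj, ← map_mul, ← map_inv] at h'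
      rwa [show swap (1 : Fin 5) 2 * swap 1 3 * (swap 1 2)⁻¹ = swap 2 3 by decide,
        show swap (1 : Fin 5) 2 * swap 0 2 * (swap 1 2)⁻¹ = swap 0 1 by decide] at h'
    have hne3 : φ (swap 1 2) ≠ φ (swap 0 3) := by
      intro h
      apply hne2
      have h' := congrArg (cj (φ (swap 2 3))) h
      simp only [cj, ← map_mul, ← map_inv] at h'
      rwa [show swap (2 : Fin 5) 3 * swap 1 2 * (swap 2 3)⁻¹ = swap 1 3 by decide,
        show swap (2 : Fin 5) 3 * swap 0 3 * (swap 2 3)⁻¹ = swap 0 2 by decide] at h'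
    have h1 := hnbout x hx hxT 0 1 2 3 (by decide) (by decide) (by decide) hne1
    have hx1T := hout (swap 0 1 * swap 2 3) x hxT
    have h2 := hnbout _ h1.1 hx1T 0 2 1 3 (by decide) (by decide) (by decide) hne2
    have h3 := hnbout x hx hxT 0 3 1 2 (by decide) (by decide) (by decide) hne3
    rw [show swap (0 : Fin 5) 3 * swap 1 2
      = (swap 0 2 * swap 1 3) * (swap 0 1 * swap 2 3) by decide, map_mul, ← cj_cj] at h3
    exact no_triangle H hx h1 h2 h3
  -- injectivity
  have hinjswap : ∀ i j : Fin 5, i ≠ j → φ (swap i j) = φ (swap 0 1) → swap i j = swap 0 1 := by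
    intro i j hij h
    rcases perm_five_orbits i j hij with h0 | ⟨g, hg, hg'⟩
    · exact h0
    exfalso
    have h' : φ (g * swap i j * g⁻¹) = d := by
      rw [map_mul, map_mul, h, ← map_mul, ← map_mul, hg, hφ0]
    rcases hg' with hg' | hg'
    · rw [hg', hφ1] at h'; exact hed h'
    · rw [hg', hφ2] at h'; exact ha.2.1 h'
  have hinjswap' : ∀ s t : Equiv.Perm (Fin 5), s.IsSwap → t.IsSwap → φ s = φ t → s = t := by
    intro s t hs ht h
    obtain ⟨g, rfl⟩ := hswapconj t ht
    obtain ⟨i, j, hij, rfl⟩ := hs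
    have h1 : φ (g⁻¹ * swap i j * g) = φ (swap 0 1) := by
      simp only [map_mul, map_inv] at h ⊢; rw [h]; group
    have hconj : g⁻¹ * swap i j * g = swap (g⁻¹ i) (g⁻¹ j) := by
      rw [Equiv.mul_swap_eq_swap_mul, mul_assoc, inv_mul_cancel, mul_one]
    rw [hconj] at h1
    have h2 := hinjswap _ _ (fun hh => hij (g⁻¹.injective hh)) h1
    rw [← h2, ← hconj]; group
  have hinj : Function.Injective φ := by
    refine (injective_iff_map_eq_one φ).2 fun k hk => ?_
    have hc : ∀ i j : Fin 5, i ≠ j → k * swap i j = swap i j * k := by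
      intro i j hij
      have hs : (k * swap i j * k⁻¹).IsSwap := by
        refine ⟨k i, k j, fun h => hij (k.injective h), ?_⟩
        rw [Equiv.mul_swap_eq_swap_mul, mul_assoc, mul_inv_cancel, mul_one]
      have h := hinjswap' _ _ hs ⟨i, j, hij, rfl⟩ (by simp [hk])
      exact mul_inv_eq_iff_eq_mul.1 h
    exact perm_five_center k (hc 0 1 (by decide)) (hc 1 2 (by decide)) (hc 2 3 (by decide))
      (hc 3 4 (by decide))
  have hrange : φ.range = Subgroup.closure D := by
    refine le_antisymm ?_ ((Subgroup.closure_le _).2 fun x hx => ?_)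
    · rw [MonoidHom.range_eq_map, ← Equiv.Perm.closure_isSwap, MonoidHom.map_closure]
      refine Subgroup.closure_mono ?_
      rintro _ ⟨s, hs, rfl⟩
      exact hTD _ (hTswap s hs)
    · obtain ⟨g, rfl⟩ := hall x hx
      exact ⟨g * swap 0 1 * g⁻¹, by simp [cj, hφ0]⟩
  exact ⟨((MonoidHom.ofInjective hinj).trans (MulEquiv.subgroupCongr hrange)).symm⟩

end Cfsg.Agent.H76.LocallyS3
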