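import Cfsg.Agent.H76.LocallyS3Basic
import Cfsg.Agent.Cores.PCore

set_option autoImplicit false

/-!
Locally `S₃` 3-transposition sets all of whose components are complete bipartite: either there is
one component and the group is `S₃ × S₃`, or there is a large normal 3-subgroup.
-/

namespace Cfsg.Agent.H76.LocallyS3

variable {G : Type*} [Group G] {D : Set G}

/-- All members commuting with `d` have the same neighbourhood. -/
def Sq (D : Set G) : Prop := ∀ d ∈ D, ∀ a ∈ nb D d, ∀ b ∈ nb D d, nb D a = nb D b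

/-- The subgroup generated by the products of pairs from a set. -/
def M (s : Set G) : Subgroup G := Subgroup.closure {z : G | ∃ p ∈ s, ∃ q ∈ s, z = p * q}

/-- The side of `d`. -/
def side (D : Set G) (d : G) : Set G := {y : G | y ∈ D ∧ nb D y = nb D d}

/-- The 3-group attached to the component of `d`. -/
def Q (D : Set G) (d : G) : Subgroup G := M (nb D d) ⊔ M (side D d)

theorem side_eq (H : IsLocS3 D) (hS : Sq D) {d a : G} (hd : d ∈ D) (ha : a ∈ nb D d) :
    side D d = nb D a := by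
  ext y
  constructor
  · rintro ⟨hy, he⟩
    exact nb_symm hy (he ▸ ha)
  · intro hy
    exact ⟨hy.1, hS a ha.1 y hy d (nb_symm hd ha)⟩

theorem side_nb (H : IsLocS3 D) (hS : Sq D) {d a : G} (hd : d ∈ D) (ha : a ∈ nb D d) :
    side D a = nb D d :=
  side_eq H hS ha.1 (nb_symm hd ha)

theorem Q_of_nb (H : IsLocS3 D) (hS : Sq D) {d a : G} (hd : d ∈ D) (ha : a ∈ nb D d) :
    Q D a = Q D d := by
  rw [Q, Q, side_nb H hS hd ha, side_eq H hS hd ha, sup_comm]

theorem cj_image_nb (H : IsLocS3 D) (g d : G) : cj g '' side D d = side D (cj g d) := by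
  ext y
  constructor
  · rintro ⟨x, ⟨hx, he⟩, rfl⟩
    exact ⟨cj_mem H g hx, by rw [nb_cj H, nb_cj H, he]⟩
  · rintro ⟨hy, he⟩
    refine ⟨cj g⁻¹ y, ⟨cj_mem H _ hy, ?_⟩, by simp only [cj]; group⟩
    rw [nb_cj H, he, ← nb_cj H]
    congr 1
    simp only [cj]; group

theorem M_map (g : G) (s : Set G) :
    (M s).map (MulAut.conj g).toMonoidHom = M (cj g '' s) := by
  rw [M, M, MonoidHom.map_closure]
  congr 1
  ext z
  simp only [Set.mem_image, Set.mem_setOf_eq, MulEquiv.coe_toMonoidHom, MulAut.conj_apply]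
  constructor
  · rintro ⟨_, ⟨p, hp, q, hq, rfl⟩, rfl⟩
    exact ⟨_, ⟨p, hp, rfl⟩, _, ⟨q, hq, rfl⟩, by simp only [cj]; group⟩
  · rintro ⟨_, ⟨p, hp, rfl⟩, _, ⟨q, hq, rfl⟩, rfl⟩
    exact ⟨p * q, ⟨p, hp, q, hq, rfl⟩, by simp only [cj]; group⟩

theorem Q_map (H : IsLocS3 D) (g d : G) :
    (Q D d).map (MulAut.conj g).toMonoidHom = Q D (cj g d) := by
  rw [Q, Q, Subgroup.map_sup, M_map, M_map, ← nb_cj H, cj_image_nb H]

theorem pow_three (H : IsLocS3 D) {u v : G} (hu : u ∈ D) (hv : v ∈ D) (huv : ¬ Commute u v) :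
    (u * v) ^ 3 = 1 := by
  rcases H.tt.2 u hu v hv with h2 | h3
  · refine absurd ?_ huv
    have h4 : u * v = (u * v)⁻¹ := by rw [eq_inv_iff_mul_eq_one, ← pow_two, h2]
    rwa [mul_inv_rev, inv' H hu, inv' H hv] at h4
  · exact h3

theorem isPGroup_M (H : IsLocS3 D) {d : G} (hd : d ∈ D) : IsPGroup 3 (M (nb D d)) := by
  obtain ⟨a, ha, b, hb, hab⟩ := exists_pair H hd
  have hnab := nb_noncomm H hd ha hb hab
  have hle : M (nb D d) ≤ Subgroup.zpowers (a * b) := by
    refine (Subgroup.closure_le _).2 ?_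
    have hm : ∀ y ∈ nb D d, a * y ∈ Subgroup.zpowers (a * b) := by
      rw [nb_eq H hd ha hb hab]
      rintro y (rfl | rfl | rfl)
      · rw [sq H ha.1]; exact one_mem _
      · exact Subgroup.mem_zpowers _
      · rw [cj_self H ha.1, show a * (a * b * a) = a * a * (b * a) by group, sq H ha.1, one_mul]
        have : b * a = (a * b)⁻¹ := by rw [mul_inv_rev, inv' H ha.1, inv' H hb.1]
        rw [this]
        exact inv_mem (Subgroup.mem_zpowers _)
    rintro z ⟨p, hp, q, hq, rfl⟩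
    have h1 := mul_mem (inv_mem (hm p hp)) (hm q hq)
    rwa [mul_inv_rev, inv' H ha.1, inv' H hp.1, show p * a * (a * q) = p * (a * a) * q by group,
      sq H ha.1, mul_one] at h1
  refine IsPGroup.to_le ?_ hle
  intro x
  refine ⟨1, ?_⟩
  obtain ⟨k, hk⟩ := Subgroup.mem_zpowers_iff.1 x.2
  apply Subtype.ext
  rw [SubmonoidClass.coe_pow, OneMemClass.coe_one, ← hk, ← zpow_natCast, ← zpow_mul, mul_comm,
    zpow_mul, pow_one, zpow_natCast, pow_three H ha.1 hb.1 hnab, one_zpow]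

theorem isPGroup_Q (H : IsLocS3 D) (hS : Sq D) {d : G} (hd : d ∈ D) : IsPGroup 3 (Q D d) := by
  obtain ⟨a, ha, -⟩ := exists_pair H hd
  rw [Q, side_eq H hS hd ha]
  refine (isPGroup_M H hd).to_sup_of_normal_right' (isPGroup_M H ha.1)
    (le_trans ?_ (Subgroup.centralizer_le_normalizer _))
  refine (Subgroup.closure_le _).2 ?_
  rintro z ⟨p, hp, q, hq, rfl⟩
  rw [SetLike.mem_coe, M, Subgroup.centralizer_closure]
  rintro y ⟨p', hp', q', hq', rfl⟩
  have key : ∀ u ∈ nb D d, ∀ v ∈ nb D a, Commute u v := by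
    intro u hu v hv
    rw [← side_eq H hS hd ha] at hv
    rw [← hv.2] at hu
    exact hu.2.2.symm
  exact (((key p hp p' hp').mul_left (key q hq p' hp')).mul_right
    ((key p hp q' hq').mul_left (key q hq q' hq'))).eq.symm

theorem cj_pair_Q (H : IsLocS3 D) (hS : Sq D) {u p d : G} (hu : u ∈ D) (hp : p ∈ nb D u)
    (hd : d ∈ D) : Q D (cj (p * u) d) = Q D d := by
  have hpu := nb_symm hu hp
  by_cases h1 : Commute d p
  · rw [← cj_cj]
    by_cases hdu : Commute d u
    · have e1 : cj u d = d := by rw [cj, hdu.symm.eq, mul_inv_cancel_right]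
      rw [e1, show cj p d = d by rw [cj, h1.symm.eq, mul_inv_cancel_right]]
    · have hdnb : d ∈ nb D p := ⟨hd, fun h => hdu (by rw [h]; exact hp.2.2.symm), h1.symm⟩
      have h2 : cj u d ∈ nb D p := third_mem H hp.1 hpu hdnb
      rw [show cj p (cj u d) = cj u d by rw [cj, h2.2.2.eq, mul_inv_cancel_right]]
      have h3 : nb D (cj u d) = nb D d := hS p hp.1 _ h2 _ hdnb
      simp only [Q, side, h3]
  · by_cases hdu : Commute d u
    · rw [← cj_cj, show cj u d = d by rw [cj, hdu.symm.eq, mul_inv_cancel_right]]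
      have hdnb : d ∈ nb D u := ⟨hd, fun h => h1 (by rw [h]; exact hp.2.2), hdu.symm⟩
      have h2 : cj p d ∈ nb D u := third_mem H hu hp hdnb
      have h3 : nb D (cj p d) = nb D d := hS u hu _ h2 _ hdnb
      simp only [Q, side, h3]
    · exact Q_of_nb H hS hd (sigma_mem H hp.1 hpu hd h1 hdu)

theorem Q_le_normalizer (H : IsLocS3 D) (hS : Sq D) {e d : G} (he : e ∈ D) (hd : d ∈ D) :
    Q D e ≤ Subgroup.normalizer (Q D d : Set G) := by
  have key : ∀ u ∈ D, ∀ p ∈ nb D u, p * u ∈ Subgroup.normalizer (Q D d : Set G) := by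
    intro u hu p hp
    have hmap : (Q D d).map (MulAut.conj (p * u)).toMonoidHom = Q D d := by
      rw [Q_map H, cj_pair_Q H hS hu hp hd]
    rw [Subgroup.mem_normalizer_iff]
    intro h
    constructor
    · intro hh
      rw [← hmap]
      exact ⟨h, hh, rfl⟩
    · intro hh
      rw [← hmap] at hh
      obtain ⟨h', hh', he'⟩ := hh
      have he'' : (p * u) * h' * (p * u)⁻¹ = (p * u) * h * (p * u)⁻¹ := he'
      rwa [show h' = h by simpa using he''] at hh'
  have key2 : ∀ u ∈ D, ∀ p ∈ nb D u, ∀ q ∈ nb D u,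
      p * q ∈ Subgroup.normalizer (Q D d : Set G) := by
    intro u hu p hp q hq
    have := mul_mem (key u hu p hp) (inv_mem (key u hu q hq))
    rwa [show p * u * (q * u)⁻¹ = p * q⁻¹ by group, inv' H hq.1] at this
  obtain ⟨a, ha, -⟩ := exists_pair H he
  rw [Q, side_eq H hS he ha, sup_le_iff]
  refine ⟨(Subgroup.closure_le _).2 ?_, (Subgroup.closure_le _).2 ?_⟩
  · rintro z ⟨p, hp, q, hq, rfl⟩; exact key2 e he p hp q hq
  · rintro z ⟨p, hp, q, hq, rfl⟩; exact key2 a ha.1 p hp q hq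

theorem isPGroup_sup_Q [Finite G] (H : IsLocS3 D) (hS : Sq D) :
    IsPGroup 3 (⨆ d ∈ D, Q D d : Subgroup G) := by
  classical
  have hfin : D.Finite := D.toFinite
  suffices ∀ F : Finset G, ↑F ⊆ D →
      IsPGroup 3 (F.sup (Q D) : Subgroup G) ∧ ∀ d ∈ D, F.sup (Q D) ≤ Subgroup.normalizer (Q D d : Set G) by
    have h := (this hfin.toFinset (by simp)).1
    rwa [Finset.sup_eq_iSup, show (⨆ a ∈ hfin.toFinset, Q D a) = ⨆ d ∈ D, Q D d by simp] at h
  intro F
  induction F using Finset.induction with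
  | empty => exact fun _ => ⟨by rw [Finset.sup_empty]; exact IsPGroup.of_bot, by simp⟩
  | insert e F heF ih =>
    intro hF
    rw [Finset.coe_insert, Set.insert_subset_iff] at hF
    obtain ⟨ih1, ih2⟩ := ih hF.2
    rw [Finset.sup_insert]
    refine ⟨?_, fun d hd => sup_le (Q_le_normalizer H hS hF.1 hd) (ih2 d hd)⟩
    rw [sup_comm]
    exact ih1.to_sup_of_normal_right' (isPGroup_Q H hS hF.1) (ih2 e hF.1)

theorem sup_Q_normal (H : IsLocS3 D) : (⨆ d ∈ D, Q D d : Subgroup G).Normal := by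
  refine ⟨fun n hn g => ?_⟩
  have hle : (⨆ d ∈ D, Q D d : Subgroup G).map (MulAut.conj g).toMonoidHom ≤ ⨆ d ∈ D, Q D d := by
    simp only [Subgroup.map_iSup, Q_map H]
    exact iSup₂_le fun d hd => le_biSup (Q D) (cj_mem H g hd)
  exact hle ⟨n, hn, rfl⟩

/-- The component of `d`. -/
def comp (D : Set G) (d : G) : Set G := nb D d ∪ side D d

theorem comp_closed (H : IsLocS3 D) (hS : Sq D) {d t : G} (hd : d ∈ D) (ht : t ∈ comp D d) :
    nb D t ⊆ comp D d := by
  rcases ht with ht | ht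
  · exact fun y hy => Or.inr (side_eq H hS hd ht ▸ hy)
  · exact fun y hy => Or.inl (ht.2 ▸ hy)

theorem closure_center (H : IsLocS3 D) {d z : G} (hd : d ∈ D)
    (hz : z ∈ Subgroup.closure (nb D d)) (hc : ∀ a ∈ nb D d, Commute z a) : z = 1 := by
  obtain ⟨e⟩ := H.loc d hd
  have h1 : ∀ w ∈ Subgroup.closure (nb D d), Commute z w := fun w hw =>
    Subgroup.closure_induction (fun a ha => hc a ha) (Commute.one_right z)
      (fun _ _ _ _ h h' => h.mul_right h') (fun _ _ h => h.inv_right) hw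
  have h2 : e ⟨z, hz⟩ = 1 := perm_three_center _ fun w => by
    obtain ⟨w', rfl⟩ := e.surjective w
    rw [← map_mul, ← map_mul]
    exact congrArg e (Subtype.ext (h1 _ w'.2).eq)
  exact congrArg Subtype.val (e.map_eq_one_iff.1 h2)

theorem mem_comp_of_subsingleton_core [Finite G] (H : IsLocS3 D) (hS : Sq D) {d x : G}
    (hd : d ∈ D) (hcore : Nat.card (Cfsg.pCore 3 ↥(Subgroup.centralizer ({d} : Set G))) = 3)
    (hx : x ∈ D) : x ∈ comp D d := by
  by_contra hxT
  have hnc : ∀ t ∈ comp D d, ¬ Commute t x := by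
    intro t ht hc
    refine hxT (comp_closed H hS hd ht ⟨hx, fun h => hxT (by rwa [h]), hc⟩)
  have hdT : d ∈ comp D d := Or.inr ⟨hd, rfl⟩
  -- `d` commutes with no member of the component of `x`
  have hv : ∀ v ∈ nb D x, ¬ Commute d v := by
    intro v hv hc
    by_cases hvd : v = d
    · exact hnc d hdT (hvd ▸ hv.2.2.symm)
    exact hnc v (comp_closed H hS hd hdT ⟨hv.1, hvd, hc⟩) hv.2.2.symm
  have hu : ∀ u ∈ side D x, ¬ Commute d u := by
    intro u hu hc
    have huT : u ∈ comp D d := by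
      by_cases hud : u = d
      · rw [hud]; exact hdT
      exact comp_closed H hS hd hdT ⟨hu.1, hud, hc⟩
    obtain ⟨v, hvx, -⟩ := exists_pair H hx
    have hvT : v ∈ comp D d := comp_closed H hS hd huT (hu.2.symm ▸ hvx)
    exact hnc v hvT hvx.2.2.symm
  obtain ⟨v0, hv0, v1, hv1, hv01⟩ := exists_pair H hx
  have hxnb : x ∈ nb D v0 := nb_symm hx hv0
  obtain ⟨u0, hu0, u1, hu1, hu01⟩ := exists_pair H hv0.1
  rw [← side_eq H hS hx hv0] at hu0 hu1
  have hσ : ∀ v ∈ nb D x, ∀ u ∈ side D x, cj (v * u) d ∈ nb D d := by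
    intro v hv' u hu'
    exact sigma_mem H hv'.1 (nb_symm hu'.1 (hu'.2.symm ▸ hv')) hd (hv v hv') (hu u hu')
  -- four of these involutions, three possible images
  obtain ⟨v, hv', u, hu', w, hw', r, hr', hne, heq⟩ :
      ∃ v ∈ nb D x, ∃ u ∈ side D x, ∃ w ∈ nb D x, ∃ r ∈ side D x,
        ¬ (v = w ∧ u = r) ∧ cj (v * u) d = cj (w * r) d := by
    obtain ⟨p, hp, q, hq, hpq⟩ := exists_pair H hd
    have hn := nb_eq H hd hp hq hpq
    have m := fun v hv u hu => (hn ▸ hσ v hv u hu : cj (v * u) d ∈ ({p, q, cj p q} : Set G))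
    by_contra hcon
    push Not at hcon
    have n1 := hcon v0 hv0 u0 hu0 v0 hv0 u1 hu1 fun _ => hu01
    have n2 := hcon v0 hv0 u0 hu0 v1 hv1 u0 hu0 fun h => absurd h hv01
    have n3 := hcon v0 hv0 u0 hu0 v1 hv1 u1 hu1 fun h => absurd h hv01
    have n4 := hcon v0 hv0 u1 hu1 v1 hv1 u0 hu0 fun h => absurd h hv01
    have n5 := hcon v0 hv0 u1 hu1 v1 hv1 u1 hu1 fun h => absurd h hv01
    have n6 := hcon v1 hv1 u0 hu0 v1 hv1 u1 hu1 fun _ h => hu01 h
    have m1 := m v0 hv0 u0 hu0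
    have m2 := m v0 hv0 u1 hu1
    have m3 := m v1 hv1 u0 hu0
    have m4 := m v1 hv1 u1 hu1
    simp only [Set.mem_insert_iff, Set.mem_singleton_iff] at m1 m2 m3 m4
    grind
  have hcvu : Commute v u := by
    have : v ∈ nb D u := hu'.2.symm ▸ hv'
    exact this.2.2.symm
  have hcwr : Commute w r := by
    have : w ∈ nb D r := hr'.2.symm ▸ hw'
    exact this.2.2.symm
  have hcwu : Commute w u := by
    have : w ∈ nb D u := hu'.2.symm ▸ hw'
    exact this.2.2.symm
  set σ := v * u with hσdef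
  set τ := w * r with hτdef
  have hσ2 : σ * σ = 1 := by
    rw [hσdef, show v * u * (v * u) = v * (u * v) * u by group, ← hcvu.eq,
      show v * (v * u) * u = v * v * (u * u) by group, sq H hv'.1, sq H hu'.1, one_mul]
  have hτ2 : τ * τ = 1 := by
    rw [hτdef, show w * r * (w * r) = w * (r * w) * r by group, ← hcwr.eq,
      show w * (w * r) * r = w * w * (r * r) by group, sq H hw'.1, sq H hr'.1, one_mul]
  set z := σ * τ with hzdef
  have hzW : z ∈ (⨆ d ∈ D, Q D d : Subgroup G) := by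
    refine le_biSup (Q D) hx ?_
    have h : z = (v * w) * (u * r) := by
      rw [hzdef, hσdef, hτdef, show v * u * (w * r) = v * (u * w) * r by group, ← hcwu.eq]
      group
    rw [h]
    exact mul_mem (le_sup_left (b := M (side D x)) (Subgroup.subset_closure ⟨v, hv', w, hw', rfl⟩))
      (le_sup_right (a := M (nb D x)) (Subgroup.subset_closure ⟨u, hu', r, hr', rfl⟩))
  have hz1 : z ≠ 1 := by
    intro hz
    have h : v * w = r * u := by
      have h' : (v * w) * (u * r) = 1 := by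
        rw [← hz, hzdef, hσdef, hτdef, show v * u * (w * r) = v * (u * w) * r by group, ← hcwu.eq]
        group
      rw [eq_inv_of_mul_eq_one_left h', mul_inv_rev, inv' H hu'.1, inv' H hr'.1]
    have hvw : v * w = 1 := closure_center H hx
      (mul_mem (Subgroup.subset_closure hv') (Subgroup.subset_closure hw')) fun t ht => by
        rw [h]
        have h1 : t ∈ nb D u := hu'.2.symm ▸ ht
        have h2 : t ∈ nb D r := hr'.2.symm ▸ ht
        exact h2.2.2.mul_left h1.2.2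
    apply hne
    rw [hvw] at h
    exact ⟨by rw [eq_inv_of_mul_eq_one_left hvw, inv' H hw'.1],
      by rw [eq_inv_of_mul_eq_one_right h.symm, inv' H hr'.1]⟩
  set e := cj σ d with hedef
  have hσi : σ⁻¹ = σ := inv_eq_of_mul_eq_one_left hσ2
  have hτi : τ⁻¹ = τ := inv_eq_of_mul_eq_one_left hτ2
  have hzd : cj z d = d := by
    rw [hzdef, ← cj_cj, ← heq, cj_cj, hσ2]
    simp [cj]
  have hze : cj z e = e := by
    have h1 : cj z⁻¹ e = e := by
      rw [hzdef, mul_inv_rev, hσi, hτi, hedef, cj_cj, mul_assoc, hσ2, mul_one, ← heq]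
    calc cj z e = cj z (cj z⁻¹ e) := by rw [h1]
      _ = e := by rw [cj_cj, mul_inv_cancel]; simp [cj]
  have hzd' : Commute z d := by
    have := mul_inv_eq_iff_eq_mul.1 hzd; exact this
  have hze' : Commute z e := by
    have := mul_inv_eq_iff_eq_mul.1 hze; exact this
  have he : e ∈ nb D d := hσ v hv' u hu'
  obtain ⟨b, hb, hbe⟩ : ∃ b ∈ nb D d, b ≠ e := by
    obtain ⟨p, hp, q, hq, hpq⟩ := exists_pair H hd
    by_cases h : p = e
    · exact ⟨q, hq, fun h' => hpq (h.trans h'.symm)⟩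
    · exact ⟨p, hp, h⟩
  -- both lie in the 3-core of the centraliser
  set C := Subgroup.centralizer ({d} : Set G) with hC
  have hmemC : ∀ {g : G}, Commute g d → g ∈ C := fun hg =>
    Subgroup.mem_centralizer_singleton_iff.2 hg.eq
  have hgW : e * b ∈ (⨆ d ∈ D, Q D d : Subgroup G) := le_biSup (Q D) hd
    (le_sup_left (b := M (side D d)) (Subgroup.subset_closure ⟨e, he, b, hb, rfl⟩))
  have := sup_Q_normal H
  have hK : ((⨆ d ∈ D, Q D d : Subgroup G).subgroupOf C) ≤ Cfsg.pCore 3 ↥C :=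
    Cores.le_pCore (IsPGroup.comap_subtype (isPGroup_sup_Q H hS))
  have hzc : (⟨z, hmemC hzd'⟩ : ↥C) ∈ Cfsg.pCore 3 ↥C := hK hzW
  have hgc : (⟨e * b, hmemC (he.2.2.symm.mul_left hb.2.2.symm)⟩ : ↥C) ∈ Cfsg.pCore 3 ↥C := hK hgW
  have hg1 : e * b ≠ 1 := fun h => hbe (by rw [eq_inv_of_mul_eq_one_right h, inv' H he.1])
  have : Fact (Nat.Prime 3) := ⟨Nat.prime_three⟩
  have htop := zpowers_eq_top_of_prime_card (G := ↥(Cfsg.pCore 3 ↥C))
    (g := ⟨_, hgc⟩) hcore (fun h => hg1 (congrArg (fun t => ((t.1 : ↥C) : G)) h))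
  obtain ⟨k, hk⟩ := Subgroup.mem_zpowers_iff.1
    (show (⟨_, hzc⟩ : ↥(Cfsg.pCore 3 ↥C)) ∈ Subgroup.zpowers ⟨_, hgc⟩ by rw [htop]; trivial)
  have hk' : (e * b) ^ k = z := congrArg (fun t => ((t.1 : ↥C) : G)) hk
  have hz3 : z ^ 3 = 1 := by
    have := pow_card_eq_one' (G := ↥(Cfsg.pCore 3 ↥C)) (x := ⟨_, hzc⟩)
    rw [hcore] at this
    exact congrArg (fun t => ((t.1 : ↥C) : G)) this
  have hinvGen : ∀ p q : G, p ∈ D → q ∈ D → p * (p * q) * p⁻¹ = (p * q)⁻¹ := fun p q hp hq => by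
    rw [mul_inv_rev, inv' H hp, inv' H hq, show p * (p * q) * p = p * p * (q * p) by group,
      sq H hp, one_mul]
  have hinv : e * (e * b) * e⁻¹ = (e * b)⁻¹ := hinvGen e b he.1 hb.1
  have hzz : z = z⁻¹ := by
    conv_lhs => rw [show z = e * z * e⁻¹ by rw [← hze'.eq, mul_inv_cancel_right]]
    rw [← hk', ← conj_zpow, hinv, inv_zpow]
  apply hz1
  have h2 : z * z = 1 := by nth_rewrite 2 [hzz]; exact mul_inv_cancel z
  calc z = z ^ 3 := by rw [pow_succ, pow_two, h2, one_mul]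
    _ = 1 := hz3

theorem square [Finite G] (H : IsLocS3 D) (hS : Sq D) {d : G} (hd : d ∈ D)
    (hcore : Nat.card (Cfsg.pCore 3 ↥(Subgroup.centralizer ({d} : Set G))) = 3) :
    Nonempty (↥(Subgroup.closure D) ≃* Equiv.Perm (Fin 3) × Equiv.Perm (Fin 3)) := by
  obtain ⟨a, ha, -⟩ := exists_pair H hd
  obtain ⟨e1⟩ := H.loc d hd
  obtain ⟨e2⟩ := H.loc a ha.1
  have hcomm : ∀ u ∈ nb D d, ∀ v ∈ nb D a, Commute u v := by
    intro u hu v hv
    rw [← side_eq H hS hd ha] at hv
    rw [← hv.2] at hu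
    exact hu.2.2.symm
  have hle : Subgroup.closure (nb D d) ≤
      Subgroup.centralizer (Subgroup.closure (nb D a) : Set G) := by
    rw [Subgroup.closure_le, Subgroup.centralizer_closure]
    exact fun u hu v hv => (hcomm u hu v hv).eq.symm
  let f : ↥(Subgroup.closure (nb D d)) × ↥(Subgroup.closure (nb D a)) →* G :=
    MonoidHom.noncommCoprod (Subgroup.closure (nb D d)).subtype
      (Subgroup.closure (nb D a)).subtype fun m n => (hle m.2 _ n.2).symm
  have hf : ∀ m n, f (m, n) = (m : G) * n := fun m n => rfl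
  have hinj : Function.Injective f := by
    refine (injective_iff_map_eq_one f).2 ?_
    rintro ⟨m, n⟩ h
    rw [hf] at h
    have hm : (m : G) = 1 := closure_center H hd m.2 fun u hu => by
      rw [eq_inv_of_mul_eq_one_left h]
      exact Commute.inv_left (hle (Subgroup.subset_closure hu) _ n.2)
    rw [hm, one_mul] at h
    exact Prod.ext (Subtype.ext hm) (Subtype.ext h)
  have hrange : f.range = Subgroup.closure D := by
    refine le_antisymm ?_ ((Subgroup.closure_le _).2 fun x hx => ?_)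
    · rintro _ ⟨⟨m, n⟩, rfl⟩
      rw [hf]
      exact mul_mem (Subgroup.closure_mono (fun y hy => hy.1) m.2)
        (Subgroup.closure_mono (fun y hy => hy.1) n.2)
    · rcases mem_comp_of_subsingleton_core H hS hd hcore hx with h | h
      · exact ⟨(⟨x, Subgroup.subset_closure h⟩, 1), by rw [hf]; simp⟩
      · rw [side_eq H hS hd ha] at h
        exact ⟨(1, ⟨x, Subgroup.subset_closure h⟩), by rw [hf]; simp⟩
  exact ⟨(((MonoidHom.ofInjective hinj).trans (MulEquiv.subgroupCongr hrange)).symm).trans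
    (MulEquiv.prodCongr e1 e2)⟩

end Cfsg.Agent.H76.LocallyS3
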