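import Mathlib
import Cfsg.Agent.Cores.Basic

/-!
Isaacs: an element of minimal non-central class size commutes with a normal abelian subgroup
modulo the centre.
-/

set_option autoImplicit false

open scoped Pointwise commutatorElement IsMulCommutative

namespace Cfsg.Agent.H76

variable {G : Type*} [Group G] [Finite G]

/-- If all non-central classes have size `m`, commutators with a normal abelian subgroup are
central. -/
theorem commutatorElement_mem_center_of_equal_class {m : ℕ}
    (h : ∀ g : G, g ∉ Subgroup.center G → (Subgroup.centralizer ({g} : Set G)).index = m)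
    (A : Subgroup G) [A.Normal] (hA : IsMulCommutative A) (x : G) {a : G} (ha : a ∈ A) :
    ⁅x, a⁆ ∈ Subgroup.center G := by
  classical
  have hcomm : ∀ u ∈ A, ∀ v ∈ A, u * v = v * u := fun u hu v hv =>
    congrArg Subtype.val (hA.is_comm.comm (⟨u, hu⟩ : A) ⟨v, hv⟩)
  have hmem : ∀ b ∈ A, x * b * x⁻¹ * b⁻¹ ∈ A := fun b hb =>
    mul_mem (Subgroup.Normal.conj_mem ‹_› b hb x) (inv_mem hb)
  let φ : A →* A := MonoidHom.mk' (fun b => ⟨x * b * x⁻¹ * (b : G)⁻¹, hmem b b.2⟩) (by
    intro b c
    apply Subtype.ext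
    simp only [Subgroup.coe_mul]
    have hc : x * (c : G) * x⁻¹ * (c : G)⁻¹ * (b : G)⁻¹ =
        (b : G)⁻¹ * (x * (c : G) * x⁻¹ * (c : G)⁻¹) :=
      hcomm _ (hmem c c.2) _ (inv_mem b.2)
    calc x * ((b : G) * c) * x⁻¹ * ((b : G) * c)⁻¹
        = x * b * x⁻¹ * (x * c * x⁻¹ * (c : G)⁻¹ * (b : G)⁻¹) := by group
      _ = x * b * x⁻¹ * ((b : G)⁻¹ * (x * c * x⁻¹ * (c : G)⁻¹)) := by rw [hc]
      _ = _ := by group)
  set u : G := ⁅x, a⁆ with hu
  by_contra huZ
  have huA : u ∈ A := by rw [hu, commutatorElement_def]; exact hmem a ha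
  have hxZ : x ∉ Subgroup.center G := fun hc => huZ (by
    rw [hu, commutatorElement_eq_one_iff_mul_comm.mpr (Subgroup.mem_center_iff.mp hc a).symm]
    exact one_mem _)
  set D := Subgroup.centralizer ({x} : Set G) with hD
  set C := Subgroup.centralizer ({u} : Set G) with hC
  set U : Subgroup G := φ.range.map A.subtype with hU
  -- conjugation by `D` moves `u` inside `U \ {1}`
  have horb : ∀ d : D, (d : G) * u * (d : G)⁻¹ ∈ (U : Set G) \ {1} := by
    intro d
    have hd : (d : G) * x * (d : G)⁻¹ = x := by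
      rw [← (Subgroup.mem_centralizer_iff.mp d.2 x rfl)]; group
    refine ⟨⟨φ ⟨(d : G) * a * (d : G)⁻¹, Subgroup.Normal.conj_mem ‹_› a ha _⟩, ⟨_, rfl⟩, ?_⟩, ?_⟩
    · show x * ((d : G) * a * (d : G)⁻¹) * x⁻¹ * ((d : G) * a * (d : G)⁻¹)⁻¹ = _
      rw [hu, commutatorElement_def]
      conv_lhs => rw [← hd]
      group
    · intro h1
      rw [Set.mem_singleton_iff] at h1
      have hu1 : u = 1 := by
        have e : (d : G)⁻¹ * ((d : G) * u * (d : G)⁻¹) * d = u := by group
        rw [← e, h1]; group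
      exact huZ (hu1 ▸ one_mem _)
  let ψ : D ⧸ C.subgroupOf D → ((U : Set G) \ {1} : Set G) :=
    Quotient.lift (fun d => ⟨_, horb d⟩) (fun d e hde => Subtype.ext (by
      have h0 : d⁻¹ * e ∈ C.subgroupOf D := QuotientGroup.leftRel_apply.mp hde
      have h1 : ((d : G)⁻¹ * (e : G)) ∈ C := h0
      have h2 := Subgroup.mem_centralizer_iff.mp h1 u rfl
      calc (d : G) * u * (d : G)⁻¹ = d * (u * ((d : G)⁻¹ * e)) * (e : G)⁻¹ := by group
        _ = d * (((d : G)⁻¹ * e) * u) * (e : G)⁻¹ := by rw [h2]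
        _ = _ := by group))
  have hψ : Function.Injective ψ := by
    intro p q hpq
    induction p using QuotientGroup.induction_on with
    | _ d =>
      induction q using QuotientGroup.induction_on with
      | _ e =>
        apply QuotientGroup.eq.mpr
        rw [Subgroup.mem_subgroupOf, hC, Subgroup.mem_centralizer_iff]
        rintro v rfl
        have h1 : (d : G) * u * (d : G)⁻¹ = (e : G) * u * (e : G)⁻¹ := congrArg Subtype.val hpq
        simp only [Subgroup.coe_mul, Subgroup.coe_inv]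
        calc u * ((d : G)⁻¹ * e) = (d : G)⁻¹ * ((d : G) * u * (d : G)⁻¹) * e := by group
          _ = (d : G)⁻¹ * ((e : G) * u * (e : G)⁻¹) * e := by rw [h1]
          _ = _ := by group
  have hlt : Nat.card (D ⧸ C.subgroupOf D) + 1 ≤ Nat.card U := by
    have h1 := Nat.card_le_card_of_injective ψ hψ
    rw [Nat.card_coe_set_eq ((U : Set G) \ {1})] at h1
    have h2 : ((U : Set G) \ {1}).ncard + 1 = Nat.card U := by
      rw [Set.ncard_diff_singleton_add_one U.one_mem]; rfl
    omega
  -- cardinalities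
  have hDC : Nat.card C = Nat.card D := by
    apply Nat.eq_of_mul_eq_mul_right (Nat.pos_of_ne_zero (Subgroup.index_ne_zero_of_finite (H := C)))
    rw [Subgroup.card_mul_index, hC, h u huZ, ← h x hxZ, ← hD, Subgroup.card_mul_index]
  have hAC : A ≤ C := fun v hv => Subgroup.mem_centralizer_iff.mpr (by
    rintro w rfl; exact hcomm _ huA _ hv)
  set E := D ⊓ C
  have hE : Nat.card E * Nat.card (D ⧸ C.subgroupOf D) = Nat.card D := by
    rw [mul_comm, (C.subgroupOf D).card_eq_card_quotient_mul_card_subgroup]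
    congr 1
    refine Nat.card_congr ⟨fun e => ⟨⟨e, e.2.1⟩, e.2.2⟩, fun e => ⟨(e : D), e.1.2, e.2⟩,
      fun _ => rfl, fun _ => rfl⟩
  have hsup := Cfsg.Agent.Cores.card_sup_mul_card_inf E A
  have hle : Nat.card (E ⊔ A : Subgroup G) ≤ Nat.card C :=
    Subgroup.card_le_of_le (sup_le inf_le_right hAC)
  have hker : Nat.card (E ⊓ A : Subgroup G) ≤ Nat.card φ.ker := by
    refine Nat.card_le_card_of_injective (fun b => (⟨⟨b, b.2.2⟩, MonoidHom.mem_ker.mpr (Subtype.ext ?_)⟩ :
      φ.ker)) fun b c hbc => ?_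
    · show x * (b : G) * x⁻¹ * (b : G)⁻¹ = 1
      rw [Subgroup.mem_centralizer_iff.mp b.2.1.1 x rfl]; group
    · exact Subtype.ext (congrArg (fun v : φ.ker => ((v : A) : G)) hbc)
  have hAU : Nat.card A = Nat.card U * Nat.card φ.ker := by
    rw [hU, Subgroup.card_map_of_injective A.subtype_injective,
      φ.ker.card_eq_card_quotient_mul_card_subgroup,
      Nat.card_congr (QuotientGroup.quotientKerEquivRange φ).toEquiv]
  have h1 : Nat.card E * (Nat.card U * Nat.card φ.ker) ≤
      Nat.card E * (Nat.card (D ⧸ C.subgroupOf D) * Nat.card φ.ker) := by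
    rw [← hAU, ← hsup, ← mul_assoc, hE, ← hDC]
    exact Nat.mul_le_mul hle hker
  have h2 := Nat.le_of_mul_le_mul_right (Nat.le_of_mul_le_mul_left h1 Nat.card_pos)
    (Nat.card_pos (α := φ.ker))
  omega

end Cfsg.Agent.H76
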