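import Mathlib
import Cfsg.Agent.Cores.PCore
import Cfsg.Agent.Cores.Basic
import Cfsg.Agent.Thompson.BaerSuzuki
import Cfsg.Agent.H76.PElements
import Cfsg.Agent.H76.ClassSize

/-!
Groups whose subgroups have no two coprime non-central class sizes are 2-closed.
-/

set_option autoImplicit false

universe u

namespace Cfsg.Agent.H76

variable {G : Type u} [Group G] [Finite G]

/-- In the group generated by `w` of odd order and a 2-element `s` inverting it, `w` and `s` have
coprime non-trivial class sizes. -/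
theorem exists_coprime_classes_of_inverted (w s : G)
    (hgen : Subgroup.closure ({w, s} : Set G) = ⊤) (hw : Odd (orderOf w)) (hw1 : w ≠ 1)
    (hs : ∃ k, orderOf s = 2 ^ k) (hinv : s * w * s⁻¹ = w⁻¹) :
    1 < (Subgroup.centralizer ({w} : Set G)).index ∧ 1 < (Subgroup.centralizer ({s} : Set G)).index ∧
      ((Subgroup.centralizer ({w} : Set G)).index).Coprime
        (Subgroup.centralizer ({s} : Set G)).index := by
  obtain ⟨k, hk⟩ := hs
  have hww : w⁻¹ ≠ w := by
    intro e
    apply hw1
    have h1 : w ^ 2 = 1 := by rw [sq]; nth_rw 1 [← e]; group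
    have h2 : orderOf w ∣ 2 := orderOf_dvd_of_pow_eq_one h1
    exact orderOf_eq_one_iff.mp (Nat.eq_one_of_dvd_coprimes
      ((Nat.coprime_two_left.mpr hw).symm) dvd_rfl h2)
  -- the class of `w` is `{w, w⁻¹}`
  have hcl : ∀ g : G, g * w * g⁻¹ = w ∨ g * w * g⁻¹ = w⁻¹ := by
    intro g
    have hg : g ∈ Subgroup.closure ({w, s} : Set G) := hgen ▸ Subgroup.mem_top g
    induction hg using Subgroup.closure_induction with
    | mem v hv =>
      rcases hv with rfl | rfl
      · left; group
      · exact Or.inr hinv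
    | one => left; group
    | mul a b _ _ ha hb =>
      have e : a * b * w * (a * b)⁻¹ = a * (b * w * b⁻¹) * a⁻¹ := by group
      have e' : a * w⁻¹ * a⁻¹ = (a * w * a⁻¹)⁻¹ := by group
      rcases hb with hb | hb <;> rcases ha with ha | ha <;>
        simp only [e, hb, e', ha, inv_inv, or_true, true_or]
    | inv a _ ha =>
      rcases ha with ha | ha
      · left; conv_lhs => rw [← ha]
        group
      · right
        have h2 : a * w⁻¹ * a⁻¹ = w := by
          rw [show a * w⁻¹ * a⁻¹ = (a * w * a⁻¹)⁻¹ by group, ha, inv_inv]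
        conv_lhs => rw [← h2]
        group
  have hWn : (Subgroup.zpowers w).Normal := ⟨fun v hv g => by
    obtain ⟨i, rfl⟩ := Subgroup.mem_zpowers_iff.mp hv
    rw [← conj_zpow]
    rcases hcl g with h | h <;> rw [h]
    · exact zpow_mem (Subgroup.mem_zpowers w) i
    · exact zpow_mem (inv_mem (Subgroup.mem_zpowers w)) i⟩
  have hiw : (Subgroup.centralizer ({w} : Set G)).index = 2 := by
    rw [← ncard_conjugates]
    have hset : {y : G | ∃ x : G, x * w * x⁻¹ = y} = {w, w⁻¹} := by
      ext y
      constructor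
      · rintro ⟨x, rfl⟩; exact hcl x
      · rintro (rfl | rfl)
        · exact ⟨1, by group⟩
        · exact ⟨s, hinv⟩
    rw [hset, Set.ncard_pair hww.symm]
  have hcop : (orderOf w).Coprime (orderOf s) := by
    rw [hk]; exact (Nat.coprime_two_right.mpr hw).pow_right k
  have hsup : Subgroup.zpowers s ⊔ Subgroup.zpowers w = ⊤ := by
    rw [eq_top_iff, ← hgen, Subgroup.closure_le]
    rintro v (rfl | rfl)
    · exact Subgroup.mem_sup_right (Subgroup.mem_zpowers _)
    · exact Subgroup.mem_sup_left (Subgroup.mem_zpowers _)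
  have hcard := Cfsg.Agent.Cores.card_sup_mul_card_inf (Subgroup.zpowers s) (Subgroup.zpowers w)
  rw [hsup, Subgroup.card_top, (Subgroup.disjoint_of_coprime_natCard
    (by rw [Nat.card_zpowers, Nat.card_zpowers]; exact hcop.symm)).eq_bot, Subgroup.card_bot,
    mul_one, Nat.card_zpowers, Nat.card_zpowers] at hcard
  have hidx : (Subgroup.zpowers s).index = orderOf w := by
    apply Nat.eq_of_mul_eq_mul_left (Nat.card_pos (α := Subgroup.zpowers s))
    rw [Subgroup.card_mul_index, hcard, Nat.card_zpowers]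
  have hdvd : (Subgroup.centralizer ({s} : Set G)).index ∣ orderOf w :=
    hidx ▸ Subgroup.index_dvd_of_le (Subgroup.zpowers_le.mpr
      (Subgroup.mem_centralizer_iff.mpr (by rintro v rfl; rfl)))
  have hs1 : 1 < (Subgroup.centralizer ({s} : Set G)).index := by
    rcases Nat.lt_or_ge 1 (Subgroup.centralizer ({s} : Set G)).index with h | h
    · exact h
    · exfalso
      have h1 : (Subgroup.centralizer ({s} : Set G)).index = 1 :=
        le_antisymm h (Nat.one_le_iff_ne_zero.mpr Subgroup.index_ne_zero_of_finite)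
      rw [Subgroup.index_eq_one] at h1
      have hwC : w ∈ Subgroup.centralizer ({s} : Set G) := h1.symm ▸ Subgroup.mem_top w
      have h2 := Subgroup.mem_centralizer_iff.mp hwC s rfl
      rw [h2, mul_inv_cancel_right] at hinv
      exact hww hinv.symm
  refine ⟨by rw [hiw]; omega, hs1, ?_⟩
  rw [hiw]
  exact Nat.Coprime.coprime_dvd_right hdvd (Nat.coprime_two_left.mpr hw)

/-- No subgroup has two coprime non-central class sizes. -/
def NonCoprimeClasses (G : Type u) [Group G] : Prop :=
  ∀ (H : Subgroup G) (x y : H), 1 < (Subgroup.centralizer ({x} : Set H)).index →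
    1 < (Subgroup.centralizer ({y} : Set H)).index →
    ¬ ((Subgroup.centralizer ({x} : Set H)).index).Coprime
      (Subgroup.centralizer ({y} : Set H)).index

/-- Then 2-elements centralise the subgroups of odd order they normalise. -/
theorem commute_of_two_element (hP : NonCoprimeClasses G) {R : Subgroup G}
    (hR : Odd (Nat.card R)) : ∀ k : ℕ, ∀ t : G, orderOf t = 2 ^ k →
      t ∈ Subgroup.normalizer (R : Set G) → ∀ r ∈ R, Commute t r := by
  intro k
  induction k with
  | zero => intro t ht _ r _; rw [orderOf_eq_one_iff.mp (show orderOf t = 1 by simpa using ht)]; exact Commute.one_left r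
  | succ k ih =>
    intro t ht htN r hr
    have h2 : ∀ v ∈ R, Commute (t ^ 2) v := ih (t ^ 2)
      (by rw [orderOf_pow' t two_ne_zero, ht, Nat.gcd_eq_right (dvd_pow_self 2 (Nat.succ_ne_zero k)),
        pow_succ, Nat.mul_div_cancel _ two_pos]) (pow_mem htN 2)
    set w := r⁻¹ * (t * r * t⁻¹) with hw
    have hwR : w ∈ R := mul_mem (inv_mem hr) ((Subgroup.mem_normalizer_iff.mp htN r).mp hr)
    by_contra hne
    have hw1 : w ≠ 1 := fun e => hne (by
      rw [hw, inv_mul_eq_one] at e
      exact (mul_inv_eq_iff_eq_mul.mp e.symm))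
    have hodd : Odd (orderOf w) := hR.of_dvd_nat (R.orderOf_dvd_natCard hwR)
    have hinv : t * w * t⁻¹ = w⁻¹ := by
      have e : t ^ 2 * r * (t ^ 2)⁻¹ = r := by rw [(h2 r hr).eq]; group
      calc t * w * t⁻¹ = (t * r * t⁻¹)⁻¹ * (t ^ 2 * r * (t ^ 2)⁻¹) := by rw [hw, sq]; group
        _ = (t * r * t⁻¹)⁻¹ * r := by rw [e]
        _ = w⁻¹ := by rw [hw]; group
    set H := Subgroup.closure ({w, t} : Set G) with hH
    have hwH : w ∈ H := Subgroup.subset_closure (Set.mem_insert _ _)
    have htH : t ∈ H := Subgroup.subset_closure (Set.mem_insert_of_mem _ rfl)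
    have hgen' : Subgroup.closure ({⟨w, hwH⟩, ⟨t, htH⟩} : Set H) = ⊤ := by
      apply Subgroup.map_injective H.subtype_injective
      rw [MonoidHom.map_closure, ← MonoidHom.range_eq_map, Subgroup.range_subtype]
      rw [Set.image_insert_eq, Set.image_singleton]
      exact hH.symm
    obtain ⟨a, b, c⟩ := exists_coprime_classes_of_inverted (⟨w, hwH⟩ : H) ⟨t, htH⟩ hgen'
      (by rwa [Subgroup.orderOf_mk]) (fun e => hw1 (congrArg Subtype.val e))
      ⟨k + 1, by rw [Subgroup.orderOf_mk, ht]⟩ (Subtype.ext hinv)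
    exact hP H _ _ a b c

/-- The quotient by the 2-core has odd order. -/
theorem odd_card_quotient_pCore (hP : NonCoprimeClasses G) :
    Odd (Nat.card (G ⧸ Cfsg.pCore 2 G)) := by
  rw [← Nat.not_even_iff_odd, even_iff_two_dvd]
  intro hd
  set Q := G ⧸ Cfsg.pCore 2 G
  obtain ⟨x, hx⟩ := exists_prime_orderOf_dvd_card' (G := Q) 2 hd
  have hx2 : x * x = 1 := by
    have h := pow_orderOf_eq_one x
    rwa [hx, sq] at h
  have hbs : ∀ g : Q, IsPGroup 2 (Subgroup.closure ({x, g * x * g⁻¹} : Set Q)) := by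
    intro g
    set x' := g * x * g⁻¹
    have hxi : x⁻¹ = x := inv_eq_of_mul_eq_one_right hx2
    have hx'2 : x' * x' = 1 := by
      calc x' * x' = g * (x * x) * g⁻¹ := by simp only [x']; group
        _ = 1 := by rw [hx2]; group
    set y := x * x' with hy
    have hinv : x * y * x⁻¹ = y⁻¹ := by
      rw [hy, mul_inv_rev, inv_eq_of_mul_eq_one_right hx'2, hxi, ← mul_assoc, hx2, one_mul]
    have hyn : Subgroup.zpowers x ≤ Subgroup.normalizer (Subgroup.zpowers y : Set Q) := by
      rw [Subgroup.zpowers_le, Subgroup.mem_normalizer_iff]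
      intro v
      constructor
      · intro hv
        obtain ⟨i, rfl⟩ := Subgroup.mem_zpowers_iff.mp hv
        rw [← conj_zpow, hinv]
        exact zpow_mem (inv_mem (Subgroup.mem_zpowers y)) i
      · intro hv
        obtain ⟨i, hi⟩ := Subgroup.mem_zpowers_iff.mp hv
        have : v = x * y ^ i * x⁻¹ := by
          rw [hi, hxi]
          calc v = (x * x) * v * (x * x) := by rw [hx2]; group
            _ = _ := by group
        rw [this, ← conj_zpow, hinv]
        exact zpow_mem (inv_mem (Subgroup.mem_zpowers y)) i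
    have hle : Subgroup.closure ({x, x'} : Set Q) ≤ Subgroup.zpowers x ⊔ Subgroup.zpowers y := by
      rw [Subgroup.closure_le]
      rintro v (rfl | rfl)
      · exact Subgroup.mem_sup_left (Subgroup.mem_zpowers _)
      · have h1 : x' = x * y := by rw [hy, ← mul_assoc, hx2, one_mul]
        show x' ∈ Subgroup.zpowers x ⊔ Subgroup.zpowers y
        rw [h1]
        exact Subgroup.mul_mem_sup (Subgroup.mem_zpowers x) (Subgroup.mem_zpowers y)
    refine IsPGroup.to_le ?_ hle
    refine IsPGroup.to_sup_of_normal_right' (pElement_zpowers ⟨1, by rw [hx, pow_one]⟩) ?_ hyn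
    -- `y` is a 2-element
    refine pElement_zpowers ⟨(orderOf y).primeFactorsList.length,
      Nat.eq_prime_pow_of_unique_prime_dvd (orderOf_pos y).ne' fun {r} hr hrd => ?_⟩
    by_contra hr2
    have := Fact.mk hr
    set v := y ^ (orderOf y / r) with hv
    have hvr : orderOf v = r := orderOf_pow_orderOf_div (orderOf_pos y).ne' hrd
    have hxv : x * v * x⁻¹ = v⁻¹ := by rw [hv, ← conj_pow, hinv, inv_pow]
    -- lift the dihedral subgroup
    set K : Subgroup Q := Subgroup.zpowers x ⊔ Subgroup.zpowers v with hK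
    set H := K.comap (QuotientGroup.mk' (Cfsg.pCore 2 G)) with hH
    set M := (Subgroup.zpowers v).comap (QuotientGroup.mk' (Cfsg.pCore 2 G)) with hM
    have hMH : M ≤ H := Subgroup.comap_mono le_sup_right
    have hxN : x ∈ Subgroup.normalizer (Subgroup.zpowers v : Set Q) := by
      have key : ∀ u ∈ Subgroup.zpowers v, x * u * x⁻¹ ∈ Subgroup.zpowers v := by
        intro u hu
        obtain ⟨i, rfl⟩ := Subgroup.mem_zpowers_iff.mp hu
        rw [← conj_zpow, hxv]
        exact zpow_mem (inv_mem (Subgroup.mem_zpowers v)) i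
      rw [Subgroup.mem_normalizer_iff]
      refine fun u => ⟨key u, fun hu => ?_⟩
      have := key _ hu
      rw [hxi] at this
      rwa [show x * (x * u * x) * x = (x * x) * u * (x * x) by group, hx2, one_mul, mul_one] at this
    have hMn : (M.subgroupOf H).Normal := by
      refine ⟨fun u hu h => ?_⟩
      rw [Subgroup.mem_subgroupOf, hM, Subgroup.mem_comap] at hu ⊢
      have hKN : K ≤ Subgroup.normalizer (Subgroup.zpowers v : Set Q) :=
        sup_le (Subgroup.zpowers_le.mpr hxN) Subgroup.le_normalizer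
      simp only [Subgroup.coe_mul, Subgroup.coe_inv, map_mul, map_inv]
      exact (Subgroup.mem_normalizer_iff.mp (hKN h.2) _).mp hu
    obtain ⟨S⟩ : Nonempty (Sylow r (M.subgroupOf H)) := inferInstance
    have hfr := Sylow.normalizer_sup_eq_top S
    set S' : Subgroup H := (S : Subgroup (M.subgroupOf H)).map (M.subgroupOf H).subtype with hS'
    obtain ⟨t₀, ht₀⟩ := QuotientGroup.mk'_surjective (Cfsg.pCore 2 G) x
    have ht₀H : t₀ ∈ H := by
      rw [hH, Subgroup.mem_comap, ht₀]; exact Subgroup.mem_sup_left (Subgroup.mem_zpowers x)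
    have h1 : (⟨t₀, ht₀H⟩ : H) ∈ Subgroup.normalizer (S' : Set H) ⊔ M.subgroupOf H :=
      hfr ▸ Subgroup.mem_top _
    obtain ⟨n, hn, m, hm, hnm⟩ := Subgroup.mem_sup_of_normal_right.mp h1
    obtain ⟨i, hi⟩ := Subgroup.mem_zpowers_iff.mp (Subgroup.mem_comap.mp (Subgroup.mem_subgroupOf.mp hm))
    set nb : Q := QuotientGroup.mk' (Cfsg.pCore 2 G) (n : G) with hnb
    have hnbx : nb = x * v ^ (-i) := by
      have : QuotientGroup.mk' (Cfsg.pCore 2 G) ((n : G) * (m : G)) = x := by
        rw [← Subgroup.coe_mul, hnm]; exact ht₀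
      rw [map_mul, ← hi] at this
      rw [hnb, ← this, zpow_neg, mul_inv_cancel_right]
    have hnb2 : nb * nb = 1 := by
      rw [hnbx]
      calc x * v ^ (-i) * (x * v ^ (-i)) = (x * v ^ (-i) * x⁻¹) * (x * x) * v ^ (-i) := by group
        _ = 1 := by rw [hx2, ← conj_zpow, hxv]; group
    have hnbv : nb * v * nb⁻¹ = v⁻¹ := by
      rw [hnbx]
      calc x * v ^ (-i) * v * (x * v ^ (-i))⁻¹ = x * v * x⁻¹ := by group
        _ = v⁻¹ := hxv
    set e := ordCompl[2] (orderOf (n : G)) with he
    have hne : orderOf ((n : G) ^ e) = 2 ^ (orderOf (n : G)).factorization 2 := by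
      rw [orderOf_pow' _ (Nat.ordCompl_pos 2 (orderOf_pos _).ne').ne',
        Nat.gcd_eq_right (Nat.ordCompl_dvd _ _)]
      exact Nat.div_eq_of_eq_mul_left (Nat.ordCompl_pos 2 (orderOf_pos _).ne')
        (Nat.ordProj_mul_ordCompl_eq_self _ 2).symm
    have hnbe : nb ^ e = nb := by
      obtain ⟨j, hj⟩ : Odd e := by
        rw [← Nat.not_even_iff_odd, even_iff_two_dvd]
        exact Nat.not_dvd_ordCompl Nat.prime_two (orderOf_pos _).ne'
      rw [hj, pow_succ, pow_mul, sq, hnb2, one_pow, one_mul]
    set R := S'.map H.subtype with hR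
    have hRodd : Odd (Nat.card R) := by
      rw [hR, Subgroup.card_map_of_injective H.subtype_injective, hS',
        Subgroup.card_map_of_injective (Subgroup.subtype_injective _), S.card_eq_multiplicity]
      exact Odd.pow (hr.odd_of_ne_two hr2)
    have hnR : (n : G) ^ e ∈ Subgroup.normalizer (R : Set G) := by
      refine pow_mem ?_ e
      exact Subgroup.le_normalizer_map H.subtype ⟨n, hn, rfl⟩
    -- some element of `R` maps to a generator of `⟨v⟩`
    obtain ⟨u, hu, huv⟩ : ∃ u ∈ R, QuotientGroup.mk' (Cfsg.pCore 2 G) u ≠ 1 := by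
      by_contra hall
      push Not at hall
      have h2 : Nat.card R ∣ Nat.card (Cfsg.pCore 2 G) :=
        Subgroup.card_dvd_of_le fun u hu => (QuotientGroup.eq_one_iff u).mp (hall u hu)
      obtain ⟨l, hl⟩ := IsPGroup.iff_card.mp (Cfsg.Agent.Cores.pCore_isPGroup (p := 2) (G := G))
      have h3 : Nat.card R = 1 := Nat.eq_one_of_dvd_coprimes
        ((Nat.coprime_two_right.mpr hRodd).pow_right l) dvd_rfl (hl ▸ h2)
      rw [hR, Subgroup.card_map_of_injective H.subtype_injective, hS',
        Subgroup.card_map_of_injective (Subgroup.subtype_injective _), S.card_eq_multiplicity,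
        Nat.card_congr (Subgroup.subgroupOfEquivOfLe hMH).toEquiv] at h3
      have h4 : r ∣ Nat.card M := by
        obtain ⟨w, hw⟩ := QuotientGroup.mk'_surjective (Cfsg.pCore 2 G) v
        have hwM : w ∈ M := by rw [hM, Subgroup.mem_comap, hw]; exact Subgroup.mem_zpowers v
        exact (hvr ▸ hw ▸ orderOf_map_dvd _ w).trans (M.orderOf_dvd_natCard hwM)
      exact (Nat.one_lt_pow (hr.factorization_pos_of_dvd Nat.card_pos.ne' h4).ne' hr.one_lt).ne' h3
    have hcomm := (commute_of_two_element hP hRodd _ _ hne hnR u hu).map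
      (QuotientGroup.mk' (Cfsg.pCore 2 G))
    rw [map_pow, ← hnb, hnbe] at hcomm
    have huV : QuotientGroup.mk' (Cfsg.pCore 2 G) u ∈ Subgroup.zpowers v := by
      obtain ⟨_, ⟨z, -, rfl⟩, rfl⟩ := hu
      exact z.2
    obtain ⟨l, hl⟩ := Subgroup.mem_zpowers_iff.mp huV
    rw [← hl] at hcomm huv
    have h5 : v ^ l = v ^ (-l) := by
      have h6 : nb * v ^ l * nb⁻¹ = v ^ (-l) := by rw [← conj_zpow, hnbv, inv_zpow, zpow_neg]
      rwa [hcomm.eq, mul_inv_cancel_right] at h6
    have h7 : (v ^ l) ^ 2 = 1 := by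
      rw [sq]; nth_rw 2 [h5]; group
    have h8 : orderOf (v ^ l) ∣ r := orderOf_dvd_of_pow_eq_one (by
      rw [← zpow_natCast, ← zpow_mul, mul_comm, zpow_mul, zpow_natCast, ← hvr, pow_orderOf_eq_one,
        one_zpow])
    exact huv (orderOf_eq_one_iff.mp (Nat.eq_one_of_dvd_coprimes
      (Nat.coprime_two_right.mpr (hr.odd_of_ne_two hr2)) h8 (orderOf_dvd_of_pow_eq_one h7)))
  obtain ⟨N, hN, hNp, hxN⟩ := Cfsg.Agent.Thompson.baer_suzuki hbs
  have h2 : N ≤ Cfsg.pCore 2 Q := Cfsg.Agent.Cores.le_pCore hNp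
  rw [Cfsg.Agent.Cores.pCore_quotient_pCore] at h2
  rw [Subgroup.mem_bot.mp (h2 hxN), orderOf_one] at hx
  omega

/-- With the odd order theorem such groups are soluble. -/
theorem isSolvable_of_nonCoprimeClasses
    (hodd : ∀ (K : Type u) [Group K] [Finite K], Odd (Nat.card K) → Group.IsSolvable K)
    (hP : NonCoprimeClasses G) : Group.IsSolvable G := by
  have h1 : Group.IsSolvable (Cfsg.pCore 2 G) := by
    have : Group.IsNilpotent (Cfsg.pCore 2 G) :=
      (Cfsg.Agent.Cores.pCore_isPGroup (p := 2) (G := G)).isNilpotent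
    infer_instance
  have h2 : Group.IsSolvable (G ⧸ Cfsg.pCore 2 G) := hodd _ (odd_card_quotient_pCore hP)
  exact Group.isSolvable_of_ker_le_range (Cfsg.pCore 2 G).subtype (QuotientGroup.mk' (Cfsg.pCore 2 G))
    (by rw [QuotientGroup.ker_mk', Subgroup.range_subtype])

end Cfsg.Agent.H76
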