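import Cfsg.Agent.H76.ExtraspecialCoord

/-!
The action of the normaliser of an extraspecial Sylow subgroup of order p^3 on its Frattini quotient.
-/

set_option autoImplicit false
set_option maxRecDepth 4000

namespace Cfsg.Agent.H76.NF

open scoped commutatorElement

theorem exists_frame {G : Type*} [Group G] [Finite G] {p : ℕ} [Fact p.Prime] (P : Sylow p G)
    (hE : Cfsg.IsExtraspecial p ↥P) (hcard : Nat.card P = p ^ 3) (hexp : Monoid.exponent ↥P = p) :
    ∃ (zQ : ↥P) (κ : ↥P →* Multiplicative (Fin 2 → ZMod p))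
      (φ : ↥(Subgroup.normalizer ((P : Subgroup G) : Set G)) →* GL (Fin 2) (ZMod p)),
      zQ ∈ Subgroup.center ↥P ∧ zQ ≠ 1 ∧ Function.Surjective κ ∧ κ.ker = Subgroup.center ↥P ∧
      (∀ g h : ↥P, ⁅g, h⁆ = zQ ^ (Multiplicative.toAdd (κ g) 0 * Multiplicative.toAdd (κ h) 1 -
        Multiplicative.toAdd (κ g) 1 * Multiplicative.toAdd (κ h) 0).val) ∧
      (∀ x : φ.range, (orderOf x : ZMod p) ≠ 0) ∧
      ∀ (n : ↥(Subgroup.normalizer ((P : Subgroup G) : Set G))) (b : ↥P) (c μ : ZMod p) (m : ℕ),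
        (n : G) * (zQ : G) * (n : G)⁻¹ = (zQ : G) ^ c.val →
        (n : G) * (b : G) * (n : G)⁻¹ = (b : G) ^ μ.val * (zQ : G) ^ m →
        ((φ n : GL (Fin 2) (ZMod p)) : Matrix (Fin 2) (Fin 2) (ZMod p)).det = c ∧
        ((φ n : GL (Fin 2) (ZMod p)) : Matrix (Fin 2) (Fin 2) (ZMod p)).mulVec (Multiplicative.toAdd (κ b)) =
          μ • Multiplicative.toAdd (κ b) := by
  classical
  obtain ⟨zQ, κ, hzc, hz1, hκs, hκk, hκc⟩ := H76.EC.exists_coord hE hcard
  set z : G := (zQ : G) with hzdef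
  have hexp' : ∀ x : ↥P, x ^ p = 1 := fun x => by
    have := Monoid.pow_exponent_eq_one x
    rwa [hexp] at this
  have hzp : orderOf zQ = p := orderOf_eq_prime (hexp' zQ) hz1
  have hκpow : ∀ (x : ↥P) (n : ℕ), Multiplicative.toAdd (κ (x ^ n)) = n • Multiplicative.toAdd (κ x) :=
    fun x n => by rw [map_pow, toAdd_pow]
  -- the action of the normaliser
  set N := Subgroup.normalizer ((P : Subgroup G) : Set G) with hN
  let θ : N → ↥P →* Multiplicative (Fin 2 → ZMod p) := fun n => κ.comp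
    (MonoidHom.mk' (fun x : ↥P => (⟨(n : G) * x * (n : G)⁻¹,
      (Subgroup.mem_set_normalizer_iff.mp n.2 x).mp x.2⟩ : ↥P))
      fun x y => Subtype.ext (by simp [mul_assoc]))
  have hθker : ∀ n, κ.ker ≤ (θ n).ker := by
    intro n x hx
    rw [hκk] at hx
    rw [MonoidHom.mem_ker, MonoidHom.comp_apply, ← MonoidHom.mem_ker, hκk, Subgroup.mem_center_iff]
    intro y
    have hy : (n : G)⁻¹ * y * n ∈ (P : Subgroup G) := by
      have := (Subgroup.mem_set_normalizer_iff.mp (inv_mem n.2) y).mp y.2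
      rwa [inv_inv] at this
    have hc := congrArg Subtype.val (Subgroup.mem_center_iff.mp hx ⟨_, hy⟩)
    refine Subtype.ext ?_
    change (n : G)⁻¹ * y * n * x = x * ((n : G)⁻¹ * y * n) at hc
    show (y : G) * ((n : G) * x * (n : G)⁻¹) = n * x * (n : G)⁻¹ * y
    calc (y : G) * ((n : G) * x * (n : G)⁻¹) = n * ((n : G)⁻¹ * y * n * x) * (n : G)⁻¹ := by group
      _ = n * (x * ((n : G)⁻¹ * y * n)) * (n : G)⁻¹ := by rw [hc]
      _ = n * x * (n : G)⁻¹ * y := by group
  let f : N → (Fin 2 → ZMod p) →ₗ[ZMod p] (Fin 2 → ZMod p) := fun n =>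
    (AddMonoidHom.mk' (fun w => Multiplicative.toAdd
      (κ.liftOfSurjective hκs ⟨θ n, hθker n⟩ (Multiplicative.ofAdd w)))
      fun a b => by rw [ofAdd_add, map_mul, toAdd_mul]).toZModLinearMap p
  have hf : ∀ n x, f n (Multiplicative.toAdd (κ x)) = Multiplicative.toAdd (θ n x) := by
    intro n x
    exact congrArg Multiplicative.toAdd (κ.liftOfRightInverse_comp_apply _ _ ⟨θ n, hθker n⟩ x)
  have hfext : ∀ {g h : (Fin 2 → ZMod p) →ₗ[ZMod p] (Fin 2 → ZMod p)},
      (∀ x : ↥P, g (Multiplicative.toAdd (κ x)) = h (Multiplicative.toAdd (κ x))) → g = h := by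
    intro g h hgh
    refine LinearMap.ext fun w => ?_
    obtain ⟨x, hx⟩ := hκs (Multiplicative.ofAdd w)
    have := hgh x
    rwa [hx, toAdd_ofAdd] at this
  let φ₀ : N →* Matrix (Fin 2) (Fin 2) (ZMod p) :=
    { toFun := fun n => LinearMap.toMatrix' (f n)
      map_one' := by
        rw [show f 1 = LinearMap.id from hfext fun x => by
          rw [hf, LinearMap.id_apply]
          refine congrArg Multiplicative.toAdd (congrArg κ (Subtype.ext ?_))
          simp, LinearMap.toMatrix'_id]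
      map_mul' := fun m n => by
        rw [← LinearMap.toMatrix'_comp]
        congr 1
        refine hfext fun x => ?_
        rw [hf, LinearMap.comp_apply, hf, show θ n x = κ _ from rfl, hf]
        refine congrArg Multiplicative.toAdd (congrArg κ (Subtype.ext ?_))
        simp [mul_assoc] }
  let φ : N →* GL (Fin 2) (ZMod p) := φ₀.toHomUnits
  have hφ : ∀ (n : N) (x : ↥P), ((φ n : GL (Fin 2) (ZMod p)) : Matrix (Fin 2) (Fin 2) (ZMod p)).mulVec
      (Multiplicative.toAdd (κ x)) = Multiplicative.toAdd (θ n x) := by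
    intro n x
    rw [show ((φ n : GL (Fin 2) (ZMod p)) : Matrix (Fin 2) (Fin 2) (ZMod p)) = LinearMap.toMatrix' (f n) from rfl,
      LinearMap.toMatrix'_mulVec, hf]
  have hdet : ∀ (n : N) (c : ZMod p), (n : G) * z * (n : G)⁻¹ = z ^ c.val →
      ((φ n : GL (Fin 2) (ZMod p)) : Matrix (Fin 2) (Fin 2) (ZMod p)).det = c := by
    intro n c hc
    obtain ⟨x, hx⟩ := hκs (Multiplicative.ofAdd ![1, 0])
    obtain ⟨y, hy⟩ := hκs (Multiplicative.ofAdd ![0, 1])
    have hxy : ⁅x, y⁆ = zQ := by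
      rw [hκc, hx, hy]
      simp [ZMod.val_one]
    let cn : ↥P → ↥P := fun w => ⟨(n : G) * w * (n : G)⁻¹, (Subgroup.mem_set_normalizer_iff.mp n.2 w).mp w.2⟩
    have h1 : ⁅cn x, cn y⁆ = zQ ^ c.val := by
      refine Subtype.ext ?_
      have hzxy : (x : G) * y * (x : G)⁻¹ * (y : G)⁻¹ = z := congrArg Subtype.val hxy
      show (n : G) * x * (n : G)⁻¹ * ((n : G) * y * (n : G)⁻¹) * ((n : G) * x * (n : G)⁻¹)⁻¹ *
        ((n : G) * y * (n : G)⁻¹)⁻¹ = z ^ c.val
      rw [← hc, ← hzxy]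
      group
    have hxv : Multiplicative.toAdd (κ (cn x)) = ((φ n : GL (Fin 2) (ZMod p)) : Matrix (Fin 2) (Fin 2) (ZMod p)).mulVec ![1, 0] := by
      rw [show Multiplicative.toAdd (κ (cn x)) = Multiplicative.toAdd (θ n x) from rfl, ← hφ, hx, toAdd_ofAdd]
    have hyv : Multiplicative.toAdd (κ (cn y)) = ((φ n : GL (Fin 2) (ZMod p)) : Matrix (Fin 2) (Fin 2) (ZMod p)).mulVec ![0, 1] := by
      rw [show Multiplicative.toAdd (κ (cn y)) = Multiplicative.toAdd (θ n y) from rfl, ← hφ, hy, toAdd_ofAdd]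
    rw [hκc, hxv, hyv, pow_eq_pow_iff_modEq, hzp, ← ZMod.natCast_eq_natCast_iff, ZMod.natCast_zmod_val,
      ZMod.natCast_zmod_val] at h1
    rw [Matrix.det_fin_two, ← h1]
    simp [Matrix.mulVec, dotProduct, Fin.sum_univ_two]
    ring
  have hPker : (P : Subgroup G).subgroupOf N ≤ φ.ker := by
    intro u hu
    refine Units.ext ?_
    show φ₀ u = 1
    rw [show φ₀ u = LinearMap.toMatrix' (f u) from rfl, show f u = LinearMap.id from hfext fun x => by
      rw [hf, LinearMap.id_apply]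
      refine congrArg Multiplicative.toAdd ?_
      show κ _ = κ x
      have : (MonoidHom.mk' (fun x : ↥P => (⟨(u : G) * x * (u : G)⁻¹,
          (Subgroup.mem_set_normalizer_iff.mp u.2 x).mp x.2⟩ : ↥P))
          (fun x y => Subtype.ext (by simp [mul_assoc]))) x = (⟨(u : G), hu⟩ : ↥P) * x * ⟨(u : G), hu⟩⁻¹ :=
        Subtype.ext (by simp)
      rw [this, map_mul, map_mul, map_inv, mul_comm (κ _) (κ x), mul_inv_cancel_right],
      LinearMap.toMatrix'_id]
  have hcop : ∀ x : φ.range, (orderOf x : ZMod p) ≠ 0 := by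
    intro x h
    rw [ZMod.natCast_eq_zero_iff] at h
    have h1 : p ∣ φ.ker.index := by
      rw [Subgroup.index_ker]
      exact h.trans (orderOf_dvd_natCard x)
    have h2 : φ.ker.index ∣ (P : Subgroup G).index :=
      (Subgroup.index_dvd_of_le hPker).trans (Subgroup.relIndex_dvd_index_of_le Subgroup.le_normalizer)
    exact P.not_dvd_index (h1.trans h2)
  refine ⟨zQ, κ, φ, hzc, hz1, hκs, hκk, hκc, hcop, fun n b c μ m hc hb => ⟨hdet n c hc, ?_⟩⟩
  rw [hφ]
  have : θ n b = κ (b ^ μ.val * zQ ^ m) := congrArg κ (Subtype.ext hb)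
  rw [this, map_mul, show κ (zQ ^ m) = 1 by rw [← MonoidHom.mem_ker, hκk]; exact pow_mem hzc m, mul_one, hκpow]
  funext k
  rw [Pi.smul_apply, Pi.smul_apply, nsmul_eq_mul, ZMod.natCast_zmod_val, smul_eq_mul]

end Cfsg.Agent.H76.NF
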