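import Mathlib
import Cfsg.Agent.Cores.PSolvable

/-!
Spanning orbits of coprime sizes and fixed vectors.
-/

set_option autoImplicit false

namespace Cfsg.Agent.H76

variable {k V H : Type*} [Field k] [AddCommGroup V] [Module k V] [Group H]

/-- The stabiliser of a vector. -/
def vecStab (ρ : Representation k H V) (v : V) : Subgroup H where
  carrier := {h | ρ h v = v}
  mul_mem' := by
    intro a b ha hb
    simp only [Set.mem_ofPred_eq] at *
    rw [map_mul, Module.End.mul_apply, hb, ha]
  one_mem' := by simp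
  inv_mem' := by
    intro a ha
    simp only [Set.mem_ofPred_eq] at *
    conv_lhs => rw [← ha]
    rw [← Module.End.mul_apply, ← map_mul, inv_mul_cancel, map_one, Module.End.one_apply]

theorem mem_vecStab {ρ : Representation k H V} {v : V} {h : H} : h ∈ vecStab ρ v ↔ ρ h v = v :=
  Iff.rfl

theorem card_orbit (ρ : Representation k H V) (v : V) :
    Nat.card {u : V | ∃ h : H, ρ h v = u} = (vecStab ρ v).index := by
  have key : ∀ a b : H, a⁻¹ * b ∈ vecStab ρ v ↔ ρ a v = ρ b v := by
    intro a b
    rw [mem_vecStab, map_mul, Module.End.mul_apply]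
    constructor
    · intro h
      conv_lhs => rw [← h]
      rw [← Module.End.mul_apply, ← map_mul, mul_inv_cancel, map_one, Module.End.one_apply]
    · intro h
      rw [← h, ← Module.End.mul_apply, ← map_mul, inv_mul_cancel, map_one, Module.End.one_apply]
  let f : H ⧸ vecStab ρ v → {u : V | ∃ h : H, ρ h v = u} :=
    Quotient.lift (fun h => ⟨ρ h v, h, rfl⟩)
      (fun a b hab => Subtype.ext ((key a b).mp (QuotientGroup.leftRel_apply.mp hab)))
  refine (Nat.card_congr (Equiv.ofBijective f ⟨?_, ?_⟩)).symm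
  · intro x y hxy
    induction x using QuotientGroup.induction_on with
    | _ a =>
      induction y using QuotientGroup.induction_on with
      | _ b => exact QuotientGroup.eq.mpr ((key a b).mpr (congrArg Subtype.val hxy))
  · rintro ⟨u, h, rfl⟩
    exact ⟨QuotientGroup.mk h, rfl⟩

/-- Subgroups of coprime index factorise the group. -/
theorem exists_mul_of_coprime_index {G : Type*} [Group G] [Finite G] {K L : Subgroup G}
    (hc : K.index.Coprime L.index) (g : G) : ∃ x ∈ K, ∃ y ∈ L, g = x * y := by
  have h1 : L.relIndex K * K.index = (L ⊓ K).index := by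
    rw [← Subgroup.inf_relIndex_right]
    exact Subgroup.relIndex_mul_index inf_le_right
  have h2 : L.index ∣ L.relIndex K := by
    refine hc.symm.dvd_of_dvd_mul_right ?_
    rw [h1]
    exact Subgroup.index_dvd_of_le inf_le_left
  have hst : MulAction.stabilizer K (QuotientGroup.mk 1 : G ⧸ L) = L.subgroupOf K := by
    ext x
    rw [MulAction.mem_stabilizer_iff, Subgroup.mem_subgroupOf]
    show (QuotientGroup.mk ((x : G) * 1) : G ⧸ L) = QuotientGroup.mk 1 ↔ _
    rw [QuotientGroup.eq]
    simp
  have horb : MulAction.orbit K (QuotientGroup.mk 1 : G ⧸ L) = Set.univ := by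
    refine Set.eq_of_subset_of_ncard_le (Set.subset_univ _) ?_
    rw [Set.ncard_univ, ← MulAction.index_stabilizer, hst]
    refine Nat.le_of_dvd (Nat.pos_of_ne_zero ?_) h2
    exact Subgroup.index_ne_zero_of_finite
  obtain ⟨x, hx⟩ := (horb ▸ Set.mem_univ (QuotientGroup.mk g : G ⧸ L) :
    (QuotientGroup.mk g : G ⧸ L) ∈ MulAction.orbit K (QuotientGroup.mk 1 : G ⧸ L))
  have hx' : (QuotientGroup.mk ((x : G) * 1) : G ⧸ L) = QuotientGroup.mk g := hx
  rw [QuotientGroup.eq, mul_one] at hx'
  exact ⟨x, x.2, _, hx', by group⟩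

variable [Finite H]

/-- The sum of the elements of a subgroup. -/
noncomputable def sumOn (ρ : Representation k H V) (K : Subgroup H) : V →ₗ[k] V :=
  have := Fintype.ofFinite K
  ∑ x : K, ρ x

theorem sumOn_apply (ρ : Representation k H V) (K : Subgroup H) [Fintype K] (v : V) :
    sumOn ρ K v = ∑ x : K, ρ x v := by
  simp only [sumOn, LinearMap.coe_sum, Finset.sum_apply]
  congr!

theorem sumOn_smul_left (ρ : Representation k H V) {K : Subgroup H} {x : H} (hx : x ∈ K) (v : V) :
    sumOn ρ K (ρ x v) = sumOn ρ K v := by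
  have := Fintype.ofFinite K
  rw [sumOn_apply, sumOn_apply]
  refine Fintype.sum_equiv (Equiv.mulRight (⟨x, hx⟩ : K)) _ _ fun y => ?_
  simp [map_mul]

theorem apply_sumOn (ρ : Representation k H V) {K : Subgroup H} {x : H} (hx : x ∈ K) (v : V) :
    ρ x (sumOn ρ K v) = sumOn ρ K v := by
  have := Fintype.ofFinite K
  rw [sumOn_apply, map_sum]
  refine Fintype.sum_equiv (Equiv.mulLeft (⟨x, hx⟩ : K)) _ _ fun y => ?_
  simp [map_mul]

theorem sumOn_of_fixed (ρ : Representation k H V) {K : Subgroup H} {v : V}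
    (h : ∀ x ∈ K, ρ x v = v) : sumOn ρ K v = (Nat.card K : k) • v := by
  have := Fintype.ofFinite K
  rw [sumOn_apply, Fintype.sum_congr (fun y : K => ρ (y : H) v) (fun _ => v) (fun y => h (y : H) y.2), Finset.sum_const,
    Finset.card_univ, Nat.card_eq_fintype_card, Nat.cast_smul_eq_nsmul]

theorem sumOn_comm (ρ : Representation k H V) (N : Subgroup H) [N.Normal] (h : H) (v : V) :
    sumOn ρ N (ρ h v) = ρ h (sumOn ρ N v) := by
  have := Fintype.ofFinite N
  rw [sumOn_apply, sumOn_apply, map_sum]
  refine Fintype.sum_equiv (MulAut.conjNormal (h⁻¹ : H)).toEquiv _ _ fun y => ?_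
  simp only [← Module.End.mul_apply, ← map_mul, MulEquiv.toEquiv_eq_coe, MulEquiv.coe_toEquiv,
    MulAut.conjNormal_apply]
  congr 2
  group

/-- A vector whose orbit has size coprime to that of a spanning vector is fixed by every normal
subgroup of invertible order. -/
theorem fixed_of_coprime_orbits (ρ : Representation k H V) (a b : V) (N : Subgroup H) [N.Normal]
    (hN : (Nat.card N : k) ≠ 0)
    (hspan : Submodule.span k {u : V | ∃ h : H, ρ h a = u} = ⊤)
    (hco : (Nat.card {u : V | ∃ h : H, ρ h a = u}).Coprime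
      (Nat.card {u : V | ∃ h : H, ρ h b = u})) :
    ∀ n ∈ N, ρ n b = b := by
  have hdvd : ∀ L : Subgroup H, (L.subgroupOf N).index ∣ L.index := by
    intro L
    rw [← Subgroup.relIndex]
    have h := Cfsg.Agent.Cores.card_sup_mul_card_inf L N
    have h1 : Nat.card (L ⊓ N : Subgroup H) * L.relIndex N = Nat.card N := by
      rw [← Subgroup.inf_relIndex_right L N, ← Subgroup.relIndex_bot_left,
        ← Subgroup.relIndex_bot_left]
      exact Subgroup.relIndex_mul_relIndex _ _ _ bot_le inf_le_right
    have h2 : Nat.card (L ⊔ N : Subgroup H) = Nat.card L * L.relIndex N := by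
      apply Nat.eq_of_mul_eq_mul_right (Nat.card_pos (α := (L ⊓ N : Subgroup H)))
      rw [h, ← h1]; ring
    have h3 := Subgroup.card_subgroup_dvd_card (L ⊔ N)
    rw [h2, ← L.card_mul_index] at h3
    exact Nat.dvd_of_mul_dvd_mul_left Nat.card_pos h3
  set K : Subgroup H := N ⊓ vecStab ρ b
  have hfac : ∀ u : V, (∃ h : H, ρ h a = u) → ∀ n ∈ N, sumOn ρ K (ρ n u) = sumOn ρ K u := by
    rintro u ⟨h, rfl⟩ n hn
    have horb : (vecStab ρ (ρ h a)).index = (vecStab ρ a).index := by
      rw [← card_orbit, ← card_orbit]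
      congr 2
      ext w
      constructor
      · rintro ⟨g, rfl⟩; exact ⟨g * h, by simp [map_mul]⟩
      · rintro ⟨g, rfl⟩
        exact ⟨g * h⁻¹, by rw [← Module.End.mul_apply, ← map_mul, inv_mul_cancel_right]⟩
    have hc : ((vecStab ρ b).subgroupOf N).index.Coprime
        ((vecStab ρ (ρ h a)).subgroupOf N).index := by
      rw [card_orbit, card_orbit] at hco
      exact Nat.Coprime.coprime_dvd_left (hdvd _)
        (Nat.Coprime.coprime_dvd_right ((hdvd _).trans (dvd_of_eq horb)) hco.symm)
    obtain ⟨x, hx, y, hy, hxy⟩ := exists_mul_of_coprime_index hc ⟨n, hn⟩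
    have hn' : n = (x : H) * (y : H) := congrArg Subtype.val hxy
    rw [hn', map_mul, Module.End.mul_apply, Subgroup.mem_subgroupOf.mp hy,
      sumOn_smul_left ρ (show (x : H) ∈ K from ⟨x.2, hx⟩)]
  have heq : (Nat.card N : k) • sumOn ρ K = (Nat.card K : k) • sumOn ρ N := by
    apply LinearMap.ext_on hspan
    intro u hu
    have h1 : sumOn ρ K (sumOn ρ N u) = (Nat.card N : k) • sumOn ρ K u := by
      have := Fintype.ofFinite N
      rw [sumOn_apply ρ N, map_sum, Fintype.sum_congr (fun n : N => sumOn ρ K (ρ (n : H) u)) (fun _ => sumOn ρ K u) (fun n => hfac u hu (n : H) n.2),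
        Finset.sum_const, Finset.card_univ, Nat.card_eq_fintype_card, Nat.cast_smul_eq_nsmul]
    have h2 : sumOn ρ K (sumOn ρ N u) = (Nat.card K : k) • sumOn ρ N u :=
      sumOn_of_fixed ρ fun x hx => apply_sumOn ρ hx.1 u
    rw [LinearMap.smul_apply, LinearMap.smul_apply, ← h1, h2]
  have hK : (Nat.card K : k) ≠ 0 := by
    obtain ⟨c, hc⟩ := Subgroup.card_dvd_of_le (inf_le_left : K ≤ N)
    intro h0
    rw [hc, Nat.cast_mul, h0, zero_mul] at hN
    exact hN rfl
  have hb := LinearMap.congr_fun heq b
  rw [LinearMap.smul_apply, LinearMap.smul_apply,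
    sumOn_of_fixed ρ (K := K) (v := b) (fun x hx => hx.2), smul_smul, mul_comm, mul_smul] at hb
  have hb' : (Nat.card N : k) • b = sumOn ρ N b := smul_right_injective V hK hb
  intro n hn
  apply smul_right_injective V hN
  show (Nat.card N : k) • ρ n b = (Nat.card N : k) • b
  rw [← map_smul, hb', apply_sumOn ρ hn]

/-- With `|H|` invertible, the fixed space of a cyclic representation is at most a line. -/
theorem finrank_invariants_le_one (ρ : Representation k H V) (a : V)
    (hH : (Nat.card H : k) ≠ 0)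
    (hspan : Submodule.span k {u : V | ∃ h : H, ρ h a = u} = ⊤) :
    Module.finrank k ρ.invariants ≤ 1 := by
  classical
  have hle : ρ.invariants ≤ Submodule.span k {sumOn ρ ⊤ a} := by
    intro v hv
    have h1 : sumOn ρ ⊤ v ∈ Submodule.span k {sumOn ρ ⊤ a} := by
      have h2 : Submodule.span k {u : V | ∃ h : H, ρ h a = u} ≤
          (Submodule.span k {sumOn ρ ⊤ a}).comap (sumOn ρ ⊤) := by
        rw [Submodule.span_le]
        rintro u ⟨h, rfl⟩
        show sumOn ρ ⊤ (ρ h a) ∈ Submodule.span k {sumOn ρ ⊤ a}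
        rw [sumOn_smul_left ρ (Subgroup.mem_top h)]
        exact Submodule.mem_span_singleton_self _
      rw [hspan] at h2
      exact h2 Submodule.mem_top
    rw [sumOn_of_fixed ρ (fun x _ => hv x), Subgroup.card_top] at h1
    exact (Submodule.smul_mem_iff _ hH).mp h1
  refine (Submodule.finrank_mono hle).trans ?_
  exact (finrank_span_le_card ({sumOn ρ ⊤ a} : Set V)).trans (by simp)

end Cfsg.Agent.H76
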