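import Mathlib
import Cfsg.Agent.H76.OrbitFixed
import Cfsg.Agent.Cores.PSolvable

/-!
Spanning orbits of coprime sizes for p-soluble groups in characteristic p.
-/

set_option autoImplicit false

universe uk uV uH

namespace Cfsg.Agent.H76

open Cfsg

theorem orbit_fixed_pSolvable {k : Type uk} [Field k] (p : ℕ) [Fact p.Prime] [CharP k p] (n : ℕ) :
    ∀ (H : Type uH) [Group H] [Finite H], Nat.card H = n →
    ∀ (V : Type uV) [AddCommGroup V] [Module k V],
      Cfsg.IsPSolvable p H → ∀ (ρ : Representation k H V) (a : V),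
      (∃ P : Sylow p H, ∀ x : H, x ∈ (P : Subgroup H) → ρ x a = a) →
      Submodule.span k {u : V | ∃ h : H, ρ h a = u} = ⊤ →
      Module.finrank k ρ.invariants ≤ 1 ∧
      ∀ b : V, (Nat.card {u : V | ∃ h : H, ρ h a = u}).Coprime
        (Nat.card {u : V | ∃ h : H, ρ h b = u}) → ∀ h : H, ρ h b = b := by
  induction n using Nat.strong_induction_on with
  | _ n ih => ?_
  intro H _ _ hn V _ _ hsol ρ a hfix hspan
  subst hn
  rcases subsingleton_or_nontrivial H with hs | hs
  · have h1 : ∀ h : H, h = 1 := fun h => Subsingleton.elim h 1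
    refine ⟨finrank_invariants_le_one ρ a ?_ hspan, fun b _ h => by simp [h1 h]⟩
    have : Nat.card H = 1 := Nat.card_unique
    simp [this]
  by_cases hM : pCore p H = ⊥
  · -- use the `p'`-core
    have hN1 : pPrimeCore p H ≠ ⊥ :=
      (Cfsg.Agent.Cores.pCore_ne_bot_or_pPrimeCore_ne_bot hsol).resolve_left (fun h => h hM)
    set N := pPrimeCore p H with hNdef
    have hN : (Nat.card N : k) ≠ 0 := by
      intro h0
      rw [CharP.cast_eq_zero_iff k p] at h0
      exact ((Fact.out : p.Prime).coprime_iff_not_dvd.mp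
        Cfsg.Agent.Cores.coprime_card_pPrimeCore.symm) h0
    set c : k := (Nat.card N : k)⁻¹ with hc
    have hinv : ∀ v : V, c • sumOn ρ N v ∈ Representation.invariants (ρ.comp N.subtype) := by
      intro v g
      show ρ (g : H) (c • sumOn ρ N v) = _
      rw [map_smul, apply_sumOn ρ g.2]
    have hEfix : ∀ w : V, w ∈ Representation.invariants (ρ.comp N.subtype) →
        c • sumOn ρ N w = w := by
      intro w hw
      rw [sumOn_of_fixed ρ (K := N) (v := w) (fun x hx => hw ⟨x, hx⟩), smul_smul, hc,
        inv_mul_cancel₀ hN, one_smul]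
    set W := Representation.invariants (ρ.comp N.subtype)
    let σ : Representation k (H ⧸ N) W := ρ.quotientToInvariants N
    let a' : W := ⟨c • sumOn ρ N a, hinv a⟩
    have hσ : ∀ (h : H) (w : W), (σ (QuotientGroup.mk h) w : V) = ρ h (w : V) := fun h w => rfl
    have hEcomm : ∀ (h : H) (v : V), c • sumOn ρ N (ρ h v) = ρ h (c • sumOn ρ N v) := by
      intro h v
      rw [map_smul, sumOn_comm]
    have hlt : Nat.card (H ⧸ N) < Nat.card H := by
      rw [N.card_eq_card_quotient_mul_card_subgroup]
      refine lt_mul_of_one_lt_right Nat.card_pos ?_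
      by_contra hle
      exact hN1 (Subgroup.eq_bot_of_card_le _ (by omega))
    have hspan' : Submodule.span k {u : W | ∃ h : H ⧸ N, σ h a' = u} = ⊤ := by
      rw [eq_top_iff]
      rintro w -
      set T := Submodule.span k {u : W | ∃ h : H ⧸ N, σ h a' = u}
      have h2 : Submodule.span k {u : V | ∃ h : H, ρ h a = u} ≤
          (T.map W.subtype).comap (c • sumOn ρ N) := by
        rw [Submodule.span_le]
        rintro u ⟨h, rfl⟩
        refine Submodule.mem_map.mpr ⟨σ (QuotientGroup.mk h) a', Submodule.subset_span ⟨_, rfl⟩, ?_⟩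
        show ρ h (a' : V) = c • sumOn ρ N (ρ h a)
        rw [hEcomm]
      rw [hspan] at h2
      obtain ⟨t, ht, htw⟩ := Submodule.mem_map.mp (h2 (Submodule.mem_top (x := (w : V))))
      have : t = w := Subtype.ext (htw.trans (hEfix w w.2))
      exact this ▸ ht
    have hfix' : ∃ P : Sylow p (H ⧸ N), ∀ x : H ⧸ N, x ∈ (P : Subgroup (H ⧸ N)) → σ x a' = a' := by
      obtain ⟨P, hP⟩ := hfix
      refine ⟨P.mapSurjective (QuotientGroup.mk'_surjective N), ?_⟩
      rintro _ ⟨x, hx, rfl⟩
      apply Subtype.ext
      show ρ x (c • sumOn ρ N a) = c • sumOn ρ N a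
      rw [← hEcomm, hP x hx]
    obtain ⟨hfr, hfixb⟩ := ih _ hlt (H ⧸ N) rfl W (Cfsg.Agent.Cores.isPSolvable_quotient hsol N)
      σ a' hfix' hspan'
    have hle : ρ.invariants ≤ σ.invariants.map W.subtype := fun v hv =>
      Submodule.mem_map.mpr ⟨⟨v, fun g => hv g⟩, fun g => by
        induction g using QuotientGroup.induction_on with
        | _ h => exact Subtype.ext (hv h), rfl⟩
    have hge : σ.invariants.map W.subtype ≤ ρ.invariants := by
      rintro _ ⟨w, hw, rfl⟩ h
      exact congrArg Subtype.val (hw (QuotientGroup.mk h))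
    have heq : ρ.invariants = σ.invariants.map W.subtype := le_antisymm hle hge
    refine ⟨?_, fun b hb => ?_⟩
    · rw [heq, ← (Submodule.equivMapOfInjective W.subtype W.injective_subtype _).finrank_eq]
      exact hfr
    · have hbN := fixed_of_coprime_orbits ρ a b N hN hspan hb
      let b' : W := ⟨b, fun g => hbN g g.2⟩
      have hda : ∀ (v : V) (w : W), (∀ h : H, ρ h v = v → σ (QuotientGroup.mk h) w = w) →
          (vecStab σ w).index ∣ (vecStab ρ v).index := by
        intro v w hvw
        rw [← Subgroup.index_comap_of_surjective (vecStab σ w) (QuotientGroup.mk'_surjective N)]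
        exact Subgroup.index_dvd_of_le fun h hh => hvw h hh
      rw [card_orbit, card_orbit] at hb
      have hb' := hfixb b' (by
        rw [card_orbit, card_orbit]
        refine Nat.Coprime.coprime_dvd_left (hda a a' fun h hh => Subtype.ext ?_)
          (Nat.Coprime.coprime_dvd_right (hda b b' fun h hh => Subtype.ext hh) hb)
        show ρ h (c • sumOn ρ N a) = c • sumOn ρ N a
        rw [← hEcomm, hh])
      intro h
      exact congrArg Subtype.val (hb' (QuotientGroup.mk h))
  · -- the `p`-core acts trivially
    set M := pCore p H with hMdef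
    have htriv : ∀ m ∈ M, ρ m = 1 := by
      intro m hm
      obtain ⟨P, hP⟩ := hfix
      apply LinearMap.ext_on hspan
      rintro u ⟨h, rfl⟩
      have h1 : h⁻¹ * m * h ∈ (P : Subgroup H) :=
        (IsPGroup.le_sylow_of_normal Cfsg.Agent.Cores.pCore_isPGroup P)
          (by simpa using Subgroup.Normal.conj_mem (inferInstance : M.Normal) m hm h⁻¹)
      rw [Module.End.one_apply]
      conv_rhs => rw [← hP _ h1, ← Module.End.mul_apply, ← map_mul]
      rw [← Module.End.mul_apply, ← map_mul]
      congr 2
      group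
    let σ : Representation k (H ⧸ M) V :=
      QuotientGroup.lift M ρ (fun m hm => MonoidHom.mem_ker.mpr (htriv m hm))
    have hσ : ∀ (h : H) (v : V), σ (QuotientGroup.mk h) v = ρ h v := fun h v => rfl
    have horb : ∀ v : V, {u : V | ∃ h : H ⧸ M, σ h v = u} = {u : V | ∃ h : H, ρ h v = u} := by
      intro v
      ext u
      constructor
      · rintro ⟨g, rfl⟩
        induction g using QuotientGroup.induction_on with
        | _ h => exact ⟨h, (hσ h v).symm⟩
      · rintro ⟨h, rfl⟩
        exact ⟨QuotientGroup.mk h, hσ h v⟩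
    have hlt : Nat.card (H ⧸ M) < Nat.card H := by
      rw [M.card_eq_card_quotient_mul_card_subgroup]
      refine lt_mul_of_one_lt_right Nat.card_pos ?_
      by_contra hle
      exact hM (Subgroup.eq_bot_of_card_le _ (by omega))
    have hfix' : ∃ P : Sylow p (H ⧸ M), ∀ x : H ⧸ M, x ∈ (P : Subgroup (H ⧸ M)) → σ x a = a := by
      obtain ⟨P, hP⟩ := hfix
      refine ⟨P.mapSurjective (QuotientGroup.mk'_surjective M), ?_⟩
      rintro _ ⟨x, hx, rfl⟩
      exact hP x hx
    obtain ⟨hfr, hfixb⟩ := ih _ hlt (H ⧸ M) rfl V (Cfsg.Agent.Cores.isPSolvable_quotient hsol M)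
      σ a hfix' (by rw [horb]; exact hspan)
    have heq : ρ.invariants = σ.invariants := by
      ext v
      constructor
      · intro hv g
        induction g using QuotientGroup.induction_on with
        | _ h => exact hv h
      · intro hv h
        exact hv (QuotientGroup.mk h)
    refine ⟨heq ▸ hfr, fun b hb h => ?_⟩
    have := hfixb b (by rw [horb, horb]; exact hb) (QuotientGroup.mk h)
    exact this

end Cfsg.Agent.H76
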