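import Mathlib

/-!
A p-subgroup lies in every normal subgroup of index prime to p.
-/

set_option autoImplicit false

namespace Cfsg.Agent.H76

variable {G : Type*} [Group G] [Finite G]

/-- A `p`-subgroup lies in every normal subgroup of index prime to `p`. -/
theorem le_of_isPGroup_of_not_dvd_index {p : ℕ} [Fact p.Prime] {Q : Subgroup G}
    (hQ : IsPGroup p Q) (N : Subgroup G) [N.Normal] (hN : ¬ p ∣ N.index) : Q ≤ N := by
  have h1 : IsPGroup p (Q.map (QuotientGroup.mk' N)) := hQ.map _
  have hbot : Q.map (QuotientGroup.mk' N) = ⊥ := by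
    apply Subgroup.eq_bot_of_card_eq
    obtain ⟨k, hk⟩ := IsPGroup.iff_card.mp h1
    rcases Nat.eq_zero_or_pos k with rfl | hk0
    · simpa using hk
    · exact absurd (dvd_trans (dvd_pow_self p hk0.ne') (hk ▸ Subgroup.card_subgroup_dvd_card _)) hN
  rwa [Subgroup.map_eq_bot_iff, QuotientGroup.ker_mk'] at hbot

end Cfsg.Agent.H76
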