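import Mathlib
import Cfsg.Agent.H76.PElements
import Cfsg.Agent.H76.PIndex

/-!
Covering the p-elements of a group generated by them needs at least p + 1 proper subgroups.
-/

set_option autoImplicit false

open scoped Pointwise

namespace Cfsg.Agent.H76

variable {G : Type*} [Group G] [Finite G]

/-- The subgroup generated by the `p`-elements of `H`. -/
def pGenerated (p : ℕ) (H : Subgroup G) : Subgroup G :=
  Subgroup.closure {g : G | g ∈ H ∧ ∃ k : ℕ, orderOf g = p ^ k}

theorem pGenerated_le (p : ℕ) (H : Subgroup G) : pGenerated p H ≤ H :=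
  (Subgroup.closure_le _).mpr fun _ hg => hg.1

theorem mem_pGenerated {p : ℕ} {H : Subgroup G} {g : G} (h : g ∈ H)
    (hk : ∃ k : ℕ, orderOf g = p ^ k) : g ∈ pGenerated p H :=
  Subgroup.subset_closure ⟨h, hk⟩

theorem pGenerated_mono {p : ℕ} {H K : Subgroup G} (h : H ≤ K) : pGenerated p H ≤ pGenerated p K :=
  Subgroup.closure_mono fun _ hg => ⟨h hg.1, hg.2⟩

theorem pGenerated_idem (p : ℕ) (H : Subgroup G) :
    pGenerated p (pGenerated p H) = pGenerated p H :=
  le_antisymm (pGenerated_le _ _)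
    ((Subgroup.closure_le _).mpr fun _ hg => mem_pGenerated (mem_pGenerated hg.1 hg.2) hg.2)

theorem pGenerated_smul (p : ℕ) (H : Subgroup G) (a : MulAut G) :
    pGenerated p (H.map a.toMonoidHom) = (pGenerated p H).map a.toMonoidHom := by
  rw [pGenerated, pGenerated, MonoidHom.map_closure]
  congr 1
  ext g
  constructor
  · rintro ⟨⟨h, hh, rfl⟩, k, hk⟩
    exact ⟨h, ⟨hh, k, by rwa [orderOf_injective a.toMonoidHom a.injective] at hk⟩, rfl⟩
  · rintro ⟨h, ⟨hh, k, hk⟩, rfl⟩
    exact ⟨⟨h, hh, rfl⟩, k, by rwa [orderOf_injective a.toMonoidHom a.injective]⟩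

theorem pGenerated_of_isPGroup {p : ℕ} [Fact p.Prime] {H : Subgroup G} (h : IsPGroup p H) :
    pGenerated p H = H := by
  refine le_antisymm (pGenerated_le _ _) fun g hg => mem_pGenerated hg ?_
  obtain ⟨k, hk⟩ := IsPGroup.iff_orderOf.mp h ⟨g, hg⟩
  exact ⟨k, by rwa [Subgroup.orderOf_mk] at hk⟩

/-- A family of at most `p` subgroups covering the `p`-elements of `H` has a member containing the
subgroup they generate. -/
theorem exists_ge_of_cover {p : ℕ} [hp : Fact p.Prime] (H : Subgroup G) :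
    pGenerated p H = H → ∀ S : Finset (Subgroup G), S.card ≤ p →
      (∀ g ∈ H, (∃ k : ℕ, orderOf g = p ^ k) → ∃ K ∈ S, g ∈ K) → ∃ K ∈ S, H ≤ K := by
  classical
  induction H using WellFoundedLT.induction with
  | _ H ih => ?_
  intro hgen S hS hcov
  by_contra hno
  push Not at hno
  have hsub : ∀ L : Subgroup G, pGenerated p L = L → L < H → ∃ K ∈ S, L ≤ K := fun L hL hlt =>
    ih L hlt hL S hS fun g hg hk => hcov g (hlt.le hg) hk
  by_cases hHp : IsPGroup p H
  · -- counting in a `p`-group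
    have hcard : ∀ K ∈ S, ((H ⊓ K : Subgroup G) : Set G).ncard * p ≤ Nat.card H := by
      intro K hK
      show Nat.card (H ⊓ K : Subgroup G) * p ≤ _
      obtain ⟨a, ha⟩ := IsPGroup.iff_card.mp (hHp.to_le (inf_le_left : H ⊓ K ≤ H))
      obtain ⟨b, hb⟩ := IsPGroup.iff_card.mp hHp
      rw [ha, hb, ← pow_succ]
      refine Nat.pow_le_pow_right hp.out.pos ?_
      by_contra hlt
      refine hno K hK ?_
      have : H ⊓ K = H := Subgroup.eq_of_le_of_card_ge inf_le_left (by
        rw [ha, hb]; exact Nat.pow_le_pow_right hp.out.pos (by omega))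
      exact this ▸ inf_le_right
    have hunion : ((H : Set G) \ {1}) ⊆ ⋃ K ∈ S, ((H ⊓ K : Subgroup G) : Set G) \ {1} := by
      rintro g ⟨hg, hg1⟩
      obtain ⟨k, hk⟩ := IsPGroup.iff_orderOf.mp hHp ⟨g, hg⟩
      rw [Subgroup.orderOf_mk] at hk
      obtain ⟨K, hK, hgK⟩ := hcov g hg ⟨k, hk⟩
      exact Set.mem_biUnion hK ⟨⟨hg, hgK⟩, hg1⟩
    have h1 := (Set.ncard_le_ncard hunion (Set.toFinite _)).trans
      (Finset.set_ncard_biUnion_le S fun K => ((H ⊓ K : Subgroup G) : Set G) \ {1})
    have h2 : ((H : Set G) \ {1}).ncard + 1 = Nat.card H := by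
      rw [Set.ncard_diff_singleton_add_one H.one_mem]; rfl
    have h3 : (∑ K ∈ S, (((H ⊓ K : Subgroup G) : Set G) \ {1}).ncard) * p + S.card * p ≤
        S.card * Nat.card H := by
      have : ∑ K ∈ S, ((((H ⊓ K : Subgroup G) : Set G) \ {1}).ncard + 1) * p ≤
          ∑ _K ∈ S, Nat.card H := Finset.sum_le_sum fun K hK => by
        rw [Set.ncard_diff_singleton_add_one (H ⊓ K).one_mem]
        exact hcard K hK
      rw [← Finset.sum_mul, Finset.sum_add_distrib, Finset.sum_const, Finset.sum_const,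
        smul_eq_mul, smul_eq_mul, mul_one, add_mul] at this
      exact this
    have hS0 : 0 < S.card := by
      obtain ⟨K, hK, -⟩ := hcov 1 H.one_mem ⟨0, by simp⟩
      exact Finset.card_pos.mpr ⟨K, hK⟩
    have h4 : S.card * Nat.card H ≤ p * Nat.card H := Nat.mul_le_mul_right _ hS
    have h6 : p ≤ S.card * p := Nat.le_mul_of_pos_left p hS0
    have h7 := Nat.mul_le_mul_right p h1
    have h8 : ((H : Set G) \ {1}).ncard * p + p = Nat.card H * p := by rw [← h2]; ring
    have hlt := hp.out.one_lt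
    by_cases hS1 : S.card = 1
    · rw [hS1] at h3
      have hH : 1 * Nat.card H < p * Nat.card H :=
        Nat.mul_lt_mul_of_pos_right hlt Nat.card_pos
      have : p * Nat.card H = Nat.card H * p := mul_comm _ _
      omega
    · have : 2 * p ≤ S.card * p := Nat.mul_le_mul_right _ (by omega)
      have : p * Nat.card H = Nat.card H * p := mul_comm _ _
      omega
  -- maximal proper `p`-generated subgroups
  have : Fintype (Subgroup G) := Fintype.ofFinite _
  set M := Finset.univ.filter (fun L : Subgroup G => pGenerated p L = L ∧ L < H ∧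
    ∀ L' : Subgroup G, pGenerated p L' = L' → L' < H → L ≤ L' → L' ≤ L) with hM
  have hmem : ∀ L, L ∈ M ↔ pGenerated p L = L ∧ L < H ∧
      ∀ L' : Subgroup G, pGenerated p L' = L' → L' < H → L ≤ L' → L' ≤ L := fun L => by simp [hM]
  have hup : ∀ L : Subgroup G, pGenerated p L = L → L < H → ∃ L' ∈ M, L ≤ L' := by
    intro L hL hlt
    obtain ⟨L', hle, ⟨⟨hL'g, hL'H⟩, hmax⟩⟩ :=
      (Set.toFinite {L : Subgroup G | pGenerated p L = L ∧ L < H}).exists_le_maximal ⟨hL, hlt⟩
    exact ⟨L', (hmem L').mpr ⟨hL'g, hL'H, fun L'' h1 h2 h3 => hmax ⟨h1, h2⟩ h3⟩, hle⟩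
  have hMcard : M.card ≤ p := by
    refine le_trans ?_ ((Finset.card_image_le (s := S)
      (f := fun K => pGenerated p (H ⊓ K))).trans hS)
    refine Finset.card_le_card fun L hL => ?_
    obtain ⟨hLg, hLH, hLmax⟩ := (hmem L).mp hL
    obtain ⟨K, hK, hLK⟩ := hsub L hLg hLH
    refine Finset.mem_image.mpr ⟨K, hK, ?_⟩
    have h1 : L ≤ pGenerated p (H ⊓ K) := hLg ▸ pGenerated_mono (le_inf hLH.le hLK)
    refine le_antisymm (hLmax _ (pGenerated_idem _ _) ?_ h1) h1
    refine lt_of_le_of_ne ((pGenerated_le _ _).trans inf_le_left) fun e => hno K hK ?_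
    exact e ▸ (pGenerated_le _ _).trans inf_le_right
  have hconj : ∀ h ∈ H, ∀ L ∈ M, L.map (MulAut.conj h).toMonoidHom ∈ M := by
    intro h hh L hL
    obtain ⟨hLg, hLH, hLmax⟩ := (hmem L).mp hL
    have hHh : ∀ h' ∈ H, H.map (MulAut.conj h').toMonoidHom ≤ H := by
      rintro h' hh' _ ⟨u, hu, rfl⟩
      exact mul_mem (mul_mem hh' hu) (inv_mem hh')
    have hlt : ∀ h' ∈ H, ∀ L : Subgroup G, L < H → L.map (MulAut.conj h').toMonoidHom < H := by
      intro h' hh' L hLH
      refine lt_of_le_of_ne ((Subgroup.map_mono hLH.le).trans (hHh h' hh')) fun e => ?_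
      have h1 := congrArg (fun X : Subgroup G => Nat.card X) e
      simp only [Subgroup.card_map_of_injective (f := (MulAut.conj h').toMonoidHom)
        (MulAut.conj h').injective] at h1
      exact hLH.ne (Subgroup.eq_of_le_of_card_ge hLH.le h1.ge)
    refine (hmem _).mpr ⟨by rw [pGenerated_smul, hLg], hlt h hh L hLH, fun L' h1 h2 h3 => ?_⟩
    have hback : ∀ X : Subgroup G, (X.map (MulAut.conj h).toMonoidHom).map
        (MulAut.conj h⁻¹).toMonoidHom = X := by
      intro X
      rw [Subgroup.map_map]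
      convert Subgroup.map_id X
      ext u
      simp only [MonoidHom.comp_apply, MulEquiv.coe_toMonoidHom, MulAut.conj_apply,
        MonoidHom.id_apply]
      group
    have h4 := hLmax (L'.map (MulAut.conj h⁻¹).toMonoidHom) (by rw [pGenerated_smul, h1])
      (hlt _ (inv_mem hh) L' h2) (hback L ▸ Subgroup.map_mono h3)
    intro u hu
    refine ⟨h⁻¹ * u * h, h4 ⟨u, hu, ?_⟩, ?_⟩
    · show h⁻¹ * u * h⁻¹⁻¹ = _; rw [inv_inv]
    · show h * (h⁻¹ * u * h) * h⁻¹ = u; group
  -- every `p`-element normalises every member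
  have hnorm : ∀ g ∈ H, (∃ k : ℕ, orderOf g = p ^ k) → ∀ L ∈ M,
      g ∈ Subgroup.normalizer (L : Set G) := by
    intro g hg hk L hL
    have hzg : pGenerated p (Subgroup.zpowers g) = Subgroup.zpowers g :=
      pGenerated_of_isPGroup (pElement_zpowers hk)
    have hzH : Subgroup.zpowers g < H := by
      refine lt_of_le_of_ne (Subgroup.zpowers_le.mpr hg) fun e => hHp ?_
      rw [← e]; exact pElement_zpowers hk
    obtain ⟨L0, hL0, hgL0⟩ := hup _ hzg hzH
    have hfix0 : g ∈ Subgroup.normalizer (L0 : Set G) :=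
      Subgroup.le_normalizer (hgL0 (Subgroup.mem_zpowers g))
    by_contra hgL
    have hzorb : MulAction.orbit (Subgroup.zpowers (MulAut.conj g)) L ⊆ ↑(M.erase L0) := by
      rintro _ ⟨⟨a, ha⟩, rfl⟩
      obtain ⟨s, rfl⟩ := Subgroup.mem_zpowers_iff.mp ha
      rw [Finset.mem_coe, Finset.mem_erase]
      have hpow : (MulAut.conj g : MulAut G) ^ s = MulAut.conj (g ^ s) := (map_zpow _ g s).symm
      refine ⟨fun e => hgL ?_, ?_⟩
      · have hgs : g ^ s ∈ Subgroup.normalizer (L0 : Set G) := zpow_mem hfix0 s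
        have hL0L : L0 = L := by
          have e' : L.map (MulAut.conj (g ^ s)).toMonoidHom = L0 := by rw [← e, ← hpow]; rfl
          refine Subgroup.map_injective (f := (MulAut.conj (g ^ s)).toMonoidHom)
            (MulAut.conj (g ^ s)).injective ?_
          rw [e']
          ext u
          constructor
          · rintro ⟨v, hv, rfl⟩
            exact (Subgroup.mem_normalizer_iff.mp hgs v).mp hv
          · intro hu
            refine ⟨(g ^ s)⁻¹ * u * g ^ s, ?_, ?_⟩
            · have := (Subgroup.mem_normalizer_iff.mp (inv_mem hgs) u).mp hu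
              rwa [inv_inv] at this
            · show g ^ s * ((g ^ s)⁻¹ * u * g ^ s) * (g ^ s)⁻¹ = u; group
        exact hL0L ▸ hfix0
      · show L.map ((MulAut.conj g : MulAut G) ^ s).toMonoidHom ∈ M
        rw [hpow]
        exact hconj _ (zpow_mem hg s) L hL
    obtain ⟨k, hk'⟩ := hk
    have hord : orderOf (MulAut.conj g : MulAut G) ∣ p ^ k := hk' ▸ orderOf_map_dvd MulAut.conj g
    have hdvd : (MulAction.orbit (Subgroup.zpowers (MulAut.conj g)) L).ncard ∣ p ^ k := by
      rw [← MulAction.index_stabilizer]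
      refine (Subgroup.index_dvd_card _).trans ?_
      rw [Nat.card_zpowers]; exact hord
    obtain ⟨i, -, hi⟩ := (Nat.dvd_prime_pow hp.out).mp hdvd
    have hle := Set.ncard_le_ncard hzorb (Finset.finite_toSet _)
    rw [Set.ncard_coe_finset, Finset.card_erase_of_mem hL0, hi] at hle
    have hi0 : i = 0 := by
      by_contra hi0
      have : p ≤ p ^ i := Nat.le_self_pow hi0 p
      have := hp.out.one_lt
      omega
    rw [hi0, pow_zero, Set.ncard_eq_one] at hi
    obtain ⟨X, hX⟩ := hi
    have h1 : L ∈ MulAction.orbit (Subgroup.zpowers (MulAut.conj g)) L := MulAction.mem_orbit_self _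
    have h2 : (⟨MulAut.conj g, Subgroup.mem_zpowers _⟩ : Subgroup.zpowers (MulAut.conj g)) • L ∈
        MulAction.orbit (Subgroup.zpowers (MulAut.conj g)) L := MulAction.mem_orbit _ _
    rw [hX, Set.mem_singleton_iff] at h1 h2
    have h3 : L.map (MulAut.conj g).toMonoidHom = L := h2.trans h1.symm
    apply hgL
    rw [Subgroup.mem_normalizer_iff]
    intro u
    constructor
    · intro hu; rw [← h3]; exact ⟨u, hu, rfl⟩
    · intro hu
      rw [← h3] at hu
      obtain ⟨v, hv, he⟩ := hu
      exact (MulAut.conj g).injective he ▸ hv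
  -- a member containing a Sylow subgroup is normal, hence everything
  obtain ⟨P⟩ : Nonempty (Sylow p H) := inferInstance
  set P' := (P : Subgroup H).map H.subtype with hP'
  have hP'p : IsPGroup p P' := P.2.map _
  have hP'H : P' < H := by
    refine lt_of_le_of_ne (Subgroup.map_subtype_le _) fun e => hHp ?_
    rw [← e]; exact hP'p
  obtain ⟨L0, hL0, hPL0⟩ := hup P' (pGenerated_of_isPGroup hP'p) hP'H
  obtain ⟨hL0g, hL0H, -⟩ := (hmem L0).mp hL0
  have hHN : H ≤ Subgroup.normalizer (L0 : Set G) := by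
    conv_lhs => rw [← hgen]
    exact (Subgroup.closure_le _).mpr fun g hg => hnorm g hg.1 hg.2 L0 hL0
  refine hL0H.not_ge ?_
  conv_lhs => rw [← hgen]
  refine (Subgroup.closure_le _).mpr fun g hg => ?_
  have : (L0.subgroupOf H).Normal := ⟨fun u hu v =>
    (Subgroup.mem_normalizer_iff.mp (hHN v.2) u).mp hu⟩
  have hidx : ¬ p ∣ (L0.subgroupOf H).index := by
    intro hd
    refine P.not_dvd_index (hd.trans (Subgroup.index_dvd_of_le ?_))
    intro u hu
    exact hPL0 ⟨u, hu, rfl⟩
  exact Cfsg.Agent.H76.le_of_isPGroup_of_not_dvd_index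
    (pElement_zpowers (g := (⟨g, hg.1⟩ : H)) (p := p)
      (by obtain ⟨k, hk⟩ := hg.2; exact ⟨k, by rw [Subgroup.orderOf_mk, hk]⟩))
    (L0.subgroupOf H) hidx (Subgroup.mem_zpowers _)

end Cfsg.Agent.H76
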