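import Cfsg.Agent.H76.Degree13
import Cfsg.Agent.H27.ProjLine

/-!
Two even permutations of large prime orders generate an alternating group.
-/

set_option autoImplicit false

open Equiv Equiv.Perm MulAction
open scoped Pointwise

namespace Cfsg.Agent.H76

variable {α : Type*} [Fintype α] [DecidableEq α]

theorem isPreprimitive_pair {p q : ℕ} (hp : p.Prime) (hq : q.Prime) {x y : Perm α}
    (hx : orderOf x = p) (hy : orderOf y = q) (hn : Fintype.card α ≤ 2 * p) (hpq : p < q)
    (hcov : ∀ z, x z ≠ z ∨ y z ≠ z) :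
    IsPreprimitive (Subgroup.closure ({x, y} : Set (Perm α))) α := by
  set H := Subgroup.closure ({x, y} : Set (Perm α)) with hH
  have hxH : x ∈ H := Subgroup.subset_closure (by simp)
  have hyH : y ∈ H := Subgroup.subset_closure (by simp)
  have hysupp : y.support.card ≤ Fintype.card α := y.support.card_le_univ
  have hyc : y.IsCycle := isCycle_of_prime_order (hy.symm ▸ hq) (by omega)
  have hycard : y.support.card = q := hyc.orderOf ▸ hy
  obtain ⟨a, ha⟩ := hyc.nonempty_support
  have hmove : ∀ z ∈ y.support, ∃ g : H, (g : Perm α) a = z := by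
    intro z hz
    obtain ⟨i, hi⟩ := hyc.sameCycle (mem_support.mp ha) (mem_support.mp hz)
    exact ⟨⟨y ^ i, H.zpow_mem hyH i⟩, hi⟩
  have hall : ∀ z, ∃ g : H, (g : Perm α) a = z := by
    intro z
    by_cases hz : z ∈ y.support
    · exact hmove z hz
    have hxz : x z ≠ z := (hcov z).resolve_right (fun h => hz (mem_support.mpr h))
    obtain ⟨i, hi⟩ := exists_pow_apply_mem hp hx hxz y.support (by omega)
    obtain ⟨g, hg⟩ := hmove _ hi
    refine ⟨⟨(x ^ i)⁻¹, H.inv_mem (H.pow_mem hxH i)⟩ * g, ?_⟩
    simp [hg]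
  have : IsPretransitive H α := ⟨fun u v => by
    obtain ⟨g, rfl⟩ := hall u
    obtain ⟨k, rfl⟩ := hall v
    exact ⟨k * g⁻¹, by simp [Subgroup.smul_def]⟩⟩
  refine IsPreprimitive.of_isTrivialBlock_base a fun {B} haB hB => ?_
  have hsizeq : q ≤ Fintype.card α := hycard ▸ hysupp
  rw [IsTrivialBlock]
  by_contra hcon
  push Not at hcon
  obtain ⟨hsub, huniv⟩ := hcon
  have hb2 : 2 ≤ B.ncard := by
    by_contra h
    exact Set.not_subsingleton_iff.mpr hsub ((Set.ncard_le_one_iff_subsingleton).mp (by omega))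
  have hdvd := hB.ncard_dvd_card ⟨a, haB⟩
  rw [Nat.card_eq_fintype_card] at hdvd
  have hblt : B.ncard < Fintype.card α := by
    rw [← Nat.card_eq_fintype_card]
    exact Set.ncard_lt_card huniv
  have h2b : 2 * B.ncard ≤ Fintype.card α := by
    obtain ⟨k, hk⟩ := hdvd
    have : 2 ≤ k := by
      by_contra h
      interval_cases k <;> omega
    rw [hk]
    calc 2 * B.ncard = B.ncard * 2 := by ring
      _ ≤ B.ncard * k := Nat.mul_le_mul_left _ this
  -- the translates of `B` by powers of `y`
  by_cases hyB : ∀ z ∈ B, y z ∈ B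
  · have hsup : (y.support : Set α) ⊆ B := by
      intro z hz
      obtain ⟨i, rfl⟩ := hyc.exists_pow_eq (mem_support.mp ha) (mem_support.mp (Finset.mem_coe.mp hz))
      clear hz
      induction i with
      | zero => simpa
      | succ i ih => rw [pow_succ', Perm.mul_apply]; exact hyB _ ih
    have := Set.ncard_le_ncard hsup
    rw [Set.ncard_coe_finset, hycard] at this
    omega
  -- otherwise the translates are pairwise disjoint
  have hdisj : ∀ i : ℕ, ¬ q ∣ i → Disjoint ((⇑(y ^ i)) '' B) B := by
    intro i hi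
    have hsm : (⟨y ^ i, H.pow_mem hyH i⟩ : H) • B = (⇑(y ^ i)) '' B := by
      rfl
    rcases isBlock_iff_smul_eq_or_disjoint.mp hB ⟨y ^ i, H.pow_mem hyH i⟩ with h | h
    · exfalso
      rw [hsm] at h
      obtain ⟨l, hl⟩ := exists_pow_eq_self_of_coprime (x := y) (n := i)
        (hy ▸ (hq.coprime_iff_not_dvd.mpr hi).symm)
      apply hyB
      intro z hz
      rw [← hl]
      clear hl
      induction l with
      | zero => simpa
      | succ l ih =>
        rw [pow_succ', Perm.mul_apply]
        rw [← h]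
        exact ⟨_, ih, rfl⟩
    · rwa [hsm] at h
  have hinj : Function.Injective (fun iz : Fin q × B => (y ^ iz.1.val) (iz.2 : α)) := by
    have key : ∀ i j : ℕ, i < j → j < q → ∀ z ∈ B, ∀ w ∈ B, (y ^ i) z ≠ (y ^ j) w := by
      intro i j hij hj z hz w hw h
      have hd := hdisj (j - i) (fun hd => absurd (Nat.le_of_dvd (by omega) hd) (by omega))
      refine Set.disjoint_left.mp hd ⟨w, hw, rfl⟩ ?_
      have h' : (y ^ i) z = (y ^ i) ((y ^ (j - i)) w) := by
        rw [← Perm.mul_apply, ← pow_add, Nat.add_sub_cancel' hij.le, h]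
      rw [← (y ^ i).injective h']
      exact hz
    rintro ⟨i, z⟩ ⟨j, w⟩ h
    rcases lt_trichotomy i.val j.val with hij | hij | hij
    · exact absurd h (key _ _ hij j.2 z z.2 w w.2)
    · have hij' : i = j := Fin.ext hij
      subst hij'
      exact Prod.ext rfl (Subtype.ext ((y ^ i.val).injective h))
    · exact absurd h.symm (key _ _ hij i.2 w w.2 z z.2)
  have hle := Nat.card_le_card_of_injective _ hinj
  rw [Nat.card_prod, Nat.card_fin, Nat.card_coe_set_eq, Nat.card_eq_fintype_card] at hle
  have h1 : q * 2 ≤ q * B.ncard := Nat.mul_le_mul_left q hb2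
  omega

/-- Degree 6: the group generated is `A₆` or `A₅`. -/
theorem iso_alternating_six (hα : Fintype.card α = 6) {x y : Perm α} (hx : orderOf x = 3)
    (hy : orderOf y = 5) (hxe : x ∈ alternatingGroup α) (hye : y ∈ alternatingGroup α)
    (hG : IsPreprimitive (Subgroup.closure ({x, y} : Set (Perm α))) α) :
    ∃ d : ℕ, 5 ≤ d ∧
      Nonempty (Subgroup.closure ({x, y} : Set (Perm α)) ≃* alternatingGroup (Fin d)) := by
  set H := Subgroup.closure ({x, y} : Set (Perm α)) with hH
  have hxH : x ∈ H := Subgroup.subset_closure (by simp)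
  have hyH : y ∈ H := Subgroup.subset_closure (by simp)
  have hHA : H ≤ alternatingGroup α := by
    rw [hH, Subgroup.closure_le]
    rintro z (rfl | rfl) <;> assumption
  by_cases hfull : H = alternatingGroup α
  · exact ⟨6, by norm_num,
      ⟨(MulEquiv.subgroupCongr hfull).trans (Equiv.altCongrHom (Fintype.equivFinOfCardEq hα))⟩⟩
  refine ⟨5, le_rfl, ?_⟩
  have hnt : Nontrivial α := Fintype.one_lt_card_iff_nontrivial.mp (by omega)
  have hA : Nat.card (alternatingGroup α) = 360 := by
    rw [nat_card_alternatingGroup, Nat.card_eq_fintype_card, hα]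
    decide
  obtain ⟨a⟩ : Nonempty α := inferInstance
  have h6 : 6 ∣ Nat.card H := by
    have h := (MulAction.stabilizer H a).index_dvd_card
    rwa [index_stabilizer_of_transitive H a, Nat.card_eq_fintype_card, hα] at h
  have h5 : 5 ∣ Nat.card H := by
    rw [← hy, ← Subgroup.orderOf_mk y hyH]; exact orderOf_dvd_natCard _
  have h30 : 30 ∣ Nat.card H := by omega
  have hne : Nat.card H ≠ 30 := by
    intro hc
    refine not_generated_by_odd ({⟨x, hxH⟩, ⟨y, hyH⟩} : Set H) ?_ ?_ (by omega)
    · rw [eq_top_iff]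
      rintro ⟨z, hz⟩ -
      induction hz using Subgroup.closure_induction with
      | mem w hw =>
        apply Subgroup.subset_closure
        rcases hw with rfl | rfl <;> simp
      | one => exact one_mem _
      | mul a b ha hb h1 h2 => exact mul_mem h1 h2
      | inv a ha h1 => exact inv_mem h1
    · rintro z (rfl | rfl)
      · rw [Subgroup.orderOf_mk, hx]; decide
      · rw [Subgroup.orderOf_mk, hy]; decide
  set H' := H.subgroupOf (alternatingGroup α) with hH'
  let e : H' ≃* H := Subgroup.subgroupOfEquivOfLe hHA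
  have hmul := H'.index_mul_card
  rw [Nat.card_congr e.toEquiv, hA] at hmul
  have hne1 : H'.index ≠ 1 := by
    rw [Ne, Subgroup.index_eq_one, hH', Subgroup.subgroupOf_eq_top]
    exact fun h => hfull (le_antisymm hHA h)
  have hsimple : IsSimpleGroup (alternatingGroup α) := alternatingGroup.isSimpleGroup (by
    rw [Nat.card_eq_fintype_card]; omega)
  have hinj : Function.Injective (MulAction.toPermHom (alternatingGroup α) (alternatingGroup α ⧸ H')) := by
    rw [← MonoidHom.ker_eq_bot_iff, ← Subgroup.normalCore_eq_ker]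
    refine (Subgroup.Normal.eq_bot_or_eq_top inferInstance).resolve_right fun h => hne1 ?_
    rw [Subgroup.index_eq_one, eq_top_iff, ← h]
    exact H'.normalCore_le
  have hle := Nat.card_le_card_of_injective _ hinj
  rw [hA, Nat.card_perm] at hle
  change 360 ≤ H'.index.factorial at hle
  have hi : 6 ≤ H'.index := by
    by_contra hcon
    have := Nat.factorial_le (show H'.index ≤ 5 by omega)
    simp [Nat.factorial] at this
    omega
  obtain ⟨k, hk⟩ := h30
  have hHcard : Nat.card H = 60 := by
    have h1 : 6 * Nat.card H ≤ H'.index * Nat.card H := Nat.mul_le_mul_right _ hi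
    have h2 : 0 < Nat.card H := Nat.card_pos
    omega
  have hidx6 : H'.index = 6 := by rw [hHcard] at hmul; omega
  have : FaithfulSMul (alternatingGroup α) (alternatingGroup α ⧸ H') := ⟨fun {g h} hgh => hinj
    (Equiv.ext hgh)⟩
  obtain ⟨e5⟩ := H27.ProjLine.exists_equiv_alternating_stabilizer (A := alternatingGroup α)
    (X := alternatingGroup α ⧸ H') ((1 : alternatingGroup α) : alternatingGroup α ⧸ H') (n := 5)
    (by rw [← Subgroup.index_eq_card, hidx6])
    (by rw [MulAction.stabilizer_quotient, Nat.card_congr e.toEquiv, hHcard]; rfl)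
  exact ⟨e.symm.trans ((MulEquiv.subgroupCongr (MulAction.stabilizer_quotient H').symm).trans e5)⟩

/-- Elements of prime orders `p < q` moving every point generate an alternating group. -/
theorem pair_generates {p q : ℕ} (hp : p.Prime) (hq : q.Prime) {x y : Perm α}
    (hx : orderOf x = p) (hy : orderOf y = q) (hn : Fintype.card α ≤ 2 * p) (hpq : p < q)
    (hxe : x ∈ alternatingGroup α) (hye : y ∈ alternatingGroup α) (hcov : ∀ z, x z ≠ z ∨ y z ≠ z)
    (hcases : q + 3 ≤ Fintype.card α ∨ (p + 3 ≤ Fintype.card α ∧ Fintype.card α < 2 * p) ∨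
      (p = 3 ∧ q = 5) ∨ (p = 5 ∧ q = 7 ∧ Fintype.card α = 7) ∨
      (p = 11 ∧ q = 13 ∧ Fintype.card α = 13)) :
    ∃ d : ℕ, 5 ≤ d ∧
      Nonempty (Subgroup.closure ({x, y} : Set (Perm α)) ≃* alternatingGroup (Fin d)) := by
  have hG := isPreprimitive_pair hp hq hx hy hn hpq hcov
  have hxH : x ∈ Subgroup.closure ({x, y} : Set (Perm α)) := Subgroup.subset_closure (by simp)
  have hyH : y ∈ Subgroup.closure ({x, y} : Set (Perm α)) := Subgroup.subset_closure (by simp)
  have hysupp : y.support.card ≤ Fintype.card α := y.support.card_le_univ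
  have hxsupp : x.support.card ≤ Fintype.card α := x.support.card_le_univ
  have hyc : y.IsCycle := isCycle_of_prime_order (hy.symm ▸ hq) (by omega)
  have hycard : y.support.card = q := hyc.orderOf ▸ hy
  have hxcyc : Fintype.card α < 2 * p → x.IsCycle ∧ x.support.card = p := fun h => by
    have hc : x.IsCycle := isCycle_of_prime_order (hx.symm ▸ hp) (by omega)
    exact ⟨hc, hc.orderOf ▸ hx⟩
  have hHA : Subgroup.closure ({x, y} : Set (Perm α)) ≤ alternatingGroup α := by
    rw [Subgroup.closure_le]
    rintro z (rfl | rfl) <;> assumption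
  have hd : 5 ≤ Fintype.card α := by
    have := hp.two_le
    rcases hcases with h | ⟨h, -⟩ | ⟨-, h⟩ | ⟨-, -, h⟩ | ⟨-, -, h⟩ <;> omega
  have key : alternatingGroup α ≤ Subgroup.closure ({x, y} : Set (Perm α)) →
      ∃ d : ℕ, 5 ≤ d ∧
        Nonempty (Subgroup.closure ({x, y} : Set (Perm α)) ≃* alternatingGroup (Fin d)) := fun h =>
    ⟨Fintype.card α, hd, ⟨(MulEquiv.subgroupCongr (le_antisymm hHA h)).trans
      (Equiv.altCongrHom (Fintype.equivFin α))⟩⟩
  rcases hcases with h | ⟨h, h'⟩ | ⟨rfl, rfl⟩ | ⟨rfl, rfl, h⟩ | ⟨rfl, rfl, h⟩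
  · exact key (alternatingGroup_le_of_cycle hG hyc (hycard ▸ hq) hyH (by omega))
  · obtain ⟨hc, hcard⟩ := hxcyc h'
    exact key (alternatingGroup_le_of_cycle hG hc (hcard ▸ hp) hxH (by omega))
  · by_cases h6 : Fintype.card α = 6
    · exact iso_alternating_six h6 hx hy hxe hye hG
    · obtain ⟨hc, hcard⟩ := hxcyc (by omega)
      exact key (alternatingGroup_le_of_isPreprimitive_of_isThreeCycle_mem hG
        (card_support_eq_three_iff.mp hcard) hxH)
  · obtain ⟨hc, hcard⟩ := hxcyc (by omega)
    exact key (eq_alternating_seven h hc hcard hy hxe hye hG)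
  · obtain ⟨hc, hcard⟩ := hxcyc (by omega)
    exact key (eq_alternating_thirteen h hc hcard hxH hHA hG)

end Cfsg.Agent.H76
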