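import Mathlib

/-!
The alternating group of degree n + 1 inside PSL_n via the sum-zero representation.
-/

set_option autoImplicit false

namespace Cfsg.Agent.H76

variable (n : ℕ) (F : Type*) [Field F]

/-- sum-zero extension of a vector. -/
noncomputable def szExt : (Fin n → F) →ₗ[F] (Fin (n + 1) → F) where
  toFun c := Fin.snoc c (-∑ i, c i)
  map_add' c d := by
    ext x
    induction x using Fin.lastCases with
    | last => simp [Finset.sum_add_distrib]; ring
    | cast i => simp
  map_smul' r c := by
    ext x
    induction x using Fin.lastCases with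
    | last => simp [Finset.mul_sum]
    | cast i => simp

variable {n F}

theorem szExt_castSucc (c : Fin n → F) (i : Fin n) : szExt n F c i.castSucc = c i := by
  simp [szExt]

theorem sum_szExt (c : Fin n → F) : ∑ x, szExt n F c x = 0 := by
  rw [Fin.sum_univ_castSucc]
  simp [szExt]

theorem szExt_restrict {v : Fin (n + 1) → F} (hv : ∑ x, v x = 0) :
    szExt n F (fun i => v i.castSucc) = v := by
  ext x
  induction x using Fin.lastCases with
  | cast i => exact szExt_castSucc _ i
  | last =>
    rw [Fin.sum_univ_castSucc] at hv
    simp [szExt]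
    linear_combination -hv

variable (n F)

/-- the deleted permutation representation. -/
noncomputable def szRep : Equiv.Perm (Fin (n + 1)) →* Module.End F (Fin n → F) where
  toFun σ := (LinearMap.funLeft F F Fin.castSucc) ∘ₗ (LinearMap.funLeft F F ⇑σ⁻¹) ∘ₗ szExt n F
  map_one' := by
    refine LinearMap.ext fun c => funext fun i => ?_
    simp [LinearMap.funLeft_apply, szExt_castSucc]
  map_mul' σ τ := by
    refine LinearMap.ext fun c => funext fun i => ?_
    simp only [Module.End.mul_apply, LinearMap.comp_apply, LinearMap.funLeft_apply]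
    have h : szExt n F (LinearMap.funLeft F F Fin.castSucc (LinearMap.funLeft F F ⇑τ⁻¹ (szExt n F c))) =
        fun x => szExt n F c (τ⁻¹ x) :=
      szExt_restrict ((Equiv.sum_comp τ⁻¹ (szExt n F c)).trans (sum_szExt c))
    rw [h, mul_inv_rev]
    rfl

theorem szRep_injective (hn : 2 ≤ n) : Function.Injective (szRep n F) := by
  classical
  rw [injective_iff_map_eq_one]
  intro σ hσ
  have hv : ∀ (i : Fin n) (x : Fin (n + 1)),
      szExt n F (Pi.single i 1) (σ⁻¹ x) = szExt n F (Pi.single i 1) x := by
    intro i
    have hs : ∑ x, szExt n F (Pi.single i (1 : F)) (σ⁻¹ x) = 0 :=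
      (Equiv.sum_comp σ⁻¹ (szExt n F (Pi.single i 1))).trans (sum_szExt _)
    have h := szExt_restrict hs
    have h' : (fun j : Fin n => szExt n F (Pi.single i (1 : F)) (σ⁻¹ j.castSucc)) = Pi.single i 1 :=
      LinearMap.congr_fun hσ (Pi.single i 1)
    intro x
    rw [← congrFun h x, h']
  have supp : ∀ (i : Fin n) (x : Fin (n + 1)), szExt n F (Pi.single i 1) x ≠ 0 →
      x = i.castSucc ∨ x = Fin.last n := by
    intro i x
    induction x using Fin.lastCases with
    | last => simp
    | cast j =>
      intro h
      rw [szExt_castSucc] at h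
      left
      by_contra hne
      exact h (Pi.single_eq_of_ne (fun e => hne (by rw [e])) _)
  have hlastv : ∀ i : Fin n, szExt n F (Pi.single i (1 : F)) (Fin.last n) ≠ 0 := by
    intro i; simp [szExt]
  have hlast : σ⁻¹ (Fin.last n) = Fin.last n := by
    have h0 := supp ⟨0, by omega⟩ _ (by rw [hv]; exact hlastv _)
    have h1 := supp ⟨1, by omega⟩ _ (by rw [hv]; exact hlastv _)
    rcases h0 with h0 | h0
    · rcases h1 with h1 | h1
      · rw [h0] at h1; simp [Fin.ext_iff] at h1
      · exact h1
    · exact h0
  refine inv_eq_one.mp (Equiv.ext fun x => ?_)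
  induction x using Fin.lastCases with
  | last => simpa using hlast
  | cast i =>
    rcases supp i (σ⁻¹ i.castSucc) (by rw [hv, szExt_castSucc]; simp) with h | h
    · simpa using h
    · exact absurd (σ⁻¹.injective (h.trans hlast.symm)) (Fin.castSucc_lt_last i).ne

end Cfsg.Agent.H76
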