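import Mathlib

/-!
`k_π(G) ≤ k_π(N) k_π(G/N)` for every set of primes `π`.
-/

set_option autoImplicit false

namespace Cfsg.Agent.H76

/-- Every prime divisor of the order lies in `π`. -/
def IsPiEl {G : Type*} [Monoid G] (π : Set ℕ) (g : G) : Prop :=
  ∀ q : ℕ, q.Prime → q ∣ orderOf g → q ∈ π

theorem isPiEl_map {G H : Type*} [Monoid G] [Monoid H] {π : Set ℕ} {g : G} (h : IsPiEl π g)
    (f : G →* H) : IsPiEl π (f g) :=
  fun q hq hd => h q hq (hd.trans (orderOf_map_dvd f g))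

variable {G : Type*} [Group G]

theorem isPiEl_conj {π : Set ℕ} {g : G} (h : IsPiEl π g) (x : G) : IsPiEl π (x * g * x⁻¹) :=
  isPiEl_map h (MulAut.conj x).toMonoidHom

theorem conjClass_pi_iff {π : Set ℕ} (g : G) :
    (∀ q : ℕ, q.Prime → (∃ u : G, ConjClasses.mk u = ConjClasses.mk g ∧ q ∣ orderOf u) → q ∈ π) ↔
      IsPiEl π g := by
  refine ⟨fun h q hq hd => h q hq ⟨g, rfl, hd⟩, ?_⟩
  rintro h q hq ⟨u, hu, hd⟩
  obtain ⟨c, hc⟩ := isConj_iff.mp (ConjClasses.mk_eq_mk_iff_isConj.mp hu)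
  refine h q hq ?_
  rw [← hc, show c * u * c⁻¹ = (MulAut.conj c).toMonoidHom u from rfl,
    orderOf_injective _ (MulAut.conj c).injective]
  exact hd

variable [Finite G]

/-- An exponent projecting every element on its `π`-part. -/
theorem exists_pi_exponent (G : Type*) [Group G] [Finite G] (π : Set ℕ) :
    ∃ k : ℤ, ∀ h : G, IsPiEl π (h ^ k) ∧
      ∀ u b : G, IsPiEl π u → IsPiEl πᶜ b → Commute u b → (u * b) ^ k = u ∧
        IsPiEl πᶜ (h ^ (1 - k)) := by
  classical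
  set n := Nat.card G with hn
  set A := ∏ q ∈ n.primeFactors.filter (· ∈ π), q ^ n.factorization q with hA
  set B := ∏ q ∈ n.primeFactors.filter (· ∉ π), q ^ n.factorization q with hB
  have hn0 : n ≠ 0 := Nat.card_pos.ne'
  have hAB : A * B = n := by
    rw [hA, hB, Finset.prod_filter_mul_prod_filter_not]
    exact Nat.prod_factorization_pow_eq_self hn0
  have hmemA : ∀ q : ℕ, q.Prime → q ∣ A → q ∈ π := by
    intro q hq hd
    obtain ⟨i, hi, hdi⟩ := hq.prime.exists_mem_finset_dvd hd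
    rw [Finset.mem_filter] at hi
    rw [(Nat.prime_dvd_prime_iff_eq hq (Nat.prime_of_mem_primeFactors hi.1)).mp
      (hq.dvd_of_dvd_pow hdi)]
    exact hi.2
  have hmemB : ∀ q : ℕ, q.Prime → q ∣ B → q ∈ πᶜ := by
    intro q hq hd
    obtain ⟨i, hi, hdi⟩ := hq.prime.exists_mem_finset_dvd hd
    rw [Finset.mem_filter] at hi
    rw [(Nat.prime_dvd_prime_iff_eq hq (Nat.prime_of_mem_primeFactors hi.1)).mp
      (hq.dvd_of_dvd_pow hdi)]
    exact hi.2
  have hco : A.Coprime B := Nat.coprime_of_dvd fun q hq h1 h2 => hmemB q hq h2 (hmemA q hq h1)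
  obtain ⟨r, s, hrs⟩ := Nat.isCoprime_iff_coprime.mpr hco
  have hpiA : ∀ u : G, IsPiEl π u → u ^ A = 1 := by
    intro u hu
    refine orderOf_dvd_iff_pow_eq_one.mp ((Nat.Coprime.dvd_of_dvd_mul_right ?_) (hAB.symm ▸ hn.symm ▸ orderOf_dvd_natCard u))
    exact Nat.coprime_of_dvd fun q hq h1 h2 => hmemB q hq h2 (hu q hq h1)
  have hpiB : ∀ b : G, IsPiEl πᶜ b → b ^ B = 1 := by
    intro b hb
    refine orderOf_dvd_iff_pow_eq_one.mp ((Nat.Coprime.dvd_of_dvd_mul_left ?_) (hAB.symm ▸ hn.symm ▸ orderOf_dvd_natCard b))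
    exact Nat.coprime_of_dvd fun q hq h1 h2 => hb q hq h1 (hmemA q hq h2)
  have hu0 : ∀ h : G, h ^ ((n : ℤ)) = 1 := fun h => by rw [zpow_natCast, hn, pow_card_eq_one']
  refine ⟨(B : ℤ) * s, fun h => ⟨?_, fun u b hu hb hc => ⟨?_, ?_⟩⟩⟩
  · intro q hq hd
    refine hmemA q hq (hd.trans (orderOf_dvd_of_pow_eq_one ?_))
    rw [← zpow_natCast, ← zpow_mul, mul_right_comm, ← Nat.cast_mul, mul_comm B A, hAB, zpow_mul,
      hu0, one_zpow]
  · rw [hc.mul_zpow, show (B : ℤ) * s = 1 + (A : ℤ) * (-r) by linarith, zpow_add, zpow_one,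
      zpow_mul, zpow_natCast, hpiA u hu, one_zpow, mul_one,
      show (1 : ℤ) + (A : ℤ) * (-r) = (B : ℤ) * s by linarith, zpow_mul, zpow_natCast, hpiB b hb,
      one_zpow, mul_one]
  · intro q hq hd
    refine hmemB q hq (hd.trans (orderOf_dvd_of_pow_eq_one ?_))
    rw [← zpow_natCast, ← zpow_mul, show ((1 : ℤ) - (B : ℤ) * s) * (B : ℤ) = (A : ℤ) * (B : ℤ) * r by
      linear_combination (-(B : ℤ)) * hrs, ← Nat.cast_mul, hAB, zpow_mul, hu0, one_zpow]

/-- Commuting pairs over a coset are bounded by the classes of `π`-elements of `N`. -/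
theorem card_pairs_le (N : Subgroup G) [N.Normal] (π : Set ℕ) (g : G) :
    Nat.card {p : G × N // IsPiEl π p.1 ∧ g⁻¹ * p.1 ∈ N ∧ Commute p.1 (p.2 : G)} ≤
      Nat.card {C : ConjClasses N // ∀ q : ℕ, q.Prime →
        (∃ u : N, ConjClasses.mk u = C ∧ q ∣ orderOf u) → q ∈ π} * Nat.card N := by
  classical
  obtain ⟨k, hk⟩ := exists_pi_exponent G π
  -- first injection
  let P := {p : G × N // IsPiEl π p.1 ∧ g⁻¹ * p.1 ∈ N ∧ Commute p.1 (p.2 : G)}
  let Q := {p : N × G // IsPiEl π (p.1 : G) ∧ g⁻¹ * p.2 ∈ N ∧ Commute (p.1 : G) p.2}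
  let R := {p : N × N // IsPiEl π (p.1 : G) ∧ Commute (p.1 : G) (p.2 : G)}
  have h1 : Nat.card P ≤ Nat.card Q := by
    let f : P → Q := fun p => ⟨(p.1.2 ^ k, p.1.1 * ((p.1.2 ^ (1 - k) : N) : G)), by
      obtain ⟨⟨u, n⟩, hu, hg, hc⟩ := p
      refine ⟨by rw [Subgroup.coe_zpow]; exact (hk _).1, ?_, ?_⟩
      · show g⁻¹ * (u * ((n ^ (1 - k) : N) : G)) ∈ N
        rw [← mul_assoc]
        exact mul_mem hg (Subtype.mem _)
      · show Commute ((n ^ k : N) : G) (u * ((n ^ (1 - k) : N) : G))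
        rw [Subgroup.coe_zpow, Subgroup.coe_zpow]
        exact (hc.symm.zpow_left k).mul_right ((Commute.refl (n : G)).zpow_zpow k (1 - k))⟩
    refine Nat.card_le_card_of_injective f fun p p' h => ?_
    obtain ⟨⟨u, n⟩, hu, hg, hc⟩ := p
    obtain ⟨⟨u', n'⟩, hu', hg', hc'⟩ := p'
    obtain ⟨ha, hz⟩ := Prod.ext_iff.mp (congrArg Subtype.val h)
    have hz' : u * ((n : G) ^ (1 - k)) = u' * ((n' : G) ^ (1 - k)) := by
      simpa only [f, Subgroup.coe_zpow] using hz
    have hb : ∀ v : G, IsPiEl πᶜ (v ^ (1 - k)) := fun v =>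
      ((hk v).2 1 1 (fun q hq hd => absurd (orderOf_one (G := G) ▸ hd) hq.not_dvd_one)
        (fun q hq hd => absurd (orderOf_one (G := G) ▸ hd) hq.not_dvd_one) (Commute.one_left 1)).2
    have e1 := ((hk 1).2 u _ hu (hb n) (hc.zpow_right _)).1
    have e2 := ((hk 1).2 u' _ hu' (hb n') (hc'.zpow_right _)).1
    have huu : u = u' := by rw [← e1, hz', e2]
    subst huu
    have hnn : n = n' := by
      apply Subtype.ext
      have ha' : (n : G) ^ k = (n' : G) ^ k := by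
        simpa only [f, Subgroup.coe_zpow] using congrArg (fun v : N => (v : G)) ha
      calc (n : G) = (n : G) ^ k * (n : G) ^ (1 - k) := by rw [← zpow_add]; simp
        _ = (n' : G) ^ k * (n' : G) ^ (1 - k) := by rw [ha', mul_left_cancel hz']
        _ = n' := by rw [← zpow_add]; simp
    subst hnn
    rfl
  -- fibres over the π-element
  have h2 : Nat.card Q ≤ Nat.card R := by
    let z0 : Q → G := fun p => Classical.epsilon fun z : G => g⁻¹ * z ∈ N ∧ Commute (p.1.1 : G) z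
    have hz0 : ∀ p : Q, g⁻¹ * z0 p ∈ N ∧ Commute (p.1.1 : G) (z0 p) := fun p =>
      Classical.epsilon_spec (p := fun z : G => g⁻¹ * z ∈ N ∧ Commute (p.1.1 : G) z)
        ⟨p.1.2, p.2.2.1, p.2.2.2⟩
    have hmem : ∀ p : Q, (z0 p)⁻¹ * p.1.2 ∈ N := fun p => by
      have := mul_mem (inv_mem (hz0 p).1) p.2.2.1
      simpa [mul_assoc] using this
    let f : Q → R := fun p => ⟨(p.1.1, ⟨_, hmem p⟩), p.2.1,
      ((hz0 p).2.inv_right).mul_right p.2.2.2⟩
    refine Nat.card_le_card_of_injective f fun p p' h => ?_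
    obtain ⟨ha, hz⟩ := Prod.ext_iff.mp (congrArg Subtype.val h)
    have ha' : p.1.1 = p'.1.1 := ha
    have he : z0 p = z0 p' := by simp only [z0, ha']
    have hz' : (z0 p)⁻¹ * p.1.2 = (z0 p')⁻¹ * p'.1.2 := congrArg Subtype.val hz
    rw [he] at hz'
    exact Subtype.ext (Prod.ext ha' (mul_left_cancel hz'))
  -- classes of π-elements of N
  have h3 : Nat.card R ≤ Nat.card ({C : ConjClasses N // ∀ q : ℕ, q.Prime →
      (∃ u : N, ConjClasses.mk u = C ∧ q ∣ orderOf u) → q ∈ π} × N) := by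
    have hrep : ∀ a : N, ∃ t : N, t * (ConjClasses.mk a).out * t⁻¹ = a := fun a =>
      isConj_iff.mp (ConjClasses.mk_eq_mk_iff_isConj.mp (Quotient.out_eq _))
    choose t ht using hrep
    let f : R → {C : ConjClasses N // ∀ q : ℕ, q.Prime →
        (∃ u : N, ConjClasses.mk u = C ∧ q ∣ orderOf u) → q ∈ π} × N := fun p =>
      (⟨ConjClasses.mk p.1.1, (conjClass_pi_iff _).mpr fun q hq hd =>
        p.2.1 q hq (by rwa [Subgroup.orderOf_coe])⟩, p.1.2 * t p.1.1)
    refine Nat.card_le_card_of_injective f fun p p' h => ?_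
    have hC : ConjClasses.mk p.1.1 = ConjClasses.mk p'.1.1 := congrArg (fun v => (v.1 : ConjClasses N)) h
    have hn : p.1.2 * t p.1.1 = p'.1.2 * t p'.1.1 := congrArg (fun v => v.2) h
    have key : ∀ q : R, (q.1.2 * t q.1.1) * (ConjClasses.mk q.1.1).out * (q.1.2 * t q.1.1)⁻¹ = q.1.1 := by
      intro q
      have hc : q.1.1 * q.1.2 = q.1.2 * q.1.1 := Subtype.ext q.2.2
      calc (q.1.2 * t q.1.1) * (ConjClasses.mk q.1.1).out * (q.1.2 * t q.1.1)⁻¹
          = q.1.2 * (t q.1.1 * (ConjClasses.mk q.1.1).out * (t q.1.1)⁻¹) * q.1.2⁻¹ := by group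
        _ = q.1.1 := by rw [ht, ← hc]; group
    have ha : p.1.1 = p'.1.1 := by rw [← key p, ← key p', hn, hC]
    refine Subtype.ext (Prod.ext ha ?_)
    rw [ha] at hn
    exact mul_right_cancel hn
  rw [Nat.card_prod] at h3
  exact (h1.trans h2).trans h3

/-- `k_π(G) ≤ k_π(N) k_π(G/N)`. -/
theorem card_piClasses_le (N : Subgroup G) [N.Normal] (π : Set ℕ) :
    Nat.card {C : ConjClasses G // ∀ q : ℕ, q.Prime →
        (∃ g : G, ConjClasses.mk g = C ∧ q ∣ orderOf g) → q ∈ π} ≤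
      Nat.card {C : ConjClasses N // ∀ q : ℕ, q.Prime →
          (∃ g : N, ConjClasses.mk g = C ∧ q ∣ orderOf g) → q ∈ π} *
        Nat.card {C : ConjClasses (G ⧸ N) // ∀ q : ℕ, q.Prime →
          (∃ g : (G ⧸ N), ConjClasses.mk g = C ∧ q ∣ orderOf g) → q ∈ π} := by
  classical
  set A := {C : ConjClasses G // ∀ q : ℕ, q.Prime →
    (∃ g : G, ConjClasses.mk g = C ∧ q ∣ orderOf g) → q ∈ π}
  set D := {C : ConjClasses (G ⧸ N) // ∀ q : ℕ, q.Prime →
    (∃ g : (G ⧸ N), ConjClasses.mk g = C ∧ q ∣ orderOf g) → q ∈ π}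
  have hout : ∀ C : A, IsPiEl π C.1.out := fun C => by
    rw [← conjClass_pi_iff]
    have := C.2
    rwa [← show ConjClasses.mk C.1.out = C.1 from Quotient.out_eq _] at this
  let Φ : A → D := fun C => ⟨ConjClasses.mk (C.1.out : G ⧸ N), (conjClass_pi_iff _).mpr
    (isPiEl_map (hout C) (QuotientGroup.mk' N))⟩
  have hfib : ∀ d : D, Nat.card {C : A // Φ C = d} ≤
      Nat.card {C : ConjClasses N // ∀ q : ℕ, q.Prime →
          (∃ g : N, ConjClasses.mk g = C ∧ q ∣ orderOf g) → q ∈ π} := by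
    intro d
    obtain ⟨g, hg⟩ := QuotientGroup.mk_surjective (d.1.out)
    -- representatives inside the coset of `g`
    have hrep : ∀ C : {C : A // Φ C = d}, ∃ u : G, IsPiEl π u ∧ g⁻¹ * u ∈ N ∧
        ConjClasses.mk u = C.1.1 := by
      rintro ⟨C, hC⟩
      have h1 : ConjClasses.mk (C.1.out : G ⧸ N) = ConjClasses.mk d.1.out :=
        (congrArg Subtype.val hC).trans (Quotient.out_eq _).symm
      obtain ⟨c, hc⟩ := isConj_iff.mp (ConjClasses.mk_eq_mk_iff_isConj.mp h1)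
      obtain ⟨c, rfl⟩ := QuotientGroup.mk_surjective c
      refine ⟨c * C.1.out * c⁻¹, isPiEl_conj (hout C) c, ?_, ?_⟩
      · rw [← QuotientGroup.eq, hg, ← hc]
        simp
      · refine Eq.trans ?_ (Quotient.out_eq C.1)
        exact ConjClasses.mk_eq_mk_iff_isConj.mpr (isConj_comm.mp (isConj_iff.mpr ⟨c, rfl⟩))
    choose u hu hug huC using hrep
    -- the conjugating elements
    have hmem : ∀ (C : {C : A // Φ C = d}) (n : N), g⁻¹ * ((n : G) * u C * (n : G)⁻¹) ∈ N := by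
      intro C n
      have h1 : (u C)⁻¹ * ((n : G) * u C * (n : G)⁻¹) ∈ N := by
        rw [show (u C)⁻¹ * ((n : G) * u C * (n : G)⁻¹) = ((u C)⁻¹ * n * (u C)⁻¹⁻¹) * (n : G)⁻¹ by group]
        exact mul_mem (Subgroup.Normal.conj_mem ‹_› _ n.2 _) (inv_mem n.2)
      have := mul_mem (hug C) h1
      rwa [show g⁻¹ * u C * ((u C)⁻¹ * ((n : G) * u C * (n : G)⁻¹)) =
        g⁻¹ * ((n : G) * u C * (n : G)⁻¹) by group] at this
    let t : {C : A // Φ C = d} → G → N := fun C v =>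
      Classical.epsilon fun m : N => (m : G) * u C * (m : G)⁻¹ = v
    have htspec : ∀ (C : {C : A // Φ C = d}) (n : N),
        ((t C ((n : G) * u C * (n : G)⁻¹) : N) : G) * u C *
          ((t C ((n : G) * u C * (n : G)⁻¹) : N) : G)⁻¹ = (n : G) * u C * (n : G)⁻¹ := fun C n =>
      Classical.epsilon_spec (p := fun m : N => (m : G) * u C * (m : G)⁻¹ =
        (n : G) * u C * (n : G)⁻¹) ⟨n, rfl⟩
    let f : {C : A // Φ C = d} × N →
        {p : G × N // IsPiEl π p.1 ∧ g⁻¹ * p.1 ∈ N ∧ Commute p.1 (p.2 : G)} := fun p =>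
      ⟨((p.2 : G) * u p.1 * (p.2 : G)⁻¹, p.2 * (t p.1 ((p.2 : G) * u p.1 * (p.2 : G)⁻¹))⁻¹),
        isPiEl_conj (hu p.1) _, hmem p.1 p.2, by
        have h := htspec p.1 p.2
        set m : N := t p.1 ((p.2 : G) * u p.1 * (p.2 : G)⁻¹)
        show (p.2 : G) * u p.1 * (p.2 : G)⁻¹ * ((p.2 * m⁻¹ : N) : G) =
          ((p.2 * m⁻¹ : N) : G) * ((p.2 : G) * u p.1 * (p.2 : G)⁻¹)
        rw [Subgroup.coe_mul, Subgroup.coe_inv]
        conv_rhs => rw [← h]
        group⟩
    have hinj : Function.Injective f := by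
      rintro ⟨C, n⟩ ⟨C', n'⟩ h
      obtain ⟨h1, h2⟩ := Prod.ext_iff.mp (congrArg Subtype.val h)
      have hCC : C = C' := by
        apply Subtype.ext; apply Subtype.ext
        rw [← huC C, ← huC C']
        have e1 : ConjClasses.mk (u C) = ConjClasses.mk ((n : G) * u C * (n : G)⁻¹) :=
          ConjClasses.mk_eq_mk_iff_isConj.mpr (isConj_iff.mpr ⟨n, rfl⟩)
        have e2 : ConjClasses.mk (u C') = ConjClasses.mk ((n' : G) * u C' * (n' : G)⁻¹) :=
          ConjClasses.mk_eq_mk_iff_isConj.mpr (isConj_iff.mpr ⟨n', rfl⟩)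
        exact e1.trans ((congrArg ConjClasses.mk h1).trans e2.symm)
      subst hCC
      simp only [f] at h1 h2
      rw [h1] at h2
      exact Prod.ext rfl (mul_right_cancel h2)
    have h := (Nat.card_le_card_of_injective f hinj).trans (card_pairs_le N π g)
    rw [Nat.card_prod] at h
    exact Nat.le_of_mul_le_mul_right h Nat.card_pos
  have : Fintype D := Fintype.ofFinite D
  rw [← Nat.card_congr (Equiv.sigmaFiberEquiv Φ), Nat.card_sigma, mul_comm,
    Nat.card_eq_fintype_card (α := D), ← smul_eq_mul]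
  exact Finset.sum_le_card_nsmul _ _ _ fun d _ => hfib d

end Cfsg.Agent.H76
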