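import Cfsg.Agent.H76.PiHallNilpotent

/-!
The number of `π`-classes against the class number of a nilpotent Hall `π`-subgroup, in the form
used by the statements.
-/

set_option autoImplicit false

namespace Cfsg.Agent.H76

open Subgroup

universe u

theorem piClasses_le_kcard {G : Type u} [Group G] [Finite G] {s : Finset ℕ}
    (hs : ∀ q ∈ s, q.Prime) {H : Subgroup G} (hH : Group.IsNilpotent H)
    (hHc : Nat.card H = sPart s G) :
    Nat.card (H75.PiClass s G) ≤ Nat.card (ConjClasses H) := by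
  haveI : Finite (ConjClasses H) := Finite.of_surjective _ ConjClasses.mk_surjective
  have key : ∀ C : H75.PiClass s G, ∃ x : H, ConjClasses.mk (x : G) = C.1 := by
    rintro ⟨C, hC⟩
    obtain ⟨g, rfl⟩ := C.exists_rep
    obtain ⟨c, -, hc⟩ := exists_conj_into (C := ⊤) hH (coprime_index_of_card_eq_sPart hs hHc)
      (isNilpotent_zpowers g) le_top le_top (primes_zpowers_dvd hs hHc (hC g rfl))
    exact ⟨⟨_, hc g (mem_zpowers g)⟩, mk_conj c g⟩
  choose x hx using key
  refine Nat.card_le_card_of_injective (fun C => ConjClasses.mk (x C)) fun C C' he => ?_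
  obtain ⟨a, ha⟩ := isConj_iff.mp (ConjClasses.mk_eq_mk_iff_isConj.mp he)
  refine Subtype.ext ?_
  rw [← hx C, ← hx C']
  refine ConjClasses.mk_eq_mk_iff_isConj.mpr (isConj_iff.mpr ⟨a, ?_⟩)
  exact congrArg Subtype.val ha

/-- The hypotheses of the statements, translated. -/
theorem pi_setup {G : Type u} [Group G] [Finite G] (π : Set ℕ) (hπ : ∀ q ∈ π, q.Prime)
    (m : ℕ) (hm : m ∣ Nat.card G) (hmπ : ∀ q : ℕ, q.Prime → q ∣ m → q ∈ π)
    (hm' : ∀ q ∈ π, ¬ q ∣ Nat.card G / m) :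
    ∃ s : Finset ℕ, (∀ q ∈ s, q.Prime) ∧ (∀ q ∈ s, q ∈ π) ∧ sPart s G = m ∧
      Nat.card {C : ConjClasses G // ∀ q : ℕ, q.Prime →
        (∃ g : G, ConjClasses.mk g = C ∧ q ∣ orderOf g) → q ∈ π} =
      Nat.card (H75.PiClass s G) := by
  classical
  set s := (Nat.card G).primeFactors.filter (· ∈ π) with hs
  have hm0 : m ≠ 0 := fun h => Nat.card_pos.ne' (Nat.eq_zero_of_zero_dvd (h ▸ hm))
  have hd0 : Nat.card G / m ≠ 0 := (Nat.div_ne_zero_iff_of_dvd hm).2 ⟨Nat.card_pos.ne', hm0⟩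
  refine ⟨s, fun q hq => Nat.prime_of_mem_primeFactors (Finset.mem_filter.1 hq).1,
    fun q hq => (Finset.mem_filter.1 hq).2, ?_, ?_⟩
  · have hfac : ∀ q ∈ s, (Nat.card G).factorization q = m.factorization q := by
      intro q hq
      conv_lhs => rw [← Nat.mul_div_cancel' hm]
      rw [Nat.factorization_mul hm0 hd0, Finsupp.add_apply,
        Nat.factorization_eq_zero_of_not_dvd (hm' q (Finset.mem_filter.1 hq).2), add_zero]
    rw [sPart, Finset.prod_congr rfl fun q hq => by rw [hfac q hq]]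
    refine (Finset.prod_subset (fun q hq => ?_) (fun q hq hn => ?_)).symm.trans
      (Nat.prod_factorization_pow_eq_self hm0)
    · rw [Finsupp.mem_support_iff] at hq
      have hqp : q.Prime := by
        by_contra h; exact hq (Nat.factorization_eq_zero_of_not_prime _ h)
      have hqm : q ∣ m := Nat.dvd_of_factorization_pos hq
      exact Finset.mem_filter.2 ⟨hqp.mem_primeFactors (hqm.trans hm) Nat.card_pos.ne', hmπ q hqp hqm⟩
    · rw [Finsupp.notMem_support_iff.mp hn, pow_zero]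
  · refine Nat.card_congr (Equiv.subtypeEquivRight fun C => ?_)
    constructor
    · intro h g hg q hq
      have hqp := Nat.prime_of_mem_primeFactors hq
      have hqd := Nat.dvd_of_mem_primeFactors hq
      exact Finset.mem_filter.2 ⟨hqp.mem_primeFactors (hqd.trans (orderOf_dvd_natCard g))
        Nat.card_pos.ne', h q hqp ⟨g, hg, hqd⟩⟩
    · rintro h q hq ⟨g, hg, hqd⟩
      exact (Finset.mem_filter.1 (h g hg (hq.mem_primeFactors hqd (orderOf_pos g).ne'))).2

theorem exists_hall_of_many {G : Type u} [Group G] [Finite G] (π : Set ℕ)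
    (hπ : ∀ q ∈ π, q.Prime) (p : ℕ) (hp : p ∈ π) (hmin : ∀ q ∈ π, p ≤ q) (m : ℕ)
    (hm : m ∣ Nat.card G) (hmπ : ∀ q : ℕ, q.Prime → q ∣ m → q ∈ π)
    (hm' : ∀ q ∈ π, ¬ q ∣ Nat.card G / m) (k : ℕ)
    (hk : k = Nat.card {C : ConjClasses G // ∀ q : ℕ, q.Prime →
      (∃ g : G, ConjClasses.mk g = C ∧ q ∣ orderOf g) → q ∈ π})
    (hmany : m < p * k) :
    ∃ H : Subgroup G, Nat.card H = m ∧ Group.IsNilpotent H ∧ k ≤ Nat.card (ConjClasses H) ∧
      ∀ q : ℕ, q.Prime → q ∣ Nat.card H → p ≤ q := by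
  obtain ⟨s, hs, hsπ, hsm, hsk⟩ := pi_setup π hπ m hm hmπ hm'
  rw [hsk] at hk
  obtain ⟨H, hH, hHc⟩ := exists_nilpotent_hall s hs p (hπ p hp).two_le
    (fun q hq => hmin q (hsπ q hq)) G (by rw [hsm, ← hk]; exact hmany)
  refine ⟨H, hHc.trans hsm, hH, hk ▸ piClasses_le_kcard hs hH hHc, fun q hq hd => ?_⟩
  rw [hHc, hsm] at hd
  exact hmin q (hmπ q hq hd)

end Cfsg.Agent.H76
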