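import Cfsg.Agent.H76.ClassBoundLemmas
import Cfsg.Agent.Coprime.Action
import Cfsg.Agent.H25.Transfer
import Mathlib.GroupTheory.Transfer

/-!
If the number of classes of `π`-elements exceeds `|G|_π / p`, where `p ≤ q` for all `q ∈ π`, then
`G` has a nilpotent Hall `π`-subgroup.

Induction on `π = {r} ∪ σ` with `r` least: a nilpotent Hall `σ`-subgroup `H` exists, and if a Sylow
`r`-subgroup `R₀` of `C(H)` is not one of `G`, counting orbits on `R₀ × H` gives the bound
`|G|_π / r`.
-/

set_option autoImplicit false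

namespace Cfsg.Agent.H76

open Subgroup
open scoped Pointwise

universe u

/-- The `s`-part of `|G|`. -/
noncomputable def sPart (s : Finset ℕ) (G : Type u) [Group G] : ℕ :=
  ∏ q ∈ s, q ^ (Nat.card G).factorization q

variable {G : Type u} [Group G]

theorem prime_dvd_sPart {s : Finset ℕ} (hs : ∀ q ∈ s, q.Prime) {l : ℕ} (hl : l.Prime)
    (hd : l ∣ sPart s G) : l ∈ s := by
  obtain ⟨q, hq, hlq⟩ := hl.prime.exists_mem_finset_dvd hd
  rwa [(Nat.prime_dvd_prime_iff_eq hl (hs q hq)).mp (hl.dvd_of_dvd_pow hlq)]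

theorem sPart_pos {s : Finset ℕ} (hs : ∀ q ∈ s, q.Prime) : 0 < sPart s G :=
  Finset.prod_pos fun q hq => pow_pos (hs q hq).pos _

theorem pow_dvd_sPart {s : Finset ℕ} {q : ℕ} (hq : q ∈ s) :
    q ^ (Nat.card G).factorization q ∣ sPart s G :=
  Finset.dvd_prod_of_mem _ hq

theorem primeFactors_conj (c g : G) :
    (orderOf (c * g * c⁻¹)).primeFactors = (orderOf g).primeFactors := by
  rw [show orderOf (c * g * c⁻¹) = orderOf g from (MulAut.conj c).orderOf_eq g]

theorem mk_conj (c g : G) : ConjClasses.mk (c * g * c⁻¹) = ConjClasses.mk g :=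
  ConjClasses.mk_eq_mk_iff_isConj.mpr (isConj_iff.mpr ⟨c, rfl⟩).symm

open scoped IsMulCommutative in
theorem isNilpotent_zpowers (g : G) : Group.IsNilpotent (zpowers g) := by
  infer_instance

variable [Finite G]

theorem coprime_index_of_card_eq_sPart {s : Finset ℕ} (hs : ∀ q ∈ s, q.Prime) {H : Subgroup G}
    (hH : Nat.card H = sPart s G) : (Nat.card H).Coprime H.index := by
  refine Nat.coprime_of_dvd fun l hl h1 h2 => ?_
  have h3 : l ^ ((Nat.card G).factorization l + 1) ∣ Nat.card G := by
    rw [pow_succ]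
    refine (mul_dvd_mul ?_ h2).trans (dvd_of_eq H.card_mul_index)
    rw [hH] at h1 ⊢
    exact pow_dvd_sPart (prime_dvd_sPart hs hl h1)
  have := (hl.pow_dvd_iff_le_factorization Nat.card_pos.ne').mp h3
  omega

theorem primes_zpowers_dvd {s : Finset ℕ} (hs : ∀ q ∈ s, q.Prime) {H : Subgroup G}
    (hH : Nat.card H = sPart s G) {v : G} (hv : (orderOf v).primeFactors ⊆ s) :
    ∀ q : ℕ, q.Prime → q ∣ Nat.card (zpowers v) → q ∣ Nat.card H := by
  intro q hq hd
  rw [Nat.card_zpowers] at hd
  have hqs := hv (hq.mem_primeFactors hd (orderOf_pos v).ne')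
  rw [hH]
  refine (dvd_pow_self q ?_).trans (pow_dvd_sPart hqs)
  exact (hq.factorization_pos_of_dvd Nat.card_pos.ne' (hd.trans (orderOf_dvd_natCard v))).ne'

theorem sPart_mono {s : Finset ℕ} (hs : ∀ q ∈ s, q.Prime) (C : Subgroup G) :
    sPart s C ≤ sPart s G :=
  Finset.prod_le_prod' fun q hq => Nat.pow_le_pow_right (hs q hq).pos
    ((Nat.factorization_le_iff_dvd Nat.card_pos.ne' Nat.card_pos.ne').2
      (card_subgroup_dvd_card C) q)

theorem sPart_mul_le {s : Finset ℕ} {e : ℕ} (hs : ∀ q ∈ s, q.Prime) (he : ∀ q ∈ s, e ≤ q)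
    (C : Subgroup G) (hne : sPart s C ≠ sPart s G) : sPart s C * e ≤ sPart s G := by
  obtain ⟨q, hq, hlt⟩ : ∃ q ∈ s, (Nat.card C).factorization q < (Nat.card G).factorization q := by
    by_contra hall
    push Not at hall
    refine hne (Finset.prod_congr rfl fun q hq => ?_)
    rw [le_antisymm ((Nat.factorization_le_iff_dvd Nat.card_pos.ne' Nat.card_pos.ne').2
      (card_subgroup_dvd_card C) q) (hall q hq)]
  unfold sPart
  rw [← Finset.mul_prod_erase s _ hq, ← Finset.mul_prod_erase s _ hq, mul_right_comm]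
  refine Nat.mul_le_mul ?_ (sPart_mono (fun l hl => hs l (Finset.mem_of_mem_erase hl)) C)
  calc q ^ (Nat.card C).factorization q * e ≤ q ^ (Nat.card C).factorization q * q :=
        Nat.mul_le_mul_left _ (he q hq)
    _ = q ^ ((Nat.card C).factorization q + 1) := (pow_succ _ _).symm
    _ ≤ q ^ (Nat.card G).factorization q := Nat.pow_le_pow_right (hs q hq).pos hlt

theorem primeFactors_zpowers_split {s : Finset ℕ} {r : ℕ} (hr : r.Prime) {g : G}
    (hg : (orderOf g).primeFactors ⊆ insert r s) :
    ∃ u v : G, Commute u v ∧ u * v = g ∧ (∃ k, orderOf u = r ^ k) ∧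
      (orderOf v).primeFactors ⊆ s ∧ v ∈ zpowers g ∧ u ∈ zpowers g ∧
      (orderOf v).Coprime r := by
  obtain ⟨u, v, hu, hv, huv, hk, hcop, -, hvd⟩ := H75.exists_split g hr
  refine ⟨u, v, ?_, huv, hk, fun q hq => ?_, hv, hu, hcop⟩
  · obtain ⟨i, rfl⟩ := mem_zpowers_iff.1 hu
    obtain ⟨j, rfl⟩ := mem_zpowers_iff.1 hv
    exact Commute.zpow_zpow_self g i j
  · rcases Finset.mem_insert.1 (hg (Nat.primeFactors_mono hvd (orderOf_pos g).ne' hq)) with rfl | h
    · exact absurd (Nat.dvd_gcd (Nat.dvd_of_mem_primeFactors hq) dvd_rfl)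
        (by rw [hcop.gcd_eq_one]; exact hr.not_dvd_one)
    · exact h

/-- The least-prime step of the induction. -/
theorem exists_nilpotent_hall_step {r : ℕ} {σ : Finset ℕ} (hr : r.Prime)
    (hσ : ∀ q ∈ σ, q.Prime) (hlt : ∀ q ∈ σ, r < q)
    (ih : ∀ p : ℕ, 2 ≤ p → (∀ q ∈ σ, p ≤ q) → ∀ (X : Type u) [Group X] [Finite X],
      sPart σ X < p * Nat.card (H75.PiClass σ X) →
      ∃ H : Subgroup X, Group.IsNilpotent H ∧ Nat.card H = sPart σ X)
    (h : sPart (insert r σ) G < r * Nat.card (H75.PiClass (insert r σ) G)) :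
    ∃ H : Subgroup G, Group.IsNilpotent H ∧ Nat.card H = sPart (insert r σ) G := by
  classical
  haveI := Fact.mk hr
  haveI : Finite (ConjClasses G) := Finite.of_surjective _ ConjClasses.mk_surjective
  have hrσ : r ∉ σ := fun hm => lt_irrefl r (hlt r hm)
  set M := sPart σ G with hM
  have hMs : sPart (insert r σ) G = r ^ (Nat.card G).factorization r * M :=
    Finset.prod_insert hrσ
  have hM0 : 0 < M := sPart_pos hσ
  have hσins : ∀ q ∈ σ, r + 1 ≤ q := hlt
  -- centralisers without a full nilpotent `σ`-part have few classes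
  have bad : ∀ w : G, (¬ ∃ L : Subgroup G, L ≤ centralizer ({w} : Set G) ∧ Group.IsNilpotent L ∧
      Nat.card L = M) →
      Nat.card (H75.PiClass σ (centralizer ({w} : Set G))) * (r + 1) ≤ M := by
    intro w hw
    set C := centralizer ({w} : Set G)
    by_cases he : sPart σ C = M
    · by_contra hcon
      obtain ⟨L, hL, hLc⟩ := ih (r + 1) (by linarith [hr.two_le]) hσins C
        (by rw [he, mul_comm]; omega)
      refine hw ⟨L.map C.subtype, map_subtype_le L,
        Group.nilpotent_of_mulEquiv (_h := hL) (L.equivMapOfInjective _ C.subtype_injective), ?_⟩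
      rw [card_map_of_injective C.subtype_injective, hLc, he]
    · exact (Nat.mul_le_mul_right _ (H75.card_piClass_le σ hσ C)).trans
        (sPart_mul_le hσ hσins C he)
  have crude : ∀ (b : Finset ℕ), (∀ q ∈ b, q.Prime) → ∀ w : G,
      Nat.card (H75.PiClass b (centralizer ({w} : Set G))) * 1 ≤ sPart b G := by
    intro b hb w
    rw [mul_one]
    exact (H75.card_piClass_le b hb _).trans (sPart_mono hb _)
  -- conjugating an `r`-element into a given Sylow subgroup
  have intoR : ∀ (R : Sylow r G) (u : G), (∃ k, orderOf u = r ^ k) →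
      ∃ c : G, c * u * c⁻¹ ∈ (R : Subgroup G) := by
    rintro R u ⟨k, hk⟩
    have hpg : IsPGroup r (zpowers u) := IsPGroup.of_card (n := k) (by rw [Nat.card_zpowers, hk])
    obtain ⟨Q, hQ⟩ := hpg.exists_le_sylow
    obtain ⟨a, ha⟩ := MulAction.exists_smul_eq G Q R
    exact ⟨a, ha ▸ Subgroup.smul_mem_pointwise_smul u (MulAut.conj a) _ (hQ (mem_zpowers u))⟩
  have splitC : ∀ C : H75.PiClass (insert r σ) G, ∃ u v : G, Commute u v ∧
      C.1 = ConjClasses.mk (u * v) ∧ (∃ k, orderOf u = r ^ k) ∧ (orderOf v).primeFactors ⊆ σ := by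
    rintro ⟨C, hC⟩
    obtain ⟨g, rfl⟩ := C.exists_rep
    obtain ⟨u, v, huv, hg, hu, hv, -⟩ := primeFactors_zpowers_split hr (hC g rfl)
    exact ⟨u, v, huv, by rw [hg], hu, hv⟩
  choose U V hUV hC hU hV using splitC
  set k := Nat.card (H75.PiClass (insert r σ) G) with hk
  -- a nilpotent Hall `σ`-subgroup
  obtain ⟨R₁⟩ := (inferInstance : Nonempty (Sylow r G))
  obtain ⟨H, hH, hHc⟩ : ∃ H : Subgroup G, Group.IsNilpotent H ∧ Nat.card H = M := by
    by_contra hno
    have hb := card_cover_le (s := insert r σ) (b := σ) Set.univ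
      (ConjClasses.mk '' ((R₁ : Subgroup G) : Set G)) (r + 1) M
      (fun C _ => by
        obtain ⟨c, hc⟩ := intoR R₁ _ (hU C)
        refine ⟨c * U C * c⁻¹, c * V C * c⁻¹, ⟨_, hc, rfl⟩, ?_, ?_, ?_⟩
        · rw [commute_iff_eq]
          calc c * U C * c⁻¹ * (c * V C * c⁻¹) = c * (U C * V C) * c⁻¹ := by group
            _ = c * (V C * U C) * c⁻¹ := by rw [(hUV C).eq]
            _ = _ := by group
        · rw [primeFactors_conj]; exact hV C
        · rw [show c * U C * c⁻¹ * (c * V C * c⁻¹) = c * (U C * V C) * c⁻¹ by group, mk_conj]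
          exact hC C)
      (fun w _ => bad w fun ⟨L, _, hL, hLc⟩ => hno ⟨L, hL, hLc⟩)
    have hT : Nat.card (ConjClasses.mk '' ((R₁ : Subgroup G) : Set G)) ≤
        r ^ (Nat.card G).factorization r := by
      rw [← R₁.card_eq_multiplicity, Nat.card_coe_set_eq]
      exact (Set.ncard_image_le (Set.toFinite _)).trans (le_of_eq (Nat.card_coe_set_eq _).symm)
    rw [Nat.card_univ, ← hk] at hb
    rw [hMs] at h
    nlinarith [Nat.mul_le_mul_right M hT]
  have hHall : (Nat.card H).Coprime H.index := coprime_index_of_card_eq_sPart hσ (hHc.trans hM)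
  have hrH : ¬ r ∣ Nat.card H := fun hd => hrσ (prime_dvd_sPart hσ hr (hM ▸ hHc ▸ hd))
  have hHprimes : ∀ l : ℕ, l.Prime → l ∣ Nat.card H → r + 1 ≤ l := fun l hl hd =>
    hσins l (prime_dvd_sPart hσ hl (hM ▸ hHc ▸ hd))
  -- a Sylow `r`-subgroup `R₀` of `C(H)`
  set C₀ := centralizer (H : Set G) with hC₀
  obtain ⟨P₀⟩ := (inferInstance : Nonempty (Sylow r C₀))
  set R₀ := (P₀ : Subgroup C₀).map C₀.subtype with hR₀
  have hR₀C : R₀ ≤ C₀ := map_subtype_le _
  have hR₀p : IsPGroup r R₀ := P₀.isPGroup'.map _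
  have hmax : ∀ W : Subgroup G, IsPGroup r W → R₀ ≤ W → W ≤ C₀ → W = R₀ := by
    intro W hW hle hWC
    have := P₀.is_maximal' (hW.comap_of_injective C₀.subtype C₀.subtype_injective)
      (fun x hx => hle (mem_map_of_mem _ hx))
    rw [hR₀, ← this]
    exact (map_subgroupOf_eq_of_le hWC).symm
  have hHR₀ : ∀ u ∈ R₀, ∀ x ∈ H, x * u = u * x := fun u hu x hx =>
    mem_centralizer_iff.mp (hR₀C hu) x hx
  obtain ⟨R, hR⟩ := hR₀p.exists_le_sylow
  set ρ := Nat.card R₀ with hρ
  have hρ0 : 0 < ρ := Nat.card_pos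
  have hRc : Nat.card (R : Subgroup G) = r ^ (Nat.card G).factorization r := R.card_eq_multiplicity
  by_cases hfull : R₀ = (R : Subgroup G)
  · -- `H × R` is a nilpotent Hall subgroup
    have hcomm : ∀ (a : H) (b : R₀), Commute (H.subtype a) (R₀.subtype b) :=
      fun a b => hHR₀ _ b.2 _ a.2
    set f := MonoidHom.noncommCoprod H.subtype R₀.subtype hcomm with hf
    have hfinj : Function.Injective f := by
      rw [injective_iff_map_eq_one]
      rintro ⟨a, b⟩ he
      rw [MonoidHom.noncommCoprod_apply] at he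
      have hab : (a : G) = (b : G)⁻¹ := eq_inv_of_mul_eq_one_left he
      have hbot : (a : G) ∈ H ⊓ R₀ := ⟨a.2, by rw [hab]; exact R₀.inv_mem b.2⟩
      rw [Subgroup.inf_eq_bot_of_coprime (H := H) (K := R₀) (by
        obtain ⟨j, hj⟩ := hR₀p.exists_card_eq
        rw [hj]
        exact Nat.Coprime.pow_right j ((hr.coprime_iff_not_dvd.mpr hrH).symm))] at hbot
      rw [mem_bot] at hbot
      rw [hbot, eq_comm, inv_eq_one] at hab
      exact Prod.ext (Subtype.ext hbot) (Subtype.ext hab)
    haveI := hH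
    haveI : Group.IsNilpotent R₀ := hR₀p.isNilpotent
    refine ⟨f.range, Group.nilpotent_of_surjective f.rangeRestrict
      f.rangeRestrict_surjective, ?_⟩
    rw [← Nat.card_congr (MonoidHom.ofInjective hfinj).toEquiv, Nat.card_prod, hMs, ← hRc, hHc,
      hfull, mul_comm]
  exfalso
  have hR₀lt : R₀ < (R : Subgroup G) := lt_of_le_of_ne hR hfull
  obtain ⟨j, hj⟩ : ∃ j, Nat.card (R : Subgroup G) = ρ * r ^ j := by
    obtain ⟨a, ha⟩ := R.isPGroup'.exists_card_eq
    obtain ⟨b, hb⟩ := hR₀p.exists_card_eq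
    have hd := card_dvd_of_le hR
    rw [ha, hb] at hd
    have := Nat.le_of_dvd (pow_pos hr.pos _) hd
    exact ⟨a - b, by rw [hρ, ha, hb, ← pow_add, Nat.add_sub_cancel'
      ((Nat.pow_le_pow_iff_right hr.one_lt).mp this)]⟩
  have hj0 : j ≠ 0 := by
    rintro rfl
    rw [pow_zero, mul_one] at hj
    exact hfull (eq_of_le_of_card_ge hR hj.le)
  -- good classes: `r`-part conjugate into `R₀`
  set good : Set (H75.PiClass (insert r σ) G) :=
    {C | ∃ u ∈ R₀, ConjClasses.mk u = ConjClasses.mk (U C)} with hgood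
  set badT : Set (ConjClasses G) :=
    {D | (∃ x ∈ (R : Subgroup G), x ∉ R₀ ∧ ConjClasses.mk x = D) ∧
      ¬ ∃ u ∈ R₀, ConjClasses.mk u = D} with hbadT
  have hbad : Nat.card (goodᶜ : Set _) * (r + 1) ≤ Nat.card badT * M := by
    refine card_cover_le _ _ _ _ (fun C hC' => ?_) (fun w hw => bad w ?_)
    · refine ⟨U C, V C, ?_, hUV C, hV C, hC C⟩
      obtain ⟨c, hc⟩ := intoR R _ (hU C)
      refine ⟨⟨_, hc, fun hc' => hC' ⟨_, hc', mk_conj c _⟩, mk_conj c _⟩, hC'⟩
    · rintro ⟨L, hLC, hL, hLc⟩
      obtain ⟨⟨x, hx, -, hxw⟩, hnot⟩ := hw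
      obtain ⟨c, -, hcL⟩ := exists_conj_into (C := ⊤) hH hHall hL le_top le_top
        (fun q _ hd => by rwa [hHc, ← hLc])
      have hu' : c * w * c⁻¹ ∈ C₀ := by
        have hmap : L.map (MulAut.conj c).toMonoidHom = H := by
          refine eq_of_le_of_card_ge ?_ ?_
          · rintro _ ⟨y, hy, rfl⟩; exact hcL y hy
          · rw [card_map_of_injective (MulAut.conj c).injective, hLc, hHc]
        rw [hC₀, mem_centralizer_iff]
        intro y hy
        rw [SetLike.mem_coe, ← hmap] at hy
        obtain ⟨l, hl, rfl⟩ := hy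
        show c * l * c⁻¹ * (c * w * c⁻¹) = c * w * c⁻¹ * (c * l * c⁻¹)
        have := mem_centralizer_singleton_iff.mp (hLC hl)
        calc c * l * c⁻¹ * (c * w * c⁻¹) = c * (l * w) * c⁻¹ := by group
          _ = c * (w * l) * c⁻¹ := by rw [this]
          _ = _ := by group
      obtain ⟨i, hi⟩ := R.isPGroup'.exists_card_eq
      have hord : IsPGroup r (zpowers (⟨_, hu'⟩ : C₀)) := by
        obtain ⟨a, ha⟩ := isConj_iff.mp (ConjClasses.mk_eq_mk_iff_isConj.mp hxw)
        obtain ⟨e, -, he⟩ := (Nat.dvd_prime_pow hr).mp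
          (hi ▸ (R : Subgroup G).orderOf_dvd_natCard hx)
        refine IsPGroup.of_card (n := e) ?_
        rw [Nat.card_zpowers, Subgroup.orderOf_mk, ← ha,
          show orderOf (c * (a * x * a⁻¹) * c⁻¹) = orderOf (a * x * a⁻¹) from
            (MulAut.conj c).orderOf_eq _,
          show orderOf (a * x * a⁻¹) = orderOf x from (MulAut.conj a).orderOf_eq _, he]
      obtain ⟨Q, hQ⟩ := hord.exists_le_sylow
      obtain ⟨a, ha⟩ := MulAction.exists_smul_eq C₀ Q P₀
      have : a * ⟨_, hu'⟩ * a⁻¹ ∈ (P₀ : Subgroup C₀) := by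
        rw [← ha]
        exact Subgroup.smul_mem_pointwise_smul _ (MulAut.conj a) _ (hQ (mem_zpowers _))
      refine hnot ⟨_, mem_map_of_mem C₀.subtype this, ?_⟩
      show ConjClasses.mk ((a : G) * (c * w * c⁻¹) * (a : G)⁻¹) = _
      rw [mk_conj, mk_conj]
  have hsplit : k ≤ Nat.card good + Nat.card (goodᶜ : Set _) := by
    rw [hk, ← Set.ncard_univ, Nat.card_coe_set_eq, Nat.card_coe_set_eq, ← Set.union_compl_self good]
    exact Set.ncard_union_le _ _
  set Xout := {x : (R : Subgroup G) // (x : G) ∉ R₀} with hXout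
  have hXcard : Nat.card Xout + ρ = Nat.card (R : Subgroup G) := by
    have e : Nat.card {x : (R : Subgroup G) // (x : G) ∈ R₀} = ρ :=
      Nat.card_congr (subgroupOfEquivOfLe hR).toEquiv
    rw [← e, add_comm, ← Nat.card_sum]
    exact Nat.card_congr (Equiv.sumCompl _)
  have hbadsub : badT ⊆ Set.range fun x : Xout => ConjClasses.mk ((x.1 : G)) := by
    rintro D ⟨⟨x, hx, hx0, rfl⟩, -⟩
    exact ⟨⟨⟨x, hx⟩, hx0⟩, rfl⟩
  have hbadT1 : Nat.card badT ≤ Nat.card Xout := by
    rw [Nat.card_coe_set_eq]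
    refine (Set.ncard_le_ncard hbadsub (Set.toFinite _)).trans ?_
    rw [← Nat.card_coe_set_eq]
    exact Finite.card_range_le _
  rw [hMs, ← hRc, hj] at h
  rcases Nat.lt_or_ge j 2 with hj2 | hj2
  swap
  · -- index at least `r²`
    have hg : Nat.card good * 1 ≤ Nat.card (ConjClasses.mk '' (R₀ : Set G)) * M :=
      card_cover_le _ _ _ _ (fun C hC' => by
        obtain ⟨u, hu, hue⟩ := hC'
        exact ⟨U C, V C, ⟨u, hu, hue⟩, hUV C, hV C, hC C⟩) (fun w _ => crude σ hσ w)
    have hT : Nat.card (ConjClasses.mk '' (R₀ : Set G)) ≤ ρ := by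
      rw [Nat.card_coe_set_eq]
      exact (Set.ncard_image_le (Set.toFinite _)).trans (le_of_eq (Nat.card_coe_set_eq _).symm)
    have hpow : r * r ≤ r ^ j := by
      rw [← pow_two]; exact Nat.pow_le_pow_right hr.pos hj2
    rw [hj] at hXcard
    have h1 : k * (r + 1) ≤ ρ * M * (r + 1) + Nat.card Xout * M := by
      calc k * (r + 1) ≤ (Nat.card good + Nat.card (goodᶜ : Set _)) * (r + 1) :=
            Nat.mul_le_mul_right _ hsplit
        _ = Nat.card good * 1 * (r + 1) + Nat.card (goodᶜ : Set _) * (r + 1) := by ring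
        _ ≤ ρ * M * (r + 1) + Nat.card badT * M :=
            Nat.add_le_add (Nat.mul_le_mul_right _ (hg.trans (Nat.mul_le_mul_right _ hT))) hbad
        _ ≤ _ := Nat.add_le_add_left (Nat.mul_le_mul_right _ hbadT1) _
    have h2 := Nat.mul_lt_mul_of_pos_right h (Nat.succ_pos r)
    have h3 := Nat.mul_le_mul_left r h1
    have h4 := Nat.mul_le_mul_left (ρ * M) hpow
    have h5 : Nat.card Xout * M + ρ * M = ρ * r ^ j * M := by rw [← add_mul, hXcard]
    nlinarith
  obtain rfl : j = 1 := by omega
  rw [pow_one] at hj h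
  -- `R₀` has index `r` in `R`
  have hR₀n : (R : Subgroup G) ≤ normalizer (R₀ : Set G) := by
    have hidx : (R₀.subgroupOf (R : Subgroup G)).index = r := by
      have := (R₀.subgroupOf (R : Subgroup G)).card_mul_index
      rw [Nat.card_congr (subgroupOfEquivOfLe hR).toEquiv, hj, ← hρ] at this
      exact Nat.eq_of_mul_eq_mul_left hρ0 this
    have : (R₀.subgroupOf (R : Subgroup G)).Normal := by
      refine normal_of_index_eq_minFac_card ?_
      obtain ⟨a, ha⟩ := R.isPGroup'.exists_card_eq
      have ha0 : a ≠ 0 := by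
        rintro rfl
        rw [pow_zero, hj] at ha
        exact hr.one_lt.ne' (Nat.eq_one_of_mul_eq_one_left ha)
      rw [hidx, ha, hr.pow_minFac ha0]
    exact normal_subgroupOf_iff_le_normalizer hR |>.mp this
  set D := normalizer (R₀ : Set G) with hD
  have hHD : H ≤ D := fun x hx => centralizer_le_normalizer _ (mem_centralizer_iff.mpr
    fun u hu => (hHR₀ u hu x hx).symm)
  -- Case T: an `r`-element of `N(R₀) ∩ N(H)` not centralising `H` finishes
  by_cases hT : ∃ t ∈ D, t ∈ normalizer (H : Set G) ∧ (∃ e, orderOf t = r ^ e) ∧ t ∉ C₀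
  · obtain ⟨t, htD, htH, ⟨e, hte⟩, htC⟩ := hT
    set S := H ⊓ centralizer ({t} : Set G) with hS
    have hSlt : Nat.card S * (r + 1) ≤ M := by
      obtain ⟨m, hm⟩ := card_dvd_of_le (show S ≤ H from inf_le_left)
      have hm1 : m ≠ 1 := by
        rintro rfl
        refine htC (mem_centralizer_iff.mpr fun x hx => ?_)
        have : S = H := eq_of_le_of_card_ge inf_le_left (by rw [hm, mul_one])
        rw [SetLike.mem_coe, ← this] at hx
        exact mem_centralizer_singleton_iff.mp hx.2
      obtain ⟨l, hl, hlm⟩ := Nat.exists_prime_and_dvd hm1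
      rw [← hHc, hm]
      refine Nat.mul_le_mul_left _ ((hHprimes l hl (hm ▸ hlm.mul_left _)).trans
        (Nat.le_of_dvd (Nat.pos_of_ne_zero ?_) hlm))
      rintro rfl
      rw [mul_zero] at hm
      exact Nat.card_pos.ne' hm
    let f : R₀ × H → ConjClasses G := fun x => ConjClasses.mk ((x.1 : G) * (x.2 : G))
    let F : Set (R₀ × H) := {x | (x.2 : G) ∈ S}
    have hrange := card_range_mul_le f F r hr.pos (by
      rintro ⟨u, x⟩ hx
      have hpow : ∀ i : ℕ, t ^ i ∈ D ∧ t ^ i ∈ normalizer (H : Set G) :=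
        fun i => ⟨pow_mem htD i, pow_mem htH i⟩
      let g : Fin r → {x' : R₀ × H // f x' = f (u, x)} := fun i =>
        ⟨(⟨t ^ (i : ℕ) * u * (t ^ (i : ℕ))⁻¹, (mem_normalizer_iff.mp (hpow i).1 _).mp u.2⟩,
          ⟨t ^ (i : ℕ) * x * (t ^ (i : ℕ))⁻¹, (mem_normalizer_iff.mp (hpow i).2 _).mp x.2⟩), by
          show ConjClasses.mk (t ^ (i : ℕ) * (u : G) * (t ^ (i : ℕ))⁻¹ *
              (t ^ (i : ℕ) * (x : G) * (t ^ (i : ℕ))⁻¹)) = ConjClasses.mk ((u : G) * x)
          rw [show t ^ (i : ℕ) * (u : G) * (t ^ (i : ℕ))⁻¹ *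
              (t ^ (i : ℕ) * (x : G) * (t ^ (i : ℕ))⁻¹) =
              t ^ (i : ℕ) * ((u : G) * x) * (t ^ (i : ℕ))⁻¹ by group, mk_conj]⟩
      have hginj : Function.Injective g := by
        intro a b hab
        have hab' : t ^ (a : ℕ) * (x : G) * (t ^ (a : ℕ))⁻¹ =
            t ^ (b : ℕ) * (x : G) * (t ^ (b : ℕ))⁻¹ :=
          congrArg (fun y => ((y.1.2 : H) : G)) hab
        by_contra hne
        have key : ∀ a b : ℕ, a < b → b < r → t ^ a * (x : G) * (t ^ a)⁻¹ =
            t ^ b * (x : G) * (t ^ b)⁻¹ → False := by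
          intro a b hlt hb he
          obtain ⟨d, rfl⟩ : ∃ d, b = a + d := ⟨b - a, by omega⟩
          rw [pow_add] at he
          have hc : Commute (x : G) (t ^ d) := by
            have : (x : G) = t ^ d * x * (t ^ d)⁻¹ := by
              calc (x : G) = (t ^ a)⁻¹ * (t ^ a * x * (t ^ a)⁻¹) * t ^ a := by group
                _ = (t ^ a)⁻¹ * (t ^ a * t ^ d * x * (t ^ a * t ^ d)⁻¹) * t ^ a := by rw [he]
                _ = _ := by group
            rw [commute_iff_eq]
            calc (x : G) * t ^ d = t ^ d * x * (t ^ d)⁻¹ * t ^ d := by rw [← this]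
              _ = t ^ d * x := by group
          have hcop : Nat.Coprime d (orderOf t) := by
            rw [hte]
            exact Nat.Coprime.pow_right e ((hr.coprime_iff_not_dvd.mpr
              (Nat.not_dvd_of_pos_of_lt (by omega) (by omega))).symm)
          obtain ⟨i, hi⟩ := exists_pow_eq_self_of_coprime hcop
          refine hx ⟨x.2, mem_centralizer_singleton_iff.mpr ?_⟩
          have := (hc.pow_right i).eq
          rwa [hi] at this
        rcases Nat.lt_or_gt_of_ne (fun h => hne (Fin.ext h)) with hl | hl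
        · exact key _ _ hl b.2 hab'
        · exact key _ _ hl a.2 hab'.symm
      simpa using Nat.card_le_card_of_injective g hginj)
    have hFc : Nat.card F = ρ * Nat.card S := by
      rw [hρ, ← Nat.card_prod]
      exact Nat.card_congr
        { toFun := fun x => (x.1.1, ⟨(x.1.2 : G), x.2⟩)
          invFun := fun x => ⟨(x.1, ⟨(x.2 : G), (x.2.2).1⟩), x.2.2⟩
          left_inv := fun _ => rfl
          right_inv := fun _ => rfl }
    rw [Nat.card_prod, ← hρ, hHc, hFc] at hrange
    have hg : Nat.card good * 1 ≤ Nat.card (Set.range f) * 1 := by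
      refine card_cover_le (b := ∅) _ _ _ _ (fun C hC' => ?_) (fun w _ => ?_)
      · obtain ⟨u, hu, hue⟩ := hC'
        obtain ⟨a, ha⟩ := isConj_iff.mp (ConjClasses.mk_eq_mk_iff_isConj.mp hue.symm)
        set v := a * V C * a⁻¹ with hv
        have huv : Commute u v := by
          rw [← ha, hv, commute_iff_eq]
          calc a * U C * a⁻¹ * (a * V C * a⁻¹) = a * (U C * V C) * a⁻¹ := by group
            _ = a * (V C * U C) * a⁻¹ := by rw [(hUV C).eq]
            _ = _ := by group
        obtain ⟨c, hc, hcv⟩ := exists_conj_into (C := centralizer ({u} : Set G)) hH hHall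
          (isNilpotent_zpowers v)
          (fun y hy => mem_centralizer_singleton_iff.mpr (hHR₀ u hu y hy))
          (zpowers_le.mpr (mem_centralizer_singleton_iff.mpr huv.eq.symm))
          (primes_zpowers_dvd hσ (hHc.trans hM) (by rw [hv, primeFactors_conj]; exact hV C))
        refine ⟨u * (c * v * c⁻¹), 1, ⟨(⟨u, hu⟩, ⟨_, hcv v (mem_zpowers v)⟩), rfl⟩,
          Commute.one_right _, by simp, ?_⟩
        rw [mul_one, hC C, show u * (c * v * c⁻¹) = c * (a * (U C * V C) * a⁻¹) * c⁻¹ by
          calc u * (c * v * c⁻¹) = (u * c) * v * c⁻¹ := by group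
            _ = c * u * v * c⁻¹ := by rw [(mem_centralizer_singleton_iff.mp hc).symm]
            _ = _ := by rw [hv, ← ha]; group, mk_conj, mk_conj]
      · rw [mul_one]
        exact H75.card_piClass_le ∅ (fun q hq => absurd hq (Finset.notMem_empty q)) _
    have h1 : r * ((r + 1) * k) ≤ r * ((r + 1) * (ρ * M)) := by
      have e1 : Nat.card good * r ≤ ρ * M + (r - 1) * (ρ * Nat.card S) := by
        calc Nat.card good * r ≤ Nat.card (Set.range f) * r :=
              Nat.mul_le_mul_right r (by simpa using hg)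
          _ ≤ _ := hrange
      have e2 : Nat.card (goodᶜ : Set _) * (r + 1) ≤ Nat.card Xout * M :=
        hbad.trans (Nat.mul_le_mul_right _ hbadT1)
      rw [hj] at hXcard
      obtain ⟨r', rfl⟩ : ∃ r', r = r' + 1 := ⟨r - 1, by have := hr.two_le; omega⟩
      rw [Nat.add_sub_cancel] at e1
      have e3 := Nat.mul_le_mul_left ((r' + 1) * (r' + 1 + 1)) hsplit
      have e4 := Nat.mul_le_mul_left (r' * ρ) hSlt
      have e5 := Nat.mul_le_mul_left (r' + 1 + 1) e1
      have e6 := Nat.mul_le_mul_left (r' + 1) e2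
      have e7 : Nat.card Xout = ρ * r' := by linarith
      rw [e7] at e6
      nlinarith
    have h2 := Nat.le_of_mul_le_mul_left (Nat.le_of_mul_le_mul_left h1 hr.pos) (Nat.succ_pos r)
    nlinarith
  push Not at hT
  -- (1) the classes outside `R₀` pair up
  have hπR : Nat.card ((((R : Subgroup G).subgroupOf D)).map
      (QuotientGroup.mk' (R₀.subgroupOf D))) = r := by
    have h1 := ((R : Subgroup G).subgroupOf D).card_mul_index
    have h2 := (R₀.subgroupOf D).card_mul_index
    set π := QuotientGroup.mk' (R₀.subgroupOf D)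
    have h3 := (((R : Subgroup G).subgroupOf D).map π).card_mul_index
    rw [index_map_eq _ (QuotientGroup.mk'_surjective _)
      (by rw [QuotientGroup.ker_mk']; exact fun x hx => hR hx), ← index_eq_card] at h3
    rw [Nat.card_congr (subgroupOfEquivOfLe hR₀n).toEquiv, hj] at h1
    rw [Nat.card_congr (subgroupOfEquivOfLe (le_normalizer : R₀ ≤ D)).toEquiv, ← hρ, ← h3,
      ← h1] at h2
    have h4 : 0 < ((R : Subgroup G).subgroupOf D).index :=
      Nat.pos_of_ne_zero index_ne_zero_of_finite
    refine Nat.eq_of_mul_eq_mul_right h4 (Nat.eq_of_mul_eq_mul_left hρ0 ?_)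
    rw [h2, mul_assoc]
  set π := QuotientGroup.mk' (R₀.subgroupOf D) with hπ
  set RD := (R : Subgroup G).subgroupOf D with hRD
  have hkerπ : π.ker ≤ RD := by rw [hπ, QuotientGroup.ker_mk']; exact fun x hx => hR hx
  have hpair : ∃ n ∈ D, ∀ x ∈ (R : Subgroup G), x ∉ R₀ →
      n * x * n⁻¹ ∈ (R : Subgroup G) ∧ n * x * n⁻¹ ∉ R₀ ∧ n * x * n⁻¹ ≠ x := by
    let P : Sylow r (D ⧸ R₀.subgroupOf D) :=
      (R.subtype hR₀n).mapSurjective (QuotientGroup.mk'_surjective _)
    have hP : (P : Subgroup (D ⧸ R₀.subgroupOf D)) = RD.map π := rfl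
    by_cases hN : normalizer ((RD.map π : Subgroup _) : Set (D ⧸ R₀.subgroupOf D)) ≤
        centralizer ((RD.map π : Subgroup _) : Set (D ⧸ R₀.subgroupOf D))
    · exfalso
      have hN' : normalizer ((P : Subgroup (D ⧸ R₀.subgroupOf D)) : Set (D ⧸ R₀.subgroupOf D)) ≤
          centralizer ((P : Subgroup (D ⧸ R₀.subgroupOf D)) : Set (D ⧸ R₀.subgroupOf D)) := by
        rw [hP]; exact hN
      set τ := MonoidHom.transferSylow P hN' with hτ
      set K : Subgroup D := τ.ker.comap π with hK
      have hKi : K.index = r := by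
        rw [hK, index_comap_of_surjective _ (QuotientGroup.mk'_surjective _),
          (MonoidHom.ker_transferSylow_isComplement' P hN').symm.index_eq_card, hP, hπR]
      haveI : K.Normal := inferInstanceAs (τ.ker.comap π).Normal
      have hsmall : ∀ d : D, ¬ r ∣ orderOf d → d ∈ K := by
        intro d hd
        refine (QuotientGroup.eq_one_iff (N := K) d).mp (orderOf_eq_one_iff.mp ?_)
        have h1 : orderOf (QuotientGroup.mk' K d) ∣ orderOf d := orderOf_map_dvd _ d
        have h2 : orderOf (QuotientGroup.mk' K d) ∣ r := by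
          rw [← hKi, index_eq_card]; exact orderOf_dvd_natCard _
        rcases (Nat.dvd_prime hr).mp h2 with h3 | h3
        · exact h3
        · exact absurd (h3 ▸ h1) hd
      have hR₀K : ∀ x : D, (x : G) ∈ R₀ → x ∈ K := by
        intro x hx
        show π x ∈ τ.ker
        rw [show π x = 1 from (QuotientGroup.eq_one_iff _).mpr (mem_subgroupOf.mpr hx)]
        exact one_mem _
      obtain ⟨d, hdR, hdK⟩ : ∃ d ∈ RD, d ∉ K := by
        by_contra hall
        push Not at hall
        have h1 : RD.map π ≤ τ.ker := map_le_iff_le_comap.mpr hall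
        have h2 : RD.map π = ⊥ := le_bot_iff.mp fun x hx =>
          (MonoidHom.ker_transferSylow_disjoint P hN' _ P.isPGroup').le_bot
            ⟨h1 hx, hP ▸ hx⟩
        rw [h2, card_bot] at hπR
        exact hr.one_lt.ne hπR
      have hHK : H ≤ K.map D.subtype := fun x hx =>
        ⟨⟨x, hHD hx⟩, hsmall _ fun hd => hrH ((Subgroup.orderOf_mk x _ ▸ hd).trans
          (H.orderOf_dvd_natCard hx)), rfl⟩
      have hdH : H.map (MulAut.conj (d : G)).toMonoidHom ≤ K.map D.subtype := by
        rintro _ ⟨x, hx, rfl⟩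
        obtain ⟨x', hx', rfl⟩ := hHK hx
        exact ⟨d * x' * d⁻¹, Normal.conj_mem inferInstance x' hx' d, rfl⟩
      obtain ⟨c, hcK, hc⟩ := exists_conj_into hH hHall
        (Group.nilpotent_of_mulEquiv (_h := hH)
          (H.equivMapOfInjective _ (MulAut.conj (d : G)).injective)) hHK hdH
        (fun q _ hq => by rwa [card_map_of_injective (MulAut.conj (d : G)).injective] at hq)
      obtain ⟨c', hc', rfl⟩ := hcK
      set y : D := c' * d with hy
      have hyK : y ∉ K := fun hm => hdK (by simpa [hy] using mul_mem (inv_mem hc') hm)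
      have hyH : (y : G) ∈ normalizer (H : Set G) := by
        refine Coprime.mem_normalizer_of_map_conj (le_antisymm ?_ ?_)
        · rintro _ ⟨x, hx, rfl⟩
          have := hc _ (mem_map_of_mem _ hx)
          show (y : G) * x * (y : G)⁻¹ ∈ H
          have e : (y : G) = (c' : G) * (d : G) := rfl
          rw [e]
          simpa [mul_assoc] using this
        · have : H.map (MulAut.conj (y : G)).toMonoidHom ≤ H := by
            rintro _ ⟨x, hx, rfl⟩
            have := hc _ (mem_map_of_mem _ hx)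
            show (y : G) * x * (y : G)⁻¹ ∈ H
            have e : (y : G) = (c' : G) * (d : G) := rfl
            rw [e]
            simpa [mul_assoc] using this
          exact (eq_of_le_of_card_ge this
            (by rw [card_map_of_injective (MulAut.conj (y : G)).injective])).ge
      obtain ⟨u, v, huv, hy', ⟨e, hue⟩, -, -, hu, hvr⟩ :=
        primeFactors_zpowers_split (s := (orderOf (y : G)).primeFactors) hr
          (g := (y : G)) (Finset.subset_insert _ _)
      have huD : u ∈ D := zpowers_le.mpr y.2 hu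
      have hvD : v ∈ D := by
        have : v = u⁻¹ * y := by rw [← hy']; group
        rw [this]; exact mul_mem (inv_mem huD) y.2
      have huK : (⟨u, huD⟩ : D) ∉ K := by
        intro hm
        refine hyK ?_
        have hvK : (⟨v, hvD⟩ : D) ∈ K := hsmall _ fun hd => by
          rw [Subgroup.orderOf_mk] at hd
          exact hr.not_dvd_one (hvr.gcd_eq_one ▸ Nat.dvd_gcd hd dvd_rfl)
        have : y = ⟨u, huD⟩ * ⟨v, hvD⟩ := Subtype.ext hy'.symm
        rw [this]; exact mul_mem hm hvK
      have huC := hT u huD (zpowers_le.mpr hyH hu) ⟨e, hue⟩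
      have hpu : IsPGroup r (zpowers u) := IsPGroup.of_card (n := e) (by rw [Nat.card_zpowers, hue])
      have hW := hmax (R₀ ⊔ zpowers u) (hR₀p.to_sup_of_normal_left' hpu (zpowers_le.mpr huD))
        le_sup_left (sup_le hR₀C (zpowers_le.mpr huC))
      exact huK (hR₀K _ (hW.le (mem_sup_right (mem_zpowers u))))
    · obtain ⟨n', hn', hnc⟩ := SetLike.not_le_iff_exists.mp hN
      obtain ⟨n, rfl⟩ := QuotientGroup.mk'_surjective _ n'
      refine ⟨n, n.2, fun x hx hx0 => ?_⟩
      have hxD : x ∈ D := hR₀n hx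
      have hxπ : π ⟨x, hxD⟩ ∈ RD.map π := mem_map_of_mem π (mem_subgroupOf.mpr hx)
      refine ⟨?_, ?_, ?_⟩
      · have := (mem_normalizer_iff.mp hn' (π ⟨x, hxD⟩)).mp hxπ
        rw [← map_inv, ← map_mul, ← map_mul, ← mem_comap, comap_map_eq_self hkerπ] at this
        exact this
      · intro hm
        refine hx0 ?_
        have := (mem_normalizer_iff.mp n.2 x).mpr hm
        exact this
      · intro he
        refine hnc (mem_centralizer_iff.mpr fun w hw => ?_)
        have hgen : zpowers (π ⟨x, hxD⟩) = RD.map π := by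
          refine eq_of_le_of_card_ge (zpowers_le.mpr hxπ) ?_
          rw [hπR]
          have h1 : Nat.card (zpowers (π ⟨x, hxD⟩)) ∣ r :=
            hπR ▸ card_dvd_of_le (zpowers_le.mpr hxπ)
          rcases (Nat.dvd_prime hr).mp h1 with h2 | h2
          · exfalso
            rw [Nat.card_zpowers, orderOf_eq_one_iff] at h2
            exact hx0 (mem_subgroupOf.mp ((QuotientGroup.eq_one_iff _).mp h2))
          · exact h2.ge
        rw [SetLike.mem_coe, ← hgen, mem_zpowers_iff] at hw
        obtain ⟨i, rfl⟩ := hw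
        refine ((Commute.zpow_left ?_ i)).eq
        rw [commute_iff_eq, ← map_mul, ← map_mul]
        refine congrArg π (Subtype.ext ?_)
        show x * (n : G) = n * x
        calc x * (n : G) = (n : G) * x * (n : G)⁻¹ * n := by rw [he]
          _ = n * x := by group
  obtain ⟨n₁, -, hn₁⟩ := hpair
  have hbadT2 : Nat.card badT * 2 ≤ Nat.card Xout := by
    have := card_range_mul_le (fun x : Xout => ConjClasses.mk ((x.1 : G))) ∅ 2 two_pos (by
      rintro ⟨⟨x, hx⟩, hx0⟩ -
      obtain ⟨h1, h2, h3⟩ := hn₁ x hx hx0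
      let g : Bool → {x' : Xout // ConjClasses.mk ((x'.1 : G)) = ConjClasses.mk x} := fun b =>
        match b with
        | true => ⟨⟨⟨x, hx⟩, hx0⟩, rfl⟩
        | false => ⟨⟨⟨n₁ * x * n₁⁻¹, h1⟩, h2⟩, mk_conj n₁ x⟩
      have hg : Function.Injective g := by
        rintro (_ | _) (_ | _) hb
        · rfl
        · exact absurd (congrArg (fun y => ((y.1.1 : (R : Subgroup G)) : G)) hb) h3
        · exact absurd (congrArg (fun y => ((y.1.1 : (R : Subgroup G)) : G)) hb).symm h3
        · rfl
      simpa using Nat.card_le_card_of_injective g hg)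
    rw [show Nat.card (∅ : Set Xout) = 0 by simp, mul_zero, add_zero] at this
    refine le_trans (Nat.mul_le_mul_right _ ?_) (by simpa using this)
    simp only [Nat.card_coe_set_eq]
    exact Set.ncard_le_ncard hbadsub (Set.toFinite _)
  -- (2) some Sylow subgroup of `C(R₀)` for a prime in `σ` is moved by `N(R₀)`
  have hfus : ∃ q ∈ σ, ∃ Q : Subgroup G, Nat.card Q = q ^ (Nat.card G).factorization q ∧
      (∀ u ∈ R₀, ∀ x ∈ Q, x * u = u * x) ∧
      ∃ n ∈ D, n ∈ normalizer (Q : Set G) ∧ ∃ x ∈ Q, n * x ≠ x * n := by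
    by_contra hno
    push Not at hno
    set HD := H.subgroupOf D with hHDdef
    have hHDc : Nat.card HD = Nat.card H := Nat.card_congr (subgroupOfEquivOfLe hHD).toEquiv
    have hHallD : (Nat.card HD).Coprime HD.index := by
      rw [hHDc]
      exact hHall.coprime_dvd_right ⟨D.index, (relIndex_mul_index hHD).symm⟩
    obtain ⟨K, hKn, hKc⟩ := H25.exists_normal_complement_of_forall_prime HD hHallD
      (fun q hq hqd => by
        rw [hHDc] at hqd
        haveI := Fact.mk hq
        have hqσ : q ∈ σ := prime_dvd_sPart hσ hq (hM ▸ hHc ▸ hqd)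
        obtain ⟨Q₀⟩ := (inferInstance : Nonempty (Sylow q H))
        set Q := (Q₀ : Subgroup H).map H.subtype with hQ
        have hHfac : (Nat.card H).factorization q = (Nat.card G).factorization q := by
          rw [← H.card_mul_index, Nat.factorization_mul Nat.card_pos.ne' index_ne_zero_of_finite,
            Finsupp.add_apply, Nat.factorization_eq_zero_of_not_dvd (n := H.index)
              (fun hd => hq.not_dvd_one (hHall.gcd_eq_one ▸ Nat.dvd_gcd hqd hd)), add_zero]
        have hQc : Nat.card Q = q ^ (Nat.card G).factorization q := by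
          rw [hQ, card_map_of_injective H.subtype_injective, Q₀.card_eq_multiplicity, hHfac]
        have hQH : Q ≤ H := map_subtype_le _
        have hfix := hno q hqσ Q hQc (fun u hu x hx => hHR₀ u hu x (hQH hx))
        have hQD : Q ≤ D := hQH.trans hHD
        have hDfac : (Nat.card D).factorization q = (Nat.card G).factorization q := by
          refine le_antisymm ((Nat.factorization_le_iff_dvd Nat.card_pos.ne' Nat.card_pos.ne').2
            (card_subgroup_dvd_card D) q) ?_
          rw [← hq.pow_dvd_iff_le_factorization Nat.card_pos.ne', ← hQc]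
          exact card_dvd_of_le hQD
        let P : Sylow q D := Sylow.ofCard (Q.subgroupOf D)
          (by rw [Nat.card_congr (subgroupOfEquivOfLe hQD).toEquiv, hQc, hDfac])
        have hPN : normalizer ((P : Subgroup D) : Set D) ≤ centralizer ((P : Subgroup D) : Set D) := by
          intro n hn
          rw [mem_centralizer_iff]
          intro x hx
          refine Subtype.ext (hfix (n : G) n.2 ?_ (x : G) (mem_subgroupOf.mp hx)).symm
          rw [mem_normalizer_iff]
          intro z
          constructor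
          · intro hz
            exact mem_subgroupOf.mp ((mem_normalizer_iff.mp hn ⟨z, hQD hz⟩).mp hz)
          · intro hz
            have hz' : (⟨(n : G) * z * (n : G)⁻¹, hQD hz⟩ : D) ∈ Q.subgroupOf D := hz
            have := (mem_normalizer_iff.mp (inv_mem hn) _).mp hz'
            have h' := mem_subgroupOf.mp this
            simpa [mul_assoc] using h'
        refine ⟨(MonoidHom.transferSylow P hPN).ker, inferInstance,
          MonoidHom.not_dvd_card_ker_transferSylow P hPN, ?_⟩
        exact ⟨_, (MonoidHom.ker_transferSylow_isComplement' P hPN).symm.index_eq_card.trans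
          P.card_eq_multiplicity⟩)
    -- `H` normalises, hence centralises, a Sylow `r`-subgroup of `D` containing `R₀`
    set K' := K.map D.subtype with hK'
    have hKidx : K.index = Nat.card H := by rw [hKc.symm.index_eq_card, hHDc]
    have hAK : H ≤ normalizer (K' : Set G) := by
      intro x hx
      refine Coprime.mem_normalizer_of_map_conj ?_
      have : K.map (MulAut.conj (⟨x, hHD hx⟩ : D)).toMonoidHom = K := Coprime.map_conj_eq
        (by rw [normalizer_eq_top]; exact mem_top _)
      conv_rhs => rw [hK', ← this]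
      rw [hK', map_map, map_map]
      rfl
    have hcopK : (Nat.card H).Coprime (Nat.card K') := by
      rw [hK', card_map_of_injective D.subtype_injective, ← hHDc, ← hKc.index_eq_card]
      exact hHallD
    have hR₀K' : R₀ ≤ K' := by
      intro x hx
      refine ⟨⟨x, le_normalizer hx⟩, ?_, rfl⟩
      refine (QuotientGroup.eq_one_iff (N := K) _).mp (orderOf_eq_one_iff.mp ?_)
      obtain ⟨b, hb⟩ := hR₀p.exists_card_eq
      refine Nat.eq_one_of_dvd_coprimes ((hr.coprime_iff_not_dvd.mpr hrH).pow_left b) ?_ ?_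
      · rw [← hb]
        exact (orderOf_map_dvd (QuotientGroup.mk' K) _).trans
          (by rw [Subgroup.orderOf_mk]; exact R₀.orderOf_dvd_natCard hx)
      · rw [← hKidx, index_eq_card]; exact orderOf_dvd_natCard _
    obtain ⟨S, hS, hSA⟩ := Coprime.exists_invariant_sylow_ge hAK hcopK
      (Or.inl (by haveI := hH; infer_instance)) r hR₀K' hR₀p hHD
    set S' := (S : Subgroup K').map K'.subtype with hS'
    have hS'c : Nat.card S' = ρ * r := by
      rw [hS', card_map_of_injective K'.subtype_injective, S.card_eq_multiplicity, ← hj, hRc]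
      congr 1
      have h1 : (Nat.card D).factorization r = (Nat.card G).factorization r := by
        refine le_antisymm ((Nat.factorization_le_iff_dvd Nat.card_pos.ne' Nat.card_pos.ne').2
          (card_subgroup_dvd_card D) r) ?_
        rw [← hr.pow_dvd_iff_le_factorization Nat.card_pos.ne', ← hRc]
        exact card_dvd_of_le hR₀n
      rw [← h1, ← K.card_mul_index, hKidx, Nat.factorization_mul Nat.card_pos.ne' Nat.card_pos.ne',
        Finsupp.add_apply, Nat.factorization_eq_zero_of_not_dvd hrH, add_zero, hK',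
        card_map_of_injective D.subtype_injective]
    have hS'D : S' ≤ D := (map_subtype_le _).trans (map_subtype_le _)
    have hS'p : IsPGroup r S' := S.isPGroup'.map _
    -- `H` acts trivially on `S'/R₀` and on `R₀`
    have hSC : S' ≤ C₀ := by
      intro s hs
      rw [hC₀, mem_centralizer_iff]
      intro x hx
      have hxD := hHD hx
      set P' := (S'.subgroupOf D).map π with hP'
      have hP'c : Nat.card P' = r := by
        have h1 := (S'.subgroupOf D).card_mul_index
        have h2 := (R₀.subgroupOf D).card_mul_index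
        have h3 := P'.card_mul_index
        rw [hP', index_map_eq _ (QuotientGroup.mk'_surjective _)
          (by rw [QuotientGroup.ker_mk']; exact fun z hz => hS hz), ← index_eq_card] at h3
        rw [Nat.card_congr (subgroupOfEquivOfLe hS'D).toEquiv, hS'c] at h1
        rw [Nat.card_congr (subgroupOfEquivOfLe (le_normalizer : R₀ ≤ D)).toEquiv, ← hρ, ← h3,
          ← h1] at h2
        have h4 : 0 < (S'.subgroupOf D).index := Nat.pos_of_ne_zero index_ne_zero_of_finite
        refine Nat.eq_of_mul_eq_mul_right h4 (Nat.eq_of_mul_eq_mul_left hρ0 ?_)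
        rw [hP', h2, mul_assoc]
      have hnorm : π ⟨x, hxD⟩ ∈ normalizer (P' : Set _) := by
        refine Coprime.mem_normalizer_of_map_conj ?_
        have hxS : (⟨x, hxD⟩ : D) ∈ normalizer ((S'.subgroupOf D : Subgroup D) : Set D) := by
          rw [mem_normalizer_iff]
          intro z
          simp only [mem_subgroupOf]
          exact mem_normalizer_iff.mp (hSA hx) (z : G)
        conv_rhs => rw [hP', ← Coprime.map_conj_eq hxS]
        rw [hP', map_map, map_map]
        congr 1
      have hcyc : IsCyclic P' := isCyclic_of_prime_card hP'c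
      have hker : (⟨π ⟨x, hxD⟩, hnorm⟩ : normalizer (P' : Set _)) ∈
          P'.normalizerMonoidHom.ker := by
        rw [MonoidHom.mem_ker, ← orderOf_eq_one_iff]
        refine Nat.eq_one_of_dvd_coprimes (a := orderOf x) (b := r - 1) ?_ ?_ ?_
        · refine Nat.coprime_of_dvd fun l hl h1 h2 => ?_
          have := hHprimes l hl (h1.trans (H.orderOf_dvd_natCard hx))
          have := Nat.le_of_dvd (by have := hr.two_le; omega) h2
          omega
        · refine (orderOf_map_dvd P'.normalizerMonoidHom _).trans ?_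
          rw [Subgroup.orderOf_mk]
          exact (orderOf_map_dvd π _).trans (by rw [Subgroup.orderOf_mk])
        · have := orderOf_dvd_natCard (P'.normalizerMonoidHom ⟨π ⟨x, hxD⟩, hnorm⟩)
          rw [hcyc.card_mulAut, hP'c, Nat.totient_prime hr] at this
          exact this
      rw [normalizerMonoidHom_ker, mem_subgroupOf] at hker
      have hcom := mem_centralizer_iff.mp hker (π ⟨s, hS'D hs⟩)
        (mem_map_of_mem π (mem_subgroupOf.mpr hs))
      have hz : (x * s * x⁻¹ * s⁻¹) ∈ R₀ := by
        have : π (⟨x, hxD⟩ * ⟨s, hS'D hs⟩ * (⟨x, hxD⟩)⁻¹ * (⟨s, hS'D hs⟩)⁻¹) = 1 := by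
          simp only [map_mul, map_inv]
          rw [← hcom]; group
        exact mem_subgroupOf.mp ((QuotientGroup.eq_one_iff _).mp this)
      set z := x * s * x⁻¹ * s⁻¹ with hzdef
      have hxz : x * z = z * x := hHR₀ z hz x hx
      have hiter : ∀ i : ℕ, x ^ i * s * (x ^ i)⁻¹ = z ^ i * s := by
        intro i
        induction i with
        | zero => simp
        | succ i ihi =>
          have hxzi : Commute x (z ^ i) := Commute.pow_right hxz i
          calc x ^ (i + 1) * s * (x ^ (i + 1))⁻¹ = x * (x ^ i * s * (x ^ i)⁻¹) * x⁻¹ := by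
                rw [pow_succ']; group
            _ = x * z ^ i * s * x⁻¹ := by rw [ihi]; group
            _ = z ^ i * (x * s * x⁻¹) := by rw [hxzi.eq]; group
            _ = z ^ i * z * s := by rw [hzdef]; group
            _ = z ^ (i + 1) * s := by rw [pow_succ]
      have hz1 : z = 1 := by
        have hzx : z ^ orderOf x = 1 := by
          have := hiter (orderOf x)
          rw [pow_orderOf_eq_one, one_mul, inv_one, mul_one] at this
          exact mul_right_cancel (b := s) (by rw [one_mul]; exact this.symm)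
        obtain ⟨b, hb⟩ := hR₀p.exists_card_eq
        refine orderOf_eq_one_iff.mp (Nat.eq_one_of_dvd_coprimes
          ((hr.coprime_iff_not_dvd.mpr hrH).pow_left b) (hb ▸ R₀.orderOf_dvd_natCard hz)
          ((orderOf_dvd_of_pow_eq_one hzx).trans (H.orderOf_dvd_natCard hx)))
      calc x * s = z * (s * x) := by rw [hzdef]; group
        _ = s * x := by rw [hz1, one_mul]
    have := hmax S' hS'p hS hSC
    rw [this, ← hρ] at hS'c
    have := hr.two_le
    nlinarith
  obtain ⟨q, hq, Q, hQc, hQR, n, hnD, hnQ, x₀, hx₀, hnx⟩ := hfus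
  haveI := Fact.mk (hσ q hq)
  have hqr : r + 1 ≤ q := hσins q hq
  set S := Q ⊓ centralizer ({n} : Set G) with hSdef
  have hSlt : Nat.card S * (r + 1) ≤ Nat.card Q := by
    obtain ⟨a, ha⟩ : ∃ a, Nat.card S = q ^ a := by
      obtain ⟨a, -, ha⟩ := (Nat.dvd_prime_pow (hσ q hq)).mp
        (hQc ▸ card_dvd_of_le (show S ≤ Q from inf_le_left))
      exact ⟨a, ha⟩
    have hlt' : Nat.card S < Nat.card Q := by
      refine lt_of_le_of_ne (card_le_of_le inf_le_left) fun he => hnx ?_
      have : S = Q := eq_of_le_of_card_ge inf_le_left he.ge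
      rw [← this] at hx₀
      exact (mem_centralizer_singleton_iff.mp hx₀.2).symm
    rw [ha, hQc] at hlt' ⊢
    have := (Nat.pow_lt_pow_iff_right (hσ q hq).one_lt).mp hlt'
    calc q ^ a * (r + 1) ≤ q ^ a * q := Nat.mul_le_mul_left _ hqr
      _ = q ^ (a + 1) := (pow_succ _ _).symm
      _ ≤ _ := Nat.pow_le_pow_right (hσ q hq).pos this
  let f : R₀ × Q → ConjClasses G := fun x => ConjClasses.mk ((x.1 : G) * (x.2 : G))
  let F : Set (R₀ × Q) := {x | (x.2 : G) ∈ S}
  have hrange := card_range_mul_le f F 2 two_pos (by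
    rintro ⟨u, x⟩ hx
    let g : Bool → {x' : R₀ × Q // f x' = f (u, x)} := fun b =>
      match b with
      | true => ⟨(u, x), rfl⟩
      | false => ⟨(⟨n * u * n⁻¹, (mem_normalizer_iff.mp hnD _).mp u.2⟩,
          ⟨n * x * n⁻¹, (mem_normalizer_iff.mp hnQ _).mp x.2⟩), by
          show ConjClasses.mk (n * (u : G) * n⁻¹ * (n * (x : G) * n⁻¹)) = ConjClasses.mk ((u : G) * x)
          rw [show n * (u : G) * n⁻¹ * (n * (x : G) * n⁻¹) = n * ((u : G) * x) * n⁻¹ by group,
            mk_conj]⟩
    have hxn : n * (x : G) * n⁻¹ ≠ x := fun he => hx ⟨x.2, mem_centralizer_singleton_iff.mpr (by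
      calc (x : G) * n = n * x * n⁻¹ * n := by rw [he]
        _ = n * x := by group)⟩
    have hg : Function.Injective g := by
      rintro (_ | _) (_ | _) hb
      · rfl
      · exact absurd (congrArg (fun y => ((y.1.2 : Q) : G)) hb) hxn
      · exact absurd (congrArg (fun y => ((y.1.2 : Q) : G)) hb).symm hxn
      · rfl
    simpa using Nat.card_le_card_of_injective g hg)
  have hFc : Nat.card F = ρ * Nat.card S := by
    rw [hρ, ← Nat.card_prod]
    exact Nat.card_congr
      { toFun := fun x => (x.1.1, ⟨(x.1.2 : G), x.2⟩)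
        invFun := fun x => ⟨(x.1, ⟨(x.2 : G), (x.2.2).1⟩), x.2.2⟩
        left_inv := fun _ => rfl
        right_inv := fun _ => rfl }
  rw [Nat.card_prod, ← hρ, hFc] at hrange
  set b := σ.erase q with hb
  have hbp : ∀ l ∈ b, l.Prime := fun l hl => hσ l (Finset.mem_of_mem_erase hl)
  have hMb : Nat.card Q * sPart b G = M := by
    rw [hQc, hM]; exact Finset.mul_prod_erase σ (fun l => l ^ (Nat.card G).factorization l) hq
  have hg : Nat.card good * 1 ≤ Nat.card (Set.range f) * sPart b G := by
    refine card_cover_le _ _ _ _ (fun C hC' => ?_) (fun w _ => crude b hbp w)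
    obtain ⟨u, hu, hue⟩ := hC'
    obtain ⟨a, ha⟩ := isConj_iff.mp (ConjClasses.mk_eq_mk_iff_isConj.mp hue.symm)
    set v := a * V C * a⁻¹ with hv
    have huv : Commute u v := by
      rw [← ha, hv, commute_iff_eq]
      calc a * U C * a⁻¹ * (a * V C * a⁻¹) = a * (U C * V C) * a⁻¹ := by group
        _ = a * (V C * U C) * a⁻¹ := by rw [(hUV C).eq]
        _ = _ := by group
    have hvσ : (orderOf v).primeFactors ⊆ insert q b := by
      rw [hb, Finset.insert_erase hq, hv, primeFactors_conj]; exact hV C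
    obtain ⟨y, z, hyz, hyzv, ⟨e, hye⟩, hz, hzm, hym, -⟩ :=
      primeFactors_zpowers_split (hσ q hq) hvσ
    have hyu : Commute u y := by
      obtain ⟨i, rfl⟩ := mem_zpowers_iff.mp hym; exact huv.zpow_right i
    have hzu : Commute u z := by
      obtain ⟨i, rfl⟩ := mem_zpowers_iff.mp hzm; exact huv.zpow_right i
    set Cu := centralizer ({u} : Set G) with hCu
    have hQCu : Q ≤ Cu := fun x hx => mem_centralizer_singleton_iff.mpr (hQR u hu x hx)
    have hQsub : Nat.card (Q.subgroupOf Cu) = q ^ (Nat.card Cu).factorization q := by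
      rw [Nat.card_congr (subgroupOfEquivOfLe hQCu).toEquiv, hQc]
      congr 1
      refine le_antisymm ?_ ((Nat.factorization_le_iff_dvd Nat.card_pos.ne' Nat.card_pos.ne').2
        (card_subgroup_dvd_card Cu) q)
      rw [← (hσ q hq).pow_dvd_iff_le_factorization Nat.card_pos.ne', ← hQc]
      exact card_dvd_of_le hQCu
    have hyC : y ∈ Cu := mem_centralizer_singleton_iff.mpr hyu.eq.symm
    have hyp : IsPGroup q (zpowers (⟨y, hyC⟩ : Cu)) :=
      IsPGroup.of_card (n := e) (by rw [Nat.card_zpowers, Subgroup.orderOf_mk, hye])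
    obtain ⟨T, hT⟩ := hyp.exists_le_sylow
    obtain ⟨c, hc⟩ := MulAction.exists_smul_eq Cu T (Sylow.ofCard _ hQsub)
    have hcy : c * ⟨y, hyC⟩ * c⁻¹ ∈ ((Sylow.ofCard _ hQsub : Sylow q Cu) : Subgroup Cu) := by
      rw [← hc]
      exact Subgroup.smul_mem_pointwise_smul _ (MulAut.conj c) _ (hT (mem_zpowers _))
    have hcy' : (c : G) * y * (c : G)⁻¹ ∈ Q := mem_subgroupOf.mp hcy
    have hcu : (c : G) * u = u * c := mem_centralizer_singleton_iff.mp c.2
    have hcu' : (c : G) * u * (c : G)⁻¹ = u := by rw [hcu]; group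
    refine ⟨u * ((c : G) * y * (c : G)⁻¹), (c : G) * z * (c : G)⁻¹,
      ⟨(⟨u, hu⟩, ⟨_, hcy'⟩), rfl⟩, ?_, ?_, ?_⟩
    · rw [commute_iff_eq]
      conv_lhs => rw [← hcu']
      conv_rhs => rw [← hcu']
      calc (c : G) * u * (c : G)⁻¹ * ((c : G) * y * (c : G)⁻¹) * ((c : G) * z * (c : G)⁻¹)
          = c * (u * y * z) * (c : G)⁻¹ := by group
        _ = c * (z * (u * y)) * (c : G)⁻¹ := by
            rw [show u * y * z = z * (u * y) from (hzu.mul_left hyz).eq]
        _ = _ := by group
    · rw [primeFactors_conj]; exact hz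
    · rw [hC C]
      refine ConjClasses.mk_eq_mk_iff_isConj.mpr (isConj_iff.mpr ⟨(c : G) * a, ?_⟩)
      conv_rhs => rw [← hcu', ← ha]
      calc (c : G) * a * (U C * V C) * ((c : G) * a)⁻¹
          = c * (a * U C * a⁻¹ * (a * V C * a⁻¹)) * (c : G)⁻¹ := by group
        _ = c * (a * U C * a⁻¹ * (y * z)) * (c : G)⁻¹ := by rw [hyzv]
        _ = _ := by group
  have e1 : Nat.card good * 2 ≤ (ρ * Nat.card Q + ρ * Nat.card S) * sPart b G := by
    calc Nat.card good * 2 = Nat.card good * 1 * 2 := by ring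
      _ ≤ Nat.card (Set.range f) * sPart b G * 2 := Nat.mul_le_mul_right _ hg
      _ = Nat.card (Set.range f) * 2 * sPart b G := by ring
      _ ≤ _ := Nat.mul_le_mul_right _ (by simpa using hrange)
  have e2 : Nat.card (goodᶜ : Set _) * (r + 1) * 2 ≤ Nat.card Xout * M := by
    calc Nat.card (goodᶜ : Set _) * (r + 1) * 2 ≤ Nat.card badT * M * 2 :=
          Nat.mul_le_mul_right _ hbad
      _ = Nat.card badT * 2 * M := by ring
      _ ≤ _ := Nat.mul_le_mul_right _ hbadT2
  rw [hj] at hXcard
  have e3 : ρ * Nat.card Q * sPart b G = ρ * M := by rw [mul_assoc, hMb]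
  have e4 := Nat.mul_le_mul_left (ρ * sPart b G) hSlt
  have e5 : Nat.card good * 2 * (r + 1) ≤ ρ * M * (r + 1) + ρ * M := by
    refine (Nat.mul_le_mul_right (r + 1) e1).trans ?_
    nlinarith
  have e6 : k * 2 * (r + 1) ≤ ρ * M * (r + 1) + ρ * M + Nat.card Xout * M := by
    refine le_trans (Nat.mul_le_mul_right _ (Nat.mul_le_mul_right _ hsplit)) ?_
    rw [add_mul, add_mul, mul_right_comm (Nat.card (goodᶜ : Set _))]
    exact Nat.add_le_add e5 e2
  have e7 : Nat.card Xout * M + ρ * M = ρ * r * M := by rw [← add_mul, hXcard]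
  nlinarith [Nat.mul_le_mul_left r e6, Nat.mul_pos hρ0 hM0]

theorem exists_nilpotent_hall : ∀ (s : Finset ℕ), (∀ q ∈ s, q.Prime) →
    ∀ p : ℕ, 2 ≤ p → (∀ q ∈ s, p ≤ q) → ∀ (X : Type u) [Group X] [Finite X],
      sPart s X < p * Nat.card (H75.PiClass s X) →
      ∃ H : Subgroup X, Group.IsNilpotent H ∧ Nat.card H = sPart s X := by
  intro s
  induction s using Finset.induction_on_min with
  | empty => exact fun _ _ _ _ X _ _ _ => ⟨⊥, inferInstance, by simp [sPart]⟩
  | insert r σ hlt ih =>
    intro hs p hp hple X _ _ h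
    refine exists_nilpotent_hall_step (hs r (Finset.mem_insert_self r σ))
      (fun q hq => hs q (Finset.mem_insert_of_mem hq)) hlt
      (ih (fun q hq => hs q (Finset.mem_insert_of_mem hq))) ?_
    exact h.trans_le (Nat.mul_le_mul_right _ (hple r (Finset.mem_insert_self r σ)))

end Cfsg.Agent.H76
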