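import Mathlib
import Cfsg.Agent.H76.ExtraspecialCoord

/-!
A radical elementary abelian subgroup of order p^2 in a Sylow subgroup yields diagonal elements
normalising the Sylow subgroup.
-/

set_option autoImplicit false

namespace Cfsg.Agent.H76.RT

open Subgroup
open scoped commutatorElement

variable {p : ℕ} [hp : Fact p.Prime]

local notation "V2" => ZMod p × ZMod p

/-- `(i, l) ↦ (i + t l, l)`. -/
def upper (t : ZMod p) : V2 ≃+ V2 where
  toFun v := (v.1 + t * v.2, v.2)
  invFun v := (v.1 - t * v.2, v.2)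
  left_inv v := by simp
  right_inv v := by simp
  map_add' v w := by simp only [Prod.fst_add, Prod.snd_add, Prod.mk_add_mk, Prod.mk.injEq, and_true]; ring

/-- `(i, l) ↦ (i, l + t i)`. -/
def lower (t : ZMod p) : V2 ≃+ V2 where
  toFun v := (v.1, v.2 + t * v.1)
  invFun v := (v.1, v.2 - t * v.1)
  left_inv v := by simp
  right_inv v := by simp
  map_add' v w := by simp only [Prod.fst_add, Prod.snd_add, Prod.mk_add_mk, Prod.mk.injEq, true_and]; ring

/-- An additive automorphism transported to a group. -/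
def transfer {A : Type*} [Group A] (e : Multiplicative V2 ≃* A) (f : V2 ≃+ V2) : MulAut A :=
  (e.symm.trans (AddEquiv.toMultiplicative f)).trans e

theorem transfer_apply {A : Type*} [Group A] (e : Multiplicative V2 ≃* A) (f : V2 ≃+ V2) (v : V2) :
    transfer e f (e (Multiplicative.ofAdd v)) = e (Multiplicative.ofAdd (f v)) := by
  simp [transfer]

/-- The order of a transferred transvection. -/
theorem orderOf_transfer {A : Type*} [Group A] (e : Multiplicative V2 ≃* A) (f : ZMod p → (V2 ≃+ V2))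
    (hadd : ∀ s t v, f s (f t v) = f (s + t) v) (h0 : ∀ v, f 0 v = v)
    {t : ZMod p} (ht : ∃ v, f t v ≠ v) : orderOf (transfer e (f t)) = p := by
  have hpow : ∀ n : ℕ, transfer e (f t) ^ n = transfer e (f ((n : ℕ) * t)) := by
    intro n
    induction n with
    | zero =>
      refine MulEquiv.ext fun x => ?_
      obtain ⟨v, rfl⟩ := e.surjective x
      rw [show v = Multiplicative.ofAdd (Multiplicative.toAdd v) from rfl, transfer_apply]
      simp [h0]
    | succ n ih =>
      refine MulEquiv.ext fun x => ?_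
      obtain ⟨v, rfl⟩ := e.surjective x
      rw [show v = Multiplicative.ofAdd (Multiplicative.toAdd v) from rfl, pow_succ, ih, MulAut.mul_apply,
        transfer_apply, transfer_apply, transfer_apply, hadd]
      congr 3
      push_cast
      ring
  refine orderOf_eq_prime ?_ ?_
  · rw [hpow, ZMod.natCast_self, zero_mul]
    refine MulEquiv.ext fun x => ?_
    obtain ⟨v, rfl⟩ := e.surjective x
    rw [show v = Multiplicative.ofAdd (Multiplicative.toAdd v) from rfl, transfer_apply, h0]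
    rfl
  · obtain ⟨v, hv⟩ := ht
    intro h
    apply hv
    have := transfer_apply e (f t) v
    rw [h] at this
    exact Multiplicative.ofAdd.injective (e.injective this).symm

variable {G : Type*} [Group G] [Finite G]

/-- Coordinates on an elementary abelian subgroup of order p^2 inside the Sylow subgroup. -/
theorem exists_coordEquiv (P : Sylow p G) (hexpP : Monoid.exponent (P : Subgroup G) = p)
    (A : Subgroup G) (hAP : A ≤ P) (hAcard : Nat.card A = p ^ 2)
    (zG a : G) (hzA : zG ∈ A) (haA : a ∈ A) (ha : a ∉ zpowers zG) (hz1 : zG ≠ 1) :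
    ∃ e : Multiplicative V2 ≃* A, ∀ i l : ZMod p,
      (e (Multiplicative.ofAdd (i, l)) : G) = zG ^ i.val * a ^ l.val := by
  classical
  have hpow : ∀ x ∈ (P : Subgroup G), x ^ p = 1 := fun x hx => by
    have h := Monoid.pow_exponent_eq_one (⟨x, hx⟩ : (P : Subgroup G))
    rw [hexpP] at h
    exact congrArg Subtype.val h
  -- the isomorphism with (ZMod p)^2
  let zA : A := ⟨zG, hzA⟩
  let aA : A := ⟨a, haA⟩
  have hzAp : zA ^ p = 1 := Subtype.ext (hpow zG (hAP hzA))
  have haAp : aA ^ p = 1 := Subtype.ext (hpow a (hAP haA))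
  have hcA : ∀ x y : A, x * y = y * x := by
    have := IsPGroup.isMulCommutative_of_card_eq_prime_sq hAcard
    exact fun x y => mul_comm' x y
  let E : Multiplicative V2 →* A :=
    MonoidHom.mk' (fun v => EC.powHom zA hzAp (Multiplicative.ofAdd (Multiplicative.toAdd v).1) *
        EC.powHom aA haAp (Multiplicative.ofAdd (Multiplicative.toAdd v).2)) fun v w => by
      simp only [toAdd_mul, Prod.fst_add, Prod.snd_add, ofAdd_add, map_mul]
      rw [mul_assoc, mul_assoc, ← mul_assoc (EC.powHom zA hzAp (Multiplicative.ofAdd (Multiplicative.toAdd w).1)),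
        hcA _ (EC.powHom aA haAp (Multiplicative.ofAdd (Multiplicative.toAdd v).2)), mul_assoc]
  have hEv : ∀ i l : ZMod p, (E (Multiplicative.ofAdd (i, l)) : G) = zG ^ i.val * a ^ l.val := by
    intro i l
    simp [E, EC.powHom_apply, zA, aA]
  have hEb : Function.Bijective E := by
    have hsurj : Function.Surjective E := by
      rw [← MonoidHom.range_eq_top]
      have hzR : zA ∈ E.range := ⟨Multiplicative.ofAdd (((1 : ℕ) : ZMod p), ((0 : ℕ) : ZMod p)), by
        simp only [E, MonoidHom.mk'_apply, toAdd_ofAdd, EC.powHom_natCast, pow_one, pow_zero, mul_one]⟩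
      have haR : aA ∈ E.range := ⟨Multiplicative.ofAdd (((0 : ℕ) : ZMod p), ((1 : ℕ) : ZMod p)), by
        simp only [E, MonoidHom.mk'_apply, toAdd_ofAdd, EC.powHom_natCast, pow_one, pow_zero, one_mul]⟩
      have hd : Nat.card E.range ∣ p ^ 2 := hAcard ▸ Subgroup.card_subgroup_dvd_card _
      obtain ⟨k, hk, hk'⟩ := (Nat.dvd_prime_pow hp.out).mp hd
      have hoz : orderOf zA = p := orderOf_eq_prime hzAp fun h => hz1 (congrArg Subtype.val h)
      refine Subgroup.eq_top_of_card_eq _ ?_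
      rw [hAcard, hk']
      interval_cases k
      · exfalso
        have h1 := Subgroup.orderOf_dvd_natCard E.range hzR
        rw [hk', hoz, pow_zero, Nat.dvd_one] at h1
        exact hp.out.one_lt.ne' h1
      · exfalso
        have h1 : zpowers zA = E.range := Subgroup.eq_of_le_of_card_ge (zpowers_le.mpr hzR)
          (by rw [Nat.card_zpowers, hoz, hk', pow_one])
        rw [← h1] at haR
        obtain ⟨m, hm⟩ := mem_zpowers_iff.mp haR
        exact ha (mem_zpowers_iff.mpr ⟨m, by simpa [zA, aA] using congrArg Subtype.val hm⟩)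
      · rfl
    refine (Nat.bijective_iff_surjective_and_card E).mpr ⟨hsurj, ?_⟩
    rw [hAcard, Nat.card_congr Multiplicative.toAdd, Nat.card_prod, Nat.card_zmod, sq]
  exact ⟨MulEquiv.ofBijective E hEb, hEv⟩

/-- The torus element, from one upper and one lower transvection realised in `G`. -/
theorem exists_torus_of_gens (P : Sylow p G) (hexpP : Monoid.exponent (P : Subgroup G) = p)
    (A : Subgroup G) (hAP : A ≤ P) (hAcard : Nat.card A = p ^ 2)
    (zG a : G) (hzA : zG ∈ A) (haA : a ∈ A) (ha : a ∉ zpowers zG) (hz1 : zG ≠ 1)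
    (hzc : ∀ u ∈ (P : Subgroup G), u * zG = zG * u)
    (hcomm : ∀ u ∈ (P : Subgroup G), ∃ t : ℕ, u * a * u⁻¹ = a * zG ^ t)
    (hup : ∃ (u : G) (t : ℕ), (t : ZMod p) ≠ 0 ∧ u * zG * u⁻¹ = zG ∧ u * a * u⁻¹ = a * zG ^ t)
    (hlow : ∃ (u : G) (t : ℕ), (t : ZMod p) ≠ 0 ∧ u * a * u⁻¹ = a ∧ u * zG * u⁻¹ = zG * a ^ t)
    (lam : (ZMod p)ˣ) :
    ∃ g : G, g ∈ normalizer ((P : Subgroup G) : Set G) ∧ g * zG * g⁻¹ = zG ^ (lam : ZMod p).val ∧
      ∃ n : ℕ, g * a * g⁻¹ = a ^ ((lam⁻¹ : (ZMod p)ˣ) : ZMod p).val * zG ^ n := by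
  classical
  obtain ⟨e, hEv⟩ := exists_coordEquiv P hexpP A hAP hAcard zG a hzA haA ha hz1
  have hpow : ∀ x ∈ (P : Subgroup G), x ^ p = 1 := fun x hx => by
    have h := Monoid.pow_exponent_eq_one (⟨x, hx⟩ : (P : Subgroup G))
    rw [hexpP] at h
    exact congrArg Subtype.val h
  let zA : A := ⟨zG, hzA⟩
  let aA : A := ⟨a, haA⟩
  have hcA : ∀ x y : A, x * y = y * x := by
    have := IsPGroup.isMulCommutative_of_card_eq_prime_sq hAcard
    exact fun x y => mul_comm' x y
  let Real : (V2 → V2) → G → Prop := fun f g =>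
    ∀ v : V2, g * (e (Multiplicative.ofAdd v) : G) * g⁻¹ = (e (Multiplicative.ofAdd (f v)) : G)
  have hmul : ∀ f f' g g', Real f g → Real f' g' → Real (fun v => f (f' v)) (g * g') := by
    intro f f' g g' h h' v
    rw [← h (f' v), ← h' v]; group
  have hza : Commute a zG := congrArg Subtype.val (hcA aA zA)
  have hpa : ∀ (x : G), x ∈ A → x ≠ 1 → ∀ (i : ZMod p) (n : ℕ), x ^ (i + (n : ℕ)).val = x ^ i.val * x ^ n := by
    intro x hx hx1 i n
    rw [← pow_add]
    refine pow_eq_pow_iff_modEq.mpr ?_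
    rw [orderOf_eq_prime (hpow x (hAP hx)) hx1, ← ZMod.natCast_eq_natCast_iff]
    simp
  have hupG : ∀ (u : G) (t : ℕ), u * zG * u⁻¹ = zG → u * a * u⁻¹ = a * zG ^ t → Real (upper (t : ZMod p)) u := by
    rintro u t hz ht ⟨i, l⟩
    rw [show upper (t : ZMod p) (i, l) = (i + t * l, l) from rfl, hEv, hEv]
    rw [show u * (zG ^ i.val * a ^ l.val) * u⁻¹ = (u * zG * u⁻¹) ^ i.val * (u * a * u⁻¹) ^ l.val by
      rw [conj_pow, conj_pow]; group]
    rw [hz, ht, (hza.pow_right t).mul_pow, ← pow_mul]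
    have : zG ^ (i + t * l).val = zG ^ i.val * zG ^ (t * l.val) := by
      rw [← hpa zG hzA hz1]; push_cast; rw [ZMod.natCast_zmod_val]
    rw [this, ((hza.pow_left l.val).pow_right (t * l.val)).eq, mul_assoc]
  have hloG : ∀ (u : G) (t : ℕ), u * a * u⁻¹ = a → u * zG * u⁻¹ = zG * a ^ t → Real (lower (t : ZMod p)) u := by
    rintro u t hfix ht ⟨i, l⟩
    have ha1 : a ≠ 1 := fun h => ha (h ▸ one_mem _)
    rw [show lower (t : ZMod p) (i, l) = (i, l + t * i) from rfl, hEv, hEv]
    rw [show u * (zG ^ i.val * a ^ l.val) * u⁻¹ = (u * zG * u⁻¹) ^ i.val * (u * a * u⁻¹) ^ l.val by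
      rw [conj_pow, conj_pow]; group]
    rw [hfix, ht, (hza.symm.pow_right t).mul_pow, ← pow_mul]
    have : a ^ (l + t * i).val = a ^ (t * i.val) * a ^ l.val := by
      rw [(Commute.pow_pow_self a (t * i.val) l.val).eq, ← hpa a haA ha1]; push_cast
      rw [ZMod.natCast_zmod_val]
    rw [this, mul_assoc]
  have hmult : ∀ (F : ZMod p → (V2 ≃+ V2)), (∀ s t v, F s (F t v) = F (s + t) v) → (∀ v, F 0 v = v) →
      ∀ (u : G) (t₀ : ZMod p), t₀ ≠ 0 → Real (F t₀) u → ∀ t, ∃ g, Real (F t) g := by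
    intro F hadd h0 u t₀ ht₀ hu t
    have hn : ∀ n : ℕ, Real (F ((n : ℕ) * t₀)) (u ^ n) := by
      intro n
      induction n with
      | zero => intro v; simp [h0]
      | succ n ih =>
        intro v
        rw [pow_succ, hmul _ _ _ _ ih hu v]
        show (e (Multiplicative.ofAdd (F _ (F t₀ v))) : G) = _
        rw [hadd]
        congr 3
        push_cast
        ring
    exact ⟨u ^ (t / t₀).val, by
      have := hn (t / t₀).val
      rwa [ZMod.natCast_zmod_val, div_mul_cancel₀ _ ht₀] at this⟩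
  obtain ⟨uu, tu, htu, hu1, hu2⟩ := hup
  obtain ⟨ul, tl, htl, hl1, hl2⟩ := hlow
  have hup : ∀ t, ∃ g, Real (upper t) g := hmult upper (fun s t v => by simp [upper]; ring)
    (fun v => by simp [upper]) uu _ htu (hupG uu tu hu1 hu2)
  have hlo : ∀ t, ∃ g, Real (lower t) g := hmult lower (fun s t v => by simp [lower]; ring)
    (fun v => by simp [lower]) ul _ htl (hloG ul tl hl1 hl2)
  have hw : ∀ s : (ZMod p)ˣ, ∃ g, Real (fun v => ((s : ZMod p) * v.2, -((s⁻¹ : (ZMod p)ˣ) : ZMod p) * v.1)) g := by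
    intro s
    obtain ⟨g1, h1⟩ := hup (s : ZMod p)
    obtain ⟨g2, h2⟩ := hlo (-((s⁻¹ : (ZMod p)ˣ) : ZMod p))
    refine ⟨g1 * g2 * g1, fun v => ?_⟩
    rw [hmul _ _ _ _ (hmul _ _ _ _ h1 h2) h1 v]
    have hs : (s : ZMod p) * ((s⁻¹ : (ZMod p)ˣ) : ZMod p) = 1 := Units.mul_inv s
    congr 3
    simp only [upper, lower, AddEquiv.coe_mk, Equiv.coe_fn_mk, Prod.mk.injEq]
    constructor
    · linear_combination (-v.1 - (s : ZMod p) * v.2) * hs
    · linear_combination (-v.2) * hs
  obtain ⟨g0, hg0⟩ : ∃ g, Real (fun v => ((lam : ZMod p) * v.1, ((lam⁻¹ : (ZMod p)ˣ) : ZMod p) * v.2)) g := by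
    obtain ⟨g1, h1⟩ := hw lam
    obtain ⟨g2, h2⟩ := hw (-1)
    refine ⟨g1 * g2, fun v => ?_⟩
    rw [hmul _ _ _ _ h1 h2 v]
    congr 3
    simp only [Units.val_neg, Units.val_one, inv_neg, inv_one, neg_neg, one_mul, neg_mul, mul_neg, Prod.mk.injEq,
      true_and, and_true]
  -- the subgroup of elements acting as upper transvections
  let K : Subgroup G :=
    { carrier := {g | ∃ t, Real (upper t) g}
      one_mem' := ⟨0, fun v => by simp [upper]⟩
      mul_mem' := by
        rintro x y ⟨s, hs⟩ ⟨t, ht⟩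
        refine ⟨s + t, fun v => ?_⟩
        rw [hmul _ _ _ _ hs ht v]
        congr 3
        simp [upper]; ring
      inv_mem' := by
        rintro x ⟨t, ht⟩
        refine ⟨-t, fun v => ?_⟩
        have := ht (upper (-t) v)
        rw [show upper t (upper (-t) v) = v by simp [upper]] at this
        rw [← this]; group }
  have hPK : (P : Subgroup G) ≤ K := by
    intro u hu
    obtain ⟨t, ht⟩ := hcomm u hu
    exact ⟨(t : ZMod p), hupG u t (by rw [hzc u hu, mul_inv_cancel_right]) ht⟩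
  have hP'K : ((g0 • P : Sylow p G) : Subgroup G) ≤ K := by
    intro x hx
    rw [Sylow.coe_subgroup_smul, Subgroup.mem_pointwise_smul_iff_inv_smul_mem] at hx
    obtain ⟨t, ht⟩ := hPK hx
    refine ⟨(lam : ZMod p) ^ 2 * t, fun v => ?_⟩
    have hinv : Real (fun v => (((lam⁻¹ : (ZMod p)ˣ) : ZMod p) * v.1, (lam : ZMod p) * v.2)) g0⁻¹ := by
      intro w
      have := hg0 (((lam⁻¹ : (ZMod p)ˣ) : ZMod p) * w.1, (lam : ZMod p) * w.2)
      simp only [← mul_assoc, Units.mul_inv, Units.inv_mul, one_mul, Prod.mk.eta] at this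
      rw [← this]; group
    have h3 := hmul _ _ _ _ (hmul _ _ _ _ hg0 ht) hinv v
    rw [show g0 * ((MulAut.conj g0)⁻¹ • x) * g0⁻¹ = x by
      rw [MulAut.smul_def, MulAut.conj_inv_apply]; group] at h3
    rw [h3]
    congr 3
    simp only [upper, AddEquiv.coe_mk, Equiv.coe_fn_mk, Prod.mk.injEq]
    constructor
    · linear_combination v.1 * (Units.mul_inv lam)
    · linear_combination v.2 * (Units.inv_mul lam)
  obtain ⟨k, hk⟩ := MulAction.exists_smul_eq K ((g0 • P).subtype hP'K) (P.subtype hPK)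
  refine ⟨(k : G) * g0, ?_, ?_⟩
  · simp_rw [Sylow.smul_subtype, Subgroup.smul_def, smul_smul] at hk
    exact Sylow.smul_eq_iff_mem_normalizer.mp (Sylow.subtype_injective hk)
  · obtain ⟨s, hs⟩ := k.2
    have h := hmul _ _ _ _ hs hg0
    have hz' := h (((1 : ℕ) : ZMod p), 0)
    have ha' := h (0, ((1 : ℕ) : ZMod p))
    have h1 : ((1 : ℕ) : ZMod p).val = 1 := by rw [Nat.cast_one, ZMod.val_one]
    rw [hEv, hEv] at hz' ha'
    simp only [h1, ZMod.val_zero, pow_zero, pow_one, mul_one, one_mul] at hz' ha'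
    simp only [upper, AddEquiv.coe_mk, Equiv.coe_fn_mk, Nat.cast_one, mul_one, mul_zero, add_zero, zero_add,
      ZMod.val_zero, pow_zero] at hz' ha'
    refine ⟨hz', (s * ((lam⁻¹ : (ZMod p)ˣ) : ZMod p)).val, ?_⟩
    rw [ha']
    exact ((show Commute zG a from congrArg Subtype.val (hcA zA aA)).pow_pow _ _).eq

/-- The torus element, when all automorphisms of order p of `A` are realised in `G`. -/
theorem exists_torus (P : Sylow p G) (hexpP : Monoid.exponent (P : Subgroup G) = p)
    (A : Subgroup G) (hAP : A ≤ P) (hAcard : Nat.card A = p ^ 2)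
    (hSL : ∀ φ : MulAut A, orderOf φ = p → ∃ g : G, ∀ a : A, (φ a : G) = g * (a : G) * g⁻¹)
    (zG a : G) (hzA : zG ∈ A) (haA : a ∈ A) (ha : a ∉ zpowers zG) (hz1 : zG ≠ 1)
    (hzc : ∀ u ∈ (P : Subgroup G), u * zG = zG * u)
    (hcomm : ∀ u ∈ (P : Subgroup G), ∃ t : ℕ, u * a * u⁻¹ = a * zG ^ t)
    (lam : (ZMod p)ˣ) :
    ∃ g : G, g ∈ normalizer ((P : Subgroup G) : Set G) ∧ g * zG * g⁻¹ = zG ^ (lam : ZMod p).val ∧
      ∃ n : ℕ, g * a * g⁻¹ = a ^ ((lam⁻¹ : (ZMod p)ˣ) : ZMod p).val * zG ^ n := by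
  obtain ⟨e, he⟩ := exists_coordEquiv P hexpP A hAP hAcard zG a hzA haA ha hz1
  have h1 : ((1 : ℕ) : ZMod p) ≠ 0 := by rw [Nat.cast_one]; exact one_ne_zero
  have hval : (1 : ZMod p).val = 1 := ZMod.val_one p
  refine exists_torus_of_gens P hexpP A hAP hAcard zG a hzA haA ha hz1 hzc hcomm ?_ ?_ lam
  · obtain ⟨g, hg⟩ := hSL (transfer e (upper 1)) (orderOf_transfer e upper
      (fun s t v => by simp [upper]; ring) (fun v => by simp [upper]) ⟨(0, 1), by simp [upper]⟩)
    have k1 := hg (e (Multiplicative.ofAdd (1, 0)))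
    have k2 := hg (e (Multiplicative.ofAdd (0, 1)))
    rw [transfer_apply, he, he] at k1 k2
    simp [upper, hval] at k1 k2
    refine ⟨g, 1, h1, k1.symm, ?_⟩
    rw [← k2, pow_one]
    exact congrArg Subtype.val (show (⟨zG, hzA⟩ : A) * ⟨a, haA⟩ = ⟨a, haA⟩ * ⟨zG, hzA⟩ from by
      have := IsPGroup.isMulCommutative_of_card_eq_prime_sq hAcard
      exact mul_comm' _ _)
  · obtain ⟨g, hg⟩ := hSL (transfer e (lower 1)) (orderOf_transfer e lower
      (fun s t v => by simp [lower]; ring) (fun v => by simp [lower]) ⟨(1, 0), by simp [lower]⟩)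
    have k1 := hg (e (Multiplicative.ofAdd (1, 0)))
    have k2 := hg (e (Multiplicative.ofAdd (0, 1)))
    rw [transfer_apply, he, he] at k1 k2
    simp [lower, hval] at k1 k2
    exact ⟨g, 1, h1, k2.symm, by rw [pow_one, ← k1]⟩

end Cfsg.Agent.H76.RT
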