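import Mathlib
import Cfsg.Agent.H76.HallTI
import Cfsg.Agent.Cores.Basic
import Cfsg.Agent.Coprime.Basic
import Cfsg.Agent.Coprime.Generation
import Cfsg.Agent.PGroups.Basic
import Cfsg.Agent.H41.Basic
import Cfsg.Agent.H61.RankOne

/-!
TI subgroups that are Hall in their normalisers, in π-separable groups.
-/

set_option autoImplicit false

namespace Cfsg.Agent.H76

variable {G : Type*} [Group G] [Finite G] {H : Subgroup G}

/-- A TI subgroup which is Hall in its normaliser is Hall in the group. -/
theorem ti_coprime_index (hTI : Cfsg.IsTISubset (H : Set G))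
    (hHall : (Nat.card H).Coprime (H.subgroupOf (Subgroup.normalizer (H : Set G))).index) :
    (Nat.card H).Coprime H.index := by
  refine Nat.coprime_of_dvd fun p hp hpH hpi => ?_
  have := Fact.mk hp
  set N := Subgroup.normalizer (H : Set G) with hN
  obtain ⟨S⟩ : Nonempty (Sylow p H) := inferInstance
  set P : Subgroup G := S.1.map H.subtype with hP
  set n := (Nat.card H).factorization p with hn
  have hPcard : Nat.card P = p ^ n := by
    rw [hP, Subgroup.card_map_of_injective (Subgroup.subtype_injective _), Sylow.card_eq_multiplicity]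
  have hdvd : p ^ (n + 1) ∣ Nat.card G := by
    rw [← H.card_mul_index, pow_succ]
    exact Nat.mul_dvd_mul (Nat.ordProj_dvd _ _) hpi
  have h1 : p ∣ P.relIndex (Subgroup.normalizer (P : Set G)) :=
    Sylow.prime_dvd_card_quotient_normalizer hdvd hPcard
  have hPH : P ≤ H := Subgroup.map_subtype_le _
  have hP1 : P ≠ ⊥ := by
    intro h
    rw [h, Subgroup.card_bot] at hPcard
    have hn0 : n = 0 := (Nat.pow_eq_one.mp hPcard.symm).resolve_left hp.one_lt.ne'
    have := hp.factorization_pos_of_dvd Nat.card_pos.ne' hpH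
    omega
  have hPN : Subgroup.normalizer (P : Set G) ≤ N := by
    intro g hg
    obtain ⟨x, hx, hx1⟩ := P.bot_or_exists_ne_one.resolve_left hP1
    by_contra hgN
    exact hx1 (hTI g hgN x (hPH hx) (hPH ((Subgroup.mem_normalizer_iff.mp hg x).mp hx)))
  have h2 : p ∣ P.relIndex H * H.relIndex N := by
    rw [Subgroup.relIndex_mul_relIndex _ _ _ hPH Subgroup.le_normalizer]
    exact h1.trans (Dvd.intro _
      (Subgroup.relIndex_mul_relIndex P (Subgroup.normalizer (P : Set G)) N Subgroup.le_normalizer hPN))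
  rcases hp.dvd_mul.mp h2 with h | h
  · have h3 : P.relIndex H = S.1.index := by
      rw [Subgroup.relIndex, hP, Subgroup.subgroupOf,
        Subgroup.comap_map_eq_self_of_injective (Subgroup.subtype_injective _)]
    exact S.not_dvd_index (h3 ▸ h)
  · exact Nat.not_coprime_of_dvd_of_dvd hp.one_lt hpH h hHall

/-- The largest normal subgroup of order prime to `n` is `sSup` of all of them. -/
theorem coprime_core (n : ℕ) :
    (sSup {K : Subgroup G | K.Normal ∧ (Nat.card K).Coprime n}).Normal ∧
      (Nat.card ↥(sSup {K : Subgroup G | K.Normal ∧ (Nat.card K).Coprime n})).Coprime n := by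
  set S := {K : Subgroup G | K.Normal ∧ (Nat.card K).Coprime n} with hS
  obtain ⟨M, hM, hmax⟩ := Set.Finite.exists_maximalFor id S (Set.toFinite S)
    ⟨⊥, inferInstance, by simp⟩
  have hle : ∀ K ∈ S, K ≤ M := by
    intro K hK
    have := hM.1
    have := hK.1
    have hKM : K ⊔ M ∈ S := ⟨inferInstance,
      (Nat.Coprime.mul_left hK.2 hM.2).coprime_dvd_left (Cores.card_sup_dvd K M)⟩
    exact le_sup_left.trans (hmax hKM le_sup_right)
  rw [le_antisymm (sSup_le hle) (le_sSup hM)]
  exact hM

/-- `G = O · N(H)` and `O H` is normal, for `O` the largest normal subgroup of order prime to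
that of the non-normal TI subgroup `H`, in the π-separable case. -/
theorem ti_separable_frattini (hTI : Cfsg.IsTISubset (H : Set G)) (hnn : ¬ H.Normal)
    (hHall : (Nat.card H).Coprime (H.subgroupOf (Subgroup.normalizer (H : Set G))).index)
    (hsep : ∃ (n : ℕ) (M : Fin (n + 1) → Subgroup G), M 0 = ⊥ ∧ M (Fin.last n) = ⊤ ∧ Monotone M ∧ (∀ i, (M i).Normal) ∧
      ∀ i : Fin n, (∀ q : ℕ, q.Prime → q ∣ (M i.castSucc).relIndex (M i.succ) → q ∣ Nat.card H) ∨
        ((M i.castSucc).relIndex (M i.succ)).Coprime (Nat.card H))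
    {O : Subgroup G} (hO : O = sSup {K : Subgroup G | K.Normal ∧ (Nat.card K).Coprime (Nat.card H)}) :
    O ⊔ Subgroup.normalizer (H : Set G) = ⊤ ∧ (O ⊔ H).Normal ∧
      ¬ O ≤ Subgroup.normalizer (H : Set G) := by
  obtain ⟨hOn, hOc⟩ := coprime_core (G := G) (Nat.card H)
  rw [← hO] at hOn hOc
  have hmaxO : ∀ K : Subgroup G, K.Normal → (Nat.card K).Coprime (Nat.card H) → K ≤ O :=
    fun K h1 h2 => hO ▸ le_sSup ⟨h1, h2⟩
  have hidx := ti_coprime_index hTI hHall
  obtain ⟨n, M, hM0, hMl, hMm, hMn, hstep⟩ := hsep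
  have hlast : ¬ M (Fin.last n) ≤ O := by
    intro h
    rw [hMl, top_le_iff] at h
    apply hnn
    have hd : Nat.card H ∣ Nat.card O := by
      rw [h, Subgroup.card_top]; exact Subgroup.card_subgroup_dvd_card H
    have : H = ⊥ := Subgroup.eq_bot_of_card_eq H (Nat.eq_one_of_dvd_coprimes hOc hd dvd_rfl)
    rw [this]; infer_instance
  obtain ⟨i, hi, hi'⟩ : ∃ i : Fin n, M i.castSucc ≤ O ∧ ¬ M i.succ ≤ O := by
    by_contra hcon
    push Not at hcon
    have : ∀ j : Fin (n + 1), M j ≤ O := by
      intro j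
      induction j using Fin.induction with
      | zero => rw [hM0]; exact bot_le
      | succ j ih => exact hcon j ih
    exact hlast (this _)
  set L := O ⊔ M i.succ with hL
  have := hMn i.succ
  have hLn : L.Normal := inferInstance
  have hOL : O ≤ L := le_sup_left
  have hrel : O.relIndex L ∣ (M i.castSucc).relIndex (M i.succ) := by
    rw [hL, sup_comm, Subgroup.relIndex_sup_right]
    exact Subgroup.relIndex_dvd_of_le_left _ hi
  -- the new factor is a π-number
  have hπ : ∀ q : ℕ, q.Prime → q ∣ O.relIndex L → q ∣ Nat.card H := by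
    rcases hstep i with h | h
    · exact fun q hq hd => h q hq (hd.trans hrel)
    · exfalso
      refine hi' (le_sup_right.trans (hmaxO L hLn ?_))
      have hcard : Nat.card O * O.relIndex L = Nat.card L := by
        rw [← Subgroup.relIndex_bot_left, ← Subgroup.relIndex_bot_left]
        exact Subgroup.relIndex_mul_relIndex _ _ _ bot_le hOL
      rw [← hcard]
      exact Nat.Coprime.mul_left hOc (h.coprime_dvd_left hrel)
  set D := L ⊓ H with hD
  have hHL : H.relIndex L ∣ H.index := by
    have e1 : D.relIndex H * H.relIndex (H ⊔ L) = D.relIndex L * L.relIndex (H ⊔ L) := by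
      rw [Subgroup.relIndex_mul_relIndex _ _ _ inf_le_right le_sup_left,
        Subgroup.relIndex_mul_relIndex _ _ _ inf_le_left le_sup_right]
    rw [hD, Subgroup.inf_relIndex_right, Subgroup.relIndex_sup_right,
      Subgroup.inf_relIndex_left] at e1
    have hne : L.relIndex H ≠ 0 := Subgroup.index_ne_zero_of_finite
    have e2 : H.relIndex (H ⊔ L) = H.relIndex L :=
      Nat.eq_of_mul_eq_mul_left (Nat.pos_of_ne_zero hne) (by rw [e1, mul_comm])
    rw [← e2]
    exact Subgroup.relIndex_dvd_index_of_le le_sup_left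
  have hOD : O ⊔ D = L := by
    refine le_antisymm (sup_le hOL inf_le_left) ?_
    rw [← Subgroup.relIndex_eq_one]
    have h1 : (O ⊔ D).relIndex L ∣ O.relIndex L := Subgroup.relIndex_dvd_of_le_left _ le_sup_left
    have h2 : (O ⊔ D).relIndex L ∣ H.relIndex L := by
      rw [← Subgroup.inf_relIndex_left L H]
      exact Subgroup.relIndex_dvd_of_le_left _ le_sup_right
    refine Nat.coprime_self _ |>.mp ?_
    exact coprime_of_primes_dvd (fun q hq hd => hπ q hq (hd.trans h1))
      (hidx.coprime_dvd_right (h2.trans hHL))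
  have hD1 : D ≠ ⊥ := by
    intro h
    rw [h, sup_bot_eq] at hOD
    exact hi' (hOD ▸ le_sup_right)
  have hfrat : ∀ g : G, g ∈ O ⊔ Subgroup.normalizer (H : Set G) := by
    intro g
    obtain ⟨d, hd, hd1⟩ := D.bot_or_exists_ne_one.resolve_left hD1
    let H' := H.subgroupOf L
    have hH'card : Nat.card H' = Nat.card D := by
      rw [← Subgroup.card_map_of_injective (L.subtype_injective), Subgroup.subgroupOf_map_subtype,
        inf_comm, ← hD]
    have hDdvd : Nat.card D ∣ Nat.card H := Subgroup.card_dvd_of_le inf_le_right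
    have hH'Hall : (Nat.card H').Coprime H'.index := by
      rw [hH'card]
      exact (hidx.coprime_dvd_left hDdvd).coprime_dvd_right hHL
    have hH'TI : Cfsg.IsTISubset (H' : Set L) := by
      intro k hk x hx hkx
      by_contra hx1
      apply hk
      have hkN : (k : G) ∈ Subgroup.normalizer (H : Set G) := by
        by_contra hkN
        exact hx1 (Subtype.ext (hTI k hkN x (Subgroup.mem_subgroupOf.mp hx) hkx))
      rw [Subgroup.mem_normalizer_iff]
      intro y
      simp only [H', Subgroup.mem_subgroupOf, Subgroup.coe_mul, Subgroup.coe_inv]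
      exact Subgroup.mem_normalizer_iff.mp hkN y
    let K := (D.map (MulAut.conj g).toMonoidHom).subgroupOf L
    have hKle : D.map (MulAut.conj g).toMonoidHom ≤ L := by
      rintro _ ⟨y, hy, rfl⟩
      exact hLn.conj_mem y hy.1 g
    have hK : Nat.card K = Nat.card H' := by
      rw [hH'card, Nat.card_congr (Subgroup.subgroupOfEquivOfLe hKle).toEquiv,
        Subgroup.card_map_of_injective (MulEquiv.injective _)]
    obtain ⟨a, ha⟩ := ti_hall_dominates hH'Hall hH'TI K (fun q hq h => hK ▸ h)
    have hdL : g * d * g⁻¹ ∈ L := hLn.conj_mem d hd.1 g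
    have h1 : (a : G)⁻¹ * (g * d * g⁻¹) * a ∈ H := ha ⟨_, hdL⟩ ⟨d, hd, rfl⟩
    have h2 : g⁻¹ * a ∈ Subgroup.normalizer (H : Set G) :=
      ti_conj_unique hTI (x := g * d * g⁻¹) (by rw [ne_eq, conj_eq_one_iff]; exact hd1)
        (by have : g⁻¹ * (g * d * g⁻¹) * g = d := by group
            rw [this]; exact hd.2) h1
    have ha' : (a : G) ∈ O ⊔ Subgroup.normalizer (H : Set G) := by
      have := hOD.ge a.2
      exact (sup_le_sup_left (inf_le_right.trans Subgroup.le_normalizer) O) this
    have h3 := Subgroup.mul_mem _ ha' (Subgroup.inv_mem _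
      ((le_sup_right (a := O)) h2))
    simpa using h3
  have htop : O ⊔ Subgroup.normalizer (H : Set G) = ⊤ := eq_top_iff.mpr fun g _ => hfrat g
  refine ⟨htop, ?_, ?_⟩
  · rw [← Subgroup.normalizer_eq_top_iff, eq_top_iff, ← htop]
    refine sup_le (le_sup_left.trans Subgroup.le_normalizer) fun g hg => ?_
    apply Coprime.mem_normalizer_of_map_conj
    rw [Subgroup.map_sup, Coprime.map_conj_eq hg, Coprime.map_conj_eq]
    rw [Subgroup.normalizer_eq_top_iff.mpr hOn]
    trivial
  · intro h
    rw [sup_eq_right.mpr h, Subgroup.normalizer_eq_top_iff] at htop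
    exact hnn htop

omit [Finite G] in
/-- Elements of `O` normalising `H` centralise it. -/
theorem ti_fixed_le_centralizer {O : Subgroup G} [O.Normal]
    (hOc : (Nat.card O).Coprime (Nat.card H)) {o : G} (ho : o ∈ O)
    (hoN : o ∈ Subgroup.normalizer (H : Set G)) : o ∈ Subgroup.centralizer (H : Set G) := by
  rw [Subgroup.mem_centralizer_iff]
  intro k hk
  have h1 : k * o * k⁻¹ * o⁻¹ ∈ O :=
    O.mul_mem (‹O.Normal›.conj_mem o ho k) (O.inv_mem ho)
  have h2 : k * o * k⁻¹ * o⁻¹ ∈ H := by
    have := H.mul_mem hk ((Subgroup.mem_normalizer_iff.mp hoN k⁻¹).mp (H.inv_mem hk))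
    simpa [mul_assoc] using this
  have h3 := Subgroup.mem_inf.mpr ⟨h1, h2⟩
  rw [Coprime.inf_eq_bot hOc, Subgroup.mem_bot, mul_inv_eq_one, mul_inv_eq_iff_eq_mul] at h3
  exact h3

/-- `H` contains no noncyclic abelian subgroup. -/
theorem ti_abelian_isCyclic (hTI : Cfsg.IsTISubset (H : Set G)) {O : Subgroup G} [O.Normal]
    (hOc : (Nat.card O).Coprime (Nat.card H)) (hO : ¬ O ≤ Subgroup.normalizer (H : Set G))
    {A : Subgroup G} [IsMulCommutative A] (hA : A ≤ H) : IsCyclic A := by
  by_contra hnc
  apply hO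
  refine Coprime.le_of_centralizer_noncyclic_le (A := A) hnc ?_
    ((hOc.coprime_dvd_right (Subgroup.card_dvd_of_le hA)).symm) ?_
  · rw [Subgroup.normalizer_eq_top_iff.mpr inferInstance]; exact le_top
  · intro a ha ha1 x hx
    by_contra hxN
    apply ha1
    refine hTI x hxN a (hA ha) ?_
    rw [← Subgroup.mem_centralizer_iff.mp hx.2 a rfl, mul_inv_cancel_right]
    exact hA ha

/-- If the Sylow 2-subgroups of `H` are abelian, all its Sylow subgroups are cyclic. -/
theorem ti_isZGroup (hTI : Cfsg.IsTISubset (H : Set G)) {O : Subgroup G} [O.Normal]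
    (hOc : (Nat.card O).Coprime (Nat.card H)) (hO : ¬ O ≤ Subgroup.normalizer (H : Set G))
    (h2 : ∀ P : Sylow 2 H, IsMulCommutative (P : Subgroup H)) : IsZGroup H := by
  refine ⟨fun p hp P => ?_⟩
  have := Fact.mk hp
  set P' : Subgroup G := (P : Subgroup H).map H.subtype with hP'
  have hP'H : P' ≤ H := Subgroup.map_subtype_le _
  let e : (P : Subgroup H) ≃* P' :=
    (P : Subgroup H).equivMapOfInjective H.subtype H.subtype_injective
  suffices IsCyclic P' from isCyclic_of_surjective e.symm.toMonoidHom e.symm.surjective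
  by_cases hp2 : p = 2
  · subst hp2
    have := h2 P
    have : IsMulCommutative P' := ⟨⟨fun a b => e.symm.injective (by
      rw [map_mul, map_mul]; exact this.is_comm.comm _ _)⟩⟩
    exact ti_abelian_isCyclic hTI hOc hO hP'H
  · have hPp : IsPGroup p P' := P.isPGroup'.map H.subtype
    refine H61.isCyclic_of_card_pow_eq_one_le hp2 hPp ?_
    by_contra hcon
    push Not at hcon
    have hne : (⊤ : Subgroup P') ≠ ⊥ := by
      intro h
      have h1 : Nat.card P' = 1 := by rw [← Subgroup.card_top, h, Subgroup.card_bot]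
      have h2 : Nat.card {x : P' // x ^ p = 1} ≤ Nat.card P' :=
        Nat.card_le_card_of_injective _ Subtype.val_injective
      have := hp.two_le
      omega
    obtain ⟨z, -, hzc, hzord⟩ := PGroups.exists_mem_center_orderOf_eq hPp ⊤ hne
    have hzp : Nat.card (Subgroup.zpowers z) = p := by rw [Nat.card_zpowers, hzord]
    obtain ⟨y, hyp, hy⟩ : ∃ y : P', y ^ p = 1 ∧ y ∉ Subgroup.zpowers z := by
      by_contra h
      push Not at h
      have := Nat.card_le_card_of_injective
        (fun x : {x : P' // x ^ p = 1} => (⟨x.1, h x.1 x.2⟩ : Subgroup.zpowers z))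
        (fun a b hab => Subtype.ext (congrArg Subtype.val hab :))
      omega
    have hy1 : y ≠ 1 := fun h => hy (h ▸ one_mem _)
    have hyord : orderOf y = p := orderOf_eq_prime hyp hy1
    have hzy : Commute (z : G) (y : G) :=
      (congrArg Subtype.val (Subgroup.mem_center_iff.mp hzc y)).symm
    let A := Subgroup.closure ({(z : G), (y : G)} : Set G)
    have hAc : IsMulCommutative A := Subgroup.isMulCommutative_closure (by
      simp only [Set.mem_insert_iff, Set.mem_singleton_iff]
      rintro a (rfl | rfl) b (rfl | rfl)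
      exacts [rfl, hzy, hzy.symm, rfl])
    have hAH : A ≤ H := (Subgroup.closure_le H).mpr (by
      rintro a (rfl | rfl)
      exacts [hP'H z.2, hP'H y.2])
    have hAcyc := ti_abelian_isCyclic hTI hOc hO hAH
    have heq : Subgroup.zpowers (y : G) = Subgroup.zpowers (z : G) :=
      H41.eq_of_card_eq_of_le_cyclic hAcyc
        (Subgroup.zpowers_le.mpr (Subgroup.subset_closure (by simp)))
        (Subgroup.zpowers_le.mpr (Subgroup.subset_closure (by simp)))
        (by rw [Nat.card_zpowers, Nat.card_zpowers, Subgroup.orderOf_coe, Subgroup.orderOf_coe,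
              hyord, hzord])
    apply hy
    have : (y : G) ∈ Subgroup.zpowers (z : G) := heq ▸ Subgroup.mem_zpowers _
    obtain ⟨k, hk⟩ := Subgroup.mem_zpowers_iff.mp this
    exact Subgroup.mem_zpowers_iff.mpr ⟨k, Subtype.ext (by rw [← hk]; rfl)⟩

end Cfsg.Agent.H76
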