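import Mathlib

/-!
Three primes in `(m / 2, m]` for `m ≥ 17` (after the proof of Bertrand's postulate).
-/

set_option autoImplicit false

namespace Cfsg.Agent.H76

theorem centralBinom_le_of_le_two_primes (n : ℕ) (hn : 2 < n)
    (h : ((Finset.range (2 * n + 1)).filter fun p => p.Prime ∧ n < p).card ≤ 2) :
    Nat.centralBinom n ≤ (2 * n) ^ 2 * ((2 * n) ^ Nat.sqrt (2 * n) * 4 ^ (2 * n / 3)) := by
  classical
  let f : ℕ → ℕ := fun p => p ^ (Nat.centralBinom n).factorization p
  have hf : ∀ p, f p ≤ 2 * n := fun p => Nat.pow_factorization_choose_le (by omega)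
  have key : ∀ p ∈ Finset.range (2 * n + 1), f p ≤
      (if p.Prime ∧ n < p then 2 * n else 1) * (if 1 ≤ p ∧ p ≤ Nat.sqrt (2 * n) then 2 * n else 1) *
        (if p.Prime ∧ p ≤ 2 * n / 3 then p else 1) := by
    intro p _
    by_cases hp : p.Prime
    · have hp1 : 1 ≤ p := hp.one_lt.le
      by_cases h1 : n < p
      · rw [if_pos ⟨hp, h1⟩]
        refine (hf p).trans ?_
        have a : 1 ≤ (if 1 ≤ p ∧ p ≤ Nat.sqrt (2 * n) then 2 * n else 1) := by split_ifs <;> omega
        have b : 1 ≤ (if p.Prime ∧ p ≤ 2 * n / 3 then p else 1) := by split_ifs <;> omega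
        exact le_trans (Nat.le_mul_of_pos_right _ a) (Nat.le_mul_of_pos_right _ b)
      rw [if_neg (fun h => h1 h.2), one_mul]
      by_cases h2 : p ≤ Nat.sqrt (2 * n)
      · rw [if_pos ⟨hp1, h2⟩]
        refine (hf p).trans (Nat.le_mul_of_pos_right _ ?_)
        split_ifs <;> omega
      rw [if_neg (fun h => h2 h.2), one_mul]
      by_cases h3 : p ≤ 2 * n / 3
      · rw [if_pos ⟨hp, h3⟩]
        calc f p ≤ p ^ 1 := Nat.pow_le_pow_right hp1
              (Nat.factorization_choose_le_one (Nat.sqrt_lt'.mp (not_le.1 h2)))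
          _ = p := pow_one p
      · rw [if_neg (fun h => h3 h.2)]
        show p ^ (Nat.centralBinom n).factorization p ≤ 1
        rw [Nat.factorization_centralBinom_of_two_mul_self_lt_three_mul hn (by omega) (by omega)]
        simp
    · show p ^ (Nat.centralBinom n).factorization p ≤ _
      rw [Nat.factorization_eq_zero_of_not_prime _ hp, pow_zero]
      have a : 1 ≤ (if 1 ≤ p ∧ p ≤ Nat.sqrt (2 * n) then 2 * n else 1) := by split_ifs <;> omega
      rw [if_neg (fun h : p.Prime ∧ n < p => hp h.1),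
        if_neg (fun h : p.Prime ∧ p ≤ 2 * n / 3 => hp h.1), one_mul, mul_one]
      exact a
  rw [← Nat.prod_pow_factorization_centralBinom n]
  refine (Finset.prod_le_prod' key).trans ?_
  rw [Finset.prod_mul_distrib, Finset.prod_mul_distrib, mul_assoc]
  refine Nat.mul_le_mul ?_ (Nat.mul_le_mul ?_ ?_)
  · rw [← Finset.prod_filter, Finset.prod_const]
    exact Nat.pow_le_pow_right (by omega) h
  · rw [← Finset.prod_filter, Finset.prod_const]
    refine Nat.pow_le_pow_right (by omega) ?_
    refine (Finset.card_le_card (t := Finset.Icc 1 (Nat.sqrt (2 * n))) ?_).trans (by simp)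
    intro x hx
    obtain ⟨-, h1, h2⟩ := Finset.mem_filter.1 hx
    exact Finset.mem_Icc.2 ⟨h1, h2⟩
  · rw [← Finset.prod_filter]
    refine le_trans ?_ (primorial_le_four_pow (2 * n / 3))
    refine Finset.prod_le_prod_of_subset_of_one_le' ?_ ?_
    · intro x hx
      obtain ⟨-, h1, h2⟩ := Finset.mem_filter.1 hx
      exact Finset.mem_filter.2 ⟨Finset.mem_range.2 (by omega), h1⟩
    · exact fun p hp _ => (Finset.mem_filter.1 hp).2.one_lt.le

theorem three_primes_inequality (n : ℕ) (hn : 1180 ≤ n) :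
    n * ((2 * n) ^ 2 * ((2 * n) ^ Nat.sqrt (2 * n) * 4 ^ (2 * n / 3))) ≤ 4 ^ n := by
  set s := Nat.sqrt (2 * n) with hsdef
  have hs1 : s * s ≤ 2 * n := Nat.sqrt_le _
  have hs2 : 2 * n < (s + 1) * (s + 1) := Nat.lt_succ_sqrt _
  have hs48 : 48 ≤ s := Nat.le_sqrt.2 (by omega)
  set t := (s + 1) / 8
  have hexp8 : ∀ t : ℕ, 6 ≤ t → 8 * t + 8 ≤ 2 ^ t := by
    intro t ht
    induction t, ht using Nat.le_induction with
    | base => norm_num
    | succ t ht ih => rw [pow_succ]; omega
  have h2 : s + 1 ≤ 2 ^ t := le_trans (by omega) (hexp8 t (by omega))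
  have hb : 2 * n ≤ 2 ^ (2 * t) := by
    rw [two_mul t, pow_add]
    exact le_trans hs2.le (Nat.mul_le_mul h2 h2)
  have hexp : 2 * t * (s + 3) ≤ 2 * (n - 2 * n / 3) := by
    have h4 : 8 * t * (s + 3) ≤ (s + 1) * (s + 3) := Nat.mul_le_mul_right _ (Nat.mul_div_le _ 8)
    have h5 : 3 * (n - 2 * n / 3) ≥ n := by omega
    nlinarith
  calc n * ((2 * n) ^ 2 * ((2 * n) ^ s * 4 ^ (2 * n / 3)))
      ≤ (2 * n) ^ (s + 3) * 4 ^ (2 * n / 3) := by
        rw [← mul_assoc, ← mul_assoc]
        refine Nat.mul_le_mul_right _ ?_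
        rw [pow_add, mul_comm ((2 * n) ^ s)]
        refine Nat.mul_le_mul_right _ ?_
        rw [pow_succ' (2 * n) 2]
        exact Nat.mul_le_mul_right _ (by omega)
    _ ≤ (2 ^ (2 * t)) ^ (s + 3) * 4 ^ (2 * n / 3) := by gcongr
    _ ≤ 4 ^ (n - 2 * n / 3) * 4 ^ (2 * n / 3) := by
        refine Nat.mul_le_mul_right _ ?_
        rw [← pow_mul, show (4 : ℕ) = 2 ^ 2 from rfl, ← pow_mul]
        exact Nat.pow_le_pow_right (by norm_num) hexp
    _ = 4 ^ n := by rw [← pow_add]; congr 1; omega

theorem three_le_card_primes (n : ℕ) (hn : 9 ≤ n) :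
    3 ≤ ((Finset.range (2 * n + 1)).filter fun p => p.Prime ∧ n < p).card := by
  classical
  have key : ∀ a b c : ℕ, a.Prime → b.Prime → c.Prime → a < b → b < c → n < a → c ≤ 2 * n →
      3 ≤ ((Finset.range (2 * n + 1)).filter fun p => p.Prime ∧ n < p).card := by
    intro a b c ha hb hc hab hbc hna hcn
    refine le_trans (le_of_eq ?_) (Finset.card_le_card (s := ({a, b, c} : Finset ℕ)) ?_)
    · rw [Finset.card_insert_of_notMem (by simp; omega),
        Finset.card_insert_of_notMem (by simp; omega), Finset.card_singleton]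
    · intro x hx
      simp only [Finset.mem_insert, Finset.mem_singleton] at hx
      simp only [Finset.mem_filter, Finset.mem_range]
      rcases hx with rfl | rfl | rfl <;> exact ⟨by omega, ‹_›, by omega⟩
  rcases lt_or_ge n 1180 with h | h
  · rcases lt_or_ge n 11 with h1 | h1
    · exact key 11 13 17 (by norm_num) (by norm_num) (by norm_num) (by norm_num) (by norm_num) h1 (by omega)
    rcases lt_or_ge n 13 with h2 | h2
    · exact key 13 17 19 (by norm_num) (by norm_num) (by norm_num) (by norm_num) (by norm_num) h2 (by omega)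
    rcases lt_or_ge n 17 with h3 | h3
    · exact key 17 19 23 (by norm_num) (by norm_num) (by norm_num) (by norm_num) (by norm_num) h3 (by omega)
    rcases lt_or_ge n 23 with h4 | h4
    · exact key 23 29 31 (by norm_num) (by norm_num) (by norm_num) (by norm_num) (by norm_num) h4 (by omega)
    rcases lt_or_ge n 37 with h5 | h5
    · exact key 37 41 43 (by norm_num) (by norm_num) (by norm_num) (by norm_num) (by norm_num) h5 (by omega)
    rcases lt_or_ge n 67 with h6 | h6
    · exact key 67 71 73 (by norm_num) (by norm_num) (by norm_num) (by norm_num) (by norm_num) h6 (by omega)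
    rcases lt_or_ge n 113 with h7 | h7
    · exact key 113 127 131 (by norm_num) (by norm_num) (by norm_num) (by norm_num) (by norm_num) h7 (by omega)
    rcases lt_or_ge n 199 with h8 | h8
    · exact key 199 211 223 (by norm_num) (by norm_num) (by norm_num) (by norm_num) (by norm_num) h8 (by omega)
    rcases lt_or_ge n 383 with h9 | h9
    · exact key 383 389 397 (by norm_num) (by norm_num) (by norm_num) (by norm_num) (by norm_num) h9 (by omega)
    rcases lt_or_ge n 751 with h10 | h10
    · exact key 751 757 761 (by norm_num) (by norm_num) (by norm_num) (by norm_num) (by norm_num) h10 (by omega)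
    exact key 1489 1493 1499 (by norm_num) (by norm_num) (by norm_num) (by norm_num) (by norm_num) (by omega) (by omega)
  · by_contra hc
    have h1 := Nat.four_pow_lt_mul_centralBinom n (by omega)
    have h2 := Nat.mul_le_mul_left n (centralBinom_le_of_le_two_primes n (by omega) (by omega))
    have h3 := three_primes_inequality n h
    omega

/-- Three primes in `(m / 2, m]` for `m ≥ 17`. -/
theorem exists_far_primes (m : ℕ) (hm : 17 ≤ m) :
    ∃ p q : ℕ, p.Prime ∧ q.Prime ∧ m < 2 * p ∧ p + 3 ≤ q ∧ q ≤ m := by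
  classical
  rcases lt_or_ge m 18 with h | h
  · exact ⟨11, 17, by norm_num, by norm_num, by omega, by norm_num, by omega⟩
  set S := (Finset.range (2 * (m / 2) + 1)).filter fun p => p.Prime ∧ m / 2 < p with hS
  have hcard := three_le_card_primes (m / 2) (by omega)
  rw [← hS] at hcard
  have hne : S.Nonempty := Finset.card_pos.mp (by omega)
  obtain ⟨a, ha, hamin⟩ : ∃ a ∈ S, ∀ x ∈ S, a ≤ x :=
    ⟨_, Finset.min'_mem S hne, fun x hx => Finset.min'_le S x hx⟩
  obtain ⟨c, hc, hcmax⟩ : ∃ c ∈ S, ∀ x ∈ S, x ≤ c :=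
    ⟨_, Finset.max'_mem S hne, fun x hx => Finset.le_max' S x hx⟩
  obtain ⟨b, hb, hba, hbc⟩ : ∃ b ∈ S, b ≠ a ∧ b ≠ c := by
    by_contra hcon
    push Not at hcon
    have hsub : S ⊆ {a, c} := by
      intro x hx
      rw [Finset.mem_insert, Finset.mem_singleton]
      exact or_iff_not_imp_left.mpr (hcon x hx)
    have := Finset.card_le_card hsub
    have := Finset.card_le_two (a := a) (b := c)
    omega
  have h1 : a < b := lt_of_le_of_ne (hamin b hb) (Ne.symm hba)
  have h2 : b < c := lt_of_le_of_ne (hcmax b hb) hbc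
  simp only [hS, Finset.mem_filter, Finset.mem_range] at ha hb hc
  refine ⟨a, c, ha.2.1, hc.2.1, by omega, ?_, by omega⟩
  -- `a, b, c` are odd
  obtain ⟨i, hi⟩ := ha.2.1.odd_of_ne_two (by omega)
  obtain ⟨j, hj⟩ := hb.2.1.odd_of_ne_two (by omega)
  obtain ⟨l, hl⟩ := hc.2.1.odd_of_ne_two (by omega)
  omega

end Cfsg.Agent.H76
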